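import Mathlib
import Cfsg.Agent.SUm.Bas
import Cfsg.Agent.Chev.StSL

/-! The group theoretic configurations. -/

set_option autoImplicit false
set_option linter.unusedSectionVars false

noncomputable section

namespace Cfsg.Agent.SUm

open Cfsg Cfsg.Agent.Cl Cfsg.Agent.Loc.Mss Subgroup Module
open Cfsg.Agent.StdB (C1 mem_C1 El)
open scoped commutatorElement

variable {F : Type*} [Field F] {σ : F →+* F} {V : Type*} [AddCommGroup V] [Module F V]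
  {B : V →ₗ[F] V →ₛₗ[σ] F} {q : ℕ} {G : Type*} [Group G]

/-- The kernel consists of scalars. -/
def IsE {D : Subgroup (SG F V)} (ψ : D →* G) : Prop := ∀ x ∈ D, ev ψ x = 1 → x ∈ Sc F V

theorem IsE.cjh {D : Subgroup (SG F V)} {ψ : D →* G} (h : IsE ψ) (g : G) : IsE (cjh g ψ) := fun x hx e =>
  h x hx (by rwa [ev_cjh, conj_eq_one_iff] at e)

variable (B q G) in
/-- An involution `t` whose centralizer normalizes an image `L` of `SU`, with cyclic 2-subgroups in `C(t) ∩ C(L)`. -/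
structure Cfg where
  sp : Sp B q
  ψ : SU B →* G
  ker : IsE ψ
  t : G
  t2 : t * t = 1
  t1 : t ≠ 1
  cen : t ∈ 𝐂[ψ.range]
  nrm : C1 t ≤ 𝐍[ψ.range]
  cyc : ∀ P : Subgroup G, IsPGroup 2 P → P ≤ C1 t ⊓ 𝐂[ψ.range] → IsCyclic P

namespace Cfg

variable (c : Cfg B q G)

/-- The standard subgroup. -/
abbrev L : Subgroup G := c.ψ.range

/-- The centralizer of `t`. -/
abbrev C : Subgroup G := C1 c.t

/-- The centralizer of `t` and `L`. -/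
abbrev K0 : Subgroup G := C1 c.t ⊓ 𝐂[c.ψ.range]

/-- The image of an element. -/
abbrev Ψ (x : SG F V) : G := ev c.ψ x

/-- The image of a subgroup. -/
abbrev I (H : Subgroup (SG F V)) : Subgroup G := im c.ψ H

/-- Transvections. -/
def z (v : V) (a : F) : G := ev c.ψ (tv B v a)

/-- The involutions of rank two. -/
def x (v w : V) : G := ev c.ψ (xx B v w)

/-- The group `A_W ⟨t⟩`. -/
def E (W : Submodule F V) : Subgroup G := im c.ψ (AW B W) ⊔ zpowers c.t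

/-- The elements that centralize the pointwise stabilizer of `X` and move `t` inside `t A_X`. -/
def PX (X : Submodule F V) : Subgroup G := 𝐂[im c.ψ (FW B X)] ⊓ 𝐍[c.E X]

/-- The case of a point. -/
def Yt (v : V) : Subgroup G := c.PX (F ∙ v)

/-- `⟨t⟩` is a Sylow subgroup of `K0`. -/
def Two : Prop := ∀ g ∈ c.K0, (∃ n : ℕ, g ^ 2 ^ n = 1) → g = 1 ∨ g = c.t

/-- `K0 = ⟨t⟩`. -/
def Tight : Prop := ∀ g ∈ c.K0, g = 1 ∨ g = c.t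

/-- The result of the fusion analysis. -/
structure Fus (e : V) : Prop where
  iso : Iso B e
  two : c.Two
  ex : ∃ n ∈ 𝐍[c.I (M1 B e)] ⊓ 𝐍[c.I (Qv B e)] ⊓ 𝐍[c.I (Zv B e)],
    ∃ a, σ a = a ∧ a ≠ 0 ∧ n * c.t * n⁻¹ = c.t * c.z e a

/-- All translations of `t` by transvections are induced by the centralizer of the vector stabilizer. -/
def Tr : Prop := ∀ v, Iso B v → ∀ a, σ a = a → ∃ y ∈ 𝐂[c.I (M1 B v)], y * c.t * y⁻¹ = c.t * c.z v a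

/-- The conjugate configuration. -/
def conj (g : G) : Cfg B q G where
  sp := c.sp
  ψ := cjh g c.ψ
  ker := c.ker.cjh g
  t := g * c.t * g⁻¹
  t2 := by rw [conj_mul, c.t2]; simp
  t1 := fun h => c.t1 (conj_eq_one_iff.1 h)
  cen := by rw [range_cjh, ← cj_cent]; exact conj_mem_cj c.cen
  nrm := fun y hy => by
    rw [range_cjh, ← cj_norm, mem_cj]
    refine c.nrm (mem_C1.2 ?_)
    have := mem_C1.1 hy
    calc g⁻¹ * y * g * c.t = g⁻¹ * (y * (g * c.t * g⁻¹)) * g := by group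
      _ = _ := by rw [this]; group
  cyc := fun P hP hle => by
    have := c.cyc cj(g⁻¹, P) (pg_cj hP _) (by
      rw [cj_le_iff]
      intro y hy
      obtain ⟨h1, h2⟩ := hle hy
      rw [range_cjh, ← cj_cent] at h2
      refine ⟨mem_C1.2 ?_, by simpa using mem_cj.1 h2⟩
      have := mem_C1.1 h1
      calc g⁻¹ * y * g⁻¹⁻¹ * c.t = g⁻¹ * (y * (g * c.t * g⁻¹)) * g := by group
        _ = _ := by rw [this]; group)
    exact (MulEquiv.isCyclic ((MulAut.conj g⁻¹).subgroupMap P)).2 this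

theorem conj_t (g : G) : (c.conj g).t = g * c.t * g⁻¹ := rfl
theorem conj_L (g : G) : (c.conj g).L = cj(g, c.L) := range_cjh g
theorem conj_I (g : G) (H : Subgroup (SG F V)) : (c.conj g).I H = cj(g, c.I H) := im_cjh g H
theorem conj_Ψ (g : G) (x : SG F V) : (c.conj g).Ψ x = g * c.Ψ x * g⁻¹ := ev_cjh g x
theorem conj_z (g : G) (v : V) (a : F) : (c.conj g).z v a = g * c.z v a * g⁻¹ := ev_cjh g _
theorem conj_x (g : G) (v w : V) : (c.conj g).x v w = g * c.x v w * g⁻¹ := ev_cjh g _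

theorem comm_t {a : G} (ha : a ∈ c.L) : a * c.t = c.t * a := mem_cent.1 c.cen a ha
theorem L_le_C : c.L ≤ c.C := fun _ ha => mem_C1.2 (c.comm_t ha)
theorem Ψ_mem (x : SG F V) : c.Ψ x ∈ c.L := ev_mem_range x
theorem z_mem (v : V) (a : F) : c.z v a ∈ c.L := ev_mem_range _
theorem x_mem (v w : V) : c.x v w ∈ c.L := ev_mem_range _
theorem t_inv : c.t⁻¹ = c.t := inv_eq_of_mul_eq_one_right c.t2
theorem t_mem_K0 : c.t ∈ c.K0 := ⟨mem_C1.2 rfl, c.cen⟩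
theorem Tight.two {c : Cfg B q G} (h : c.Tight) : c.Two := fun g hg _ => h g hg

/-- The doubled transvection groups, before they are known to be elementary abelian. -/
structure Zd where
  Zh : V → Subgroup G
  κ : F
  le : ∀ v, Iso B v → Zh v ≤ c.Yt v
  ge : ∀ v, Iso B v → c.I (Zv B v) ≤ Zh v
  onto : ∀ v, Iso B v → ∀ a, σ a = a → ∃ y ∈ Zh v, y * c.t * y⁻¹ = c.t * c.z v a
  ker : ∀ v, Iso B v → ∀ y ∈ Zh v, y * c.t = c.t * y → y ∈ c.I (Zv B v)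
  hκ : σ κ = κ
  sq : ∀ v, Iso B v → ∀ y ∈ Zh v, ∀ a, σ a = a → y * c.t * y⁻¹ = c.t * c.z v a → y * y = c.z v (κ * a)
  perp : ∀ v w, Iso B v → Iso B w → B w v = 0 → Zh v ≤ 𝐂[Zh w]
  eqv : ∀ g ∈ SU B, ∀ v, Iso B v → Zh (g • v) = cj(c.Ψ g, Zh v)
  sm : ∀ v, Iso B v → ∀ l : F, l ≠ 0 → Zh (l • v) = Zh v

/-- The doubled group of a totally isotropic subspace. -/
def Zd.Ph {c : Cfg B q G} (d : c.Zd) (X : Submodule F V) : Subgroup G := ⨆ v : {v // v ∈ X ∧ v ≠ 0}, d.Zh v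

/-- The middle component of the doubled group of a line. -/
def Zd.Bh {c : Cfg B q G} (d : c.Zd) (e1 f1 e2 f2 : V) : Subgroup G :=
  d.Ph (Submodule.span F {e1, e2}) ⊓
    ⨅ a : {a : F // σ a = a ∧ a ≠ 0}, C1 (c.Ψ (hy B e1 f1 a * hy B e2 f2 (a : F)⁻¹))

/-- The decomposition of the doubled group of a line. -/
structure Zd.Dec {c : Cfg B q G} (d : c.Zd) (e1 f1 e2 f2 : V) : Prop where
  inj : ∀ y1 ∈ d.Zh e1, ∀ y2 ∈ d.Zh e2, ∀ b ∈ d.Bh e1 f1 e2 f2, y1 * y2 * b = 1 → y1 = 1 ∧ y2 = 1 ∧ b = 1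
  u2 : ∀ β : F, ∀ y ∈ d.Zh e2, c.x e1 (β • f2) * y * c.x e1 (β • f2) * y⁻¹ ∈ d.Zh e1 ⊔ d.Bh e1 f1 e2 f2
  ub : ∀ β : F, ∀ b ∈ d.Bh e1 f1 e2 f2, c.x e1 (β • f2) * b * c.x e1 (β • f2) * b⁻¹ ∈ d.Zh e1

/-- An equivariant section of the doubled transvection groups. -/
structure Pt where
  zs : V → F → G
  add : ∀ v, B v v = 0 → ∀ a b, σ a = a → σ b = b → zs v (a + b) = zs v a * zs v b
  tz : ∀ v, B v v = 0 → ∀ a, σ a = a → c.t * zs v a * c.t = zs v a * c.z v a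
  eqv : ∀ g ∈ SU B, ∀ v, B v v = 0 → ∀ a, σ a = a → c.Ψ g * zs v a * (c.Ψ g)⁻¹ = zs (g • v) a
  sm : ∀ v, B v v = 0 → ∀ l a, σ a = a → zs (l • v) a = zs v (a * (l * σ l))
  perp : ∀ v w, B v v = 0 → B w v = 0 → B w w = 0 → ∀ a b, σ a = a → σ b = b → zs v a * zs w b = zs w b * zs v a
  odd : ∀ o ∈ c.K0, Odd (orderOf o) → ∀ v, B v v = 0 → ∀ a, σ a = a → o * zs v a = zs v a * o

/-- The double of `x v w`. -/
def Pt.xs {c : Cfg B q G} (s : c.Pt) (v w : V) : G := s.zs (v + w) 1 * s.zs v 1 * s.zs w 1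

/-- The relations inside a totally isotropic line. -/
structure Pt.Pl {c : Cfg B q G} (s : c.Pt) : Prop where
  plane : ∀ v w, B v v = 0 → B w v = 0 → B w w = 0 → ∀ a, σ a = a →
    s.zs (v + w) a = s.zs v a * s.zs w a * s.xs (a • v) w
  xadd : ∀ v w, B v v = 0 → B w v = 0 → B w w = 0 → ∀ a b : F,
    s.xs ((a + b) • v) w = s.xs (a • v) w * s.xs (b • v) w

/-- The relations between two lines through a point: first part. -/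
structure Pt.R2 {c : Cfg B q G} (s : c.Pt) (δ : F) : Prop extends s.Pl where
  hδ : σ δ = δ
  r2 : ∀ e w w', B e e = 0 → B w e = 0 → B w w = 0 → B w' e = 0 → B w' w' = 0 →
    s.xs e w * s.xs e w' = s.xs e w' * s.xs e w * s.zs e (B w w' + B w' w) * c.z e (δ * (B w w' + B w' w))
  r3z : ∀ e w v, B e e = 0 → B w e = 0 → B w w = 0 → B v e = 0 → B v v = 0 → ∀ a, σ a = a →
    s.xs e w * c.z v a * s.xs e w = c.z v a * s.xs e ((a * B w v) • v) * s.zs e (a * (B w v * B v w)) *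
      c.z e (δ * (a * (B w v * B v w)))

/-- All relations. -/
structure Pt.Rel {c : Cfg B q G} (s : c.Pt) (δ : F) : Prop extends s.R2 δ where
  r3s : ∀ e w v, B e e = 0 → B w e = 0 → B w w = 0 → B v e = 0 → B v v = 0 → ∀ a, σ a = a →
    s.xs e w * s.zs v a * s.xs e w = s.zs v a * s.xs e ((a * B w v) • v) * c.x e ((δ * (a * B w v)) • v) *
      s.zs e ((1 + δ) * (a * (B w v * B v w))) * c.z e (δ * (a * (B w v * B v w)))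

/-- The doubled transvection with parameter `a = a₀ + a₁ θ` in the field case (`θ + σ θ = 1`). -/
def Pt.zh {c : Cfg B q G} (s : c.Pt) (θ : F) (v : V) (a : F) : G :=
  c.z v (a + (a + σ a) * θ) * s.zs v (a + σ a)

/-- The root element `x ↦ x + a B(x, v) w` in the field case. -/
def Pt.rr {c : Cfg B q G} (s : c.Pt) (θ : F) (w v : V) (a : F) : G :=
  c.x v ((σ θ * a) • w) * s.xs v (a • w)

/-- The root elements of `SL₄` for the basis `e1, e2, f2, f1`. -/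
def Pt.y4 {c : Cfg B q G} (s : c.Pt) (θ : F) (e1 f1 e2 f2 : V) (r : Ch.RtA 4) (a : F) : G :=
  if r.1.1 = r.1.2.rev then s.zh θ (![e1, e2, f2, f1] r.1.1) a
  else s.rr θ (![e1, e2, f2, f1] r.1.1) (![e1, e2, f2, f1] r.1.2.rev) a

/-- The field case. -/
structure Fd where
  ρ : SL F V →* G
  ker : IsE ρ
  res : ∀ x ∈ SU B, ev ρ x = c.Ψ x
  dual : ∀ x ∈ SL F V, ∀ x', Dual B x x' → c.t * ev ρ x * c.t = ev ρ x'
  act : ∀ g ∈ c.C, ∀ γ ∈ Gam B, Act c.ψ g γ → Act ρ g γ ∨ Act ρ (g * c.t) γ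
  le : ∀ X : Subgroup G, X.Normal → c.L ≤ X → ρ.range ≤ X

/-- The product case. -/
structure Pd where
  ψ1 : SU B →* G
  ker : IsE ψ1
  comm : ∀ x y : SG F V, ev ψ1 x * (c.t * ev ψ1 y * c.t) = c.t * ev ψ1 y * c.t * ev ψ1 x
  diag : ∀ x : SG F V, c.Ψ x = ev ψ1 x * (c.t * ev ψ1 x * c.t)
  odd : ∀ o ∈ c.K0, Odd (orderOf o) → o ∈ 𝐂[ψ1.range]
  act : ∀ g ∈ c.C, ∀ γ ∈ Gam B, Act c.ψ g γ → Act ψ1 g γ ∨ Act ψ1 (g * c.t) γ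
  can : ∀ v, Iso B v → ∀ y ∈ 𝐂[c.I (M1 B v)], y * y = 1 → ∀ a, σ a = a → a ≠ 0 →
    y * c.t * y⁻¹ = c.t * c.z v a → y ∈ ψ1.range ⊔ cj(c.t, ψ1.range)

namespace Pd

variable {c} (p : c.Pd)

/-- The second factor. -/
def ψ2 : SU B →* G := cjh c.t p.ψ1

abbrev L1 : Subgroup G := p.ψ1.range
abbrev L2 : Subgroup G := p.ψ2.range

/-- The product. -/
def G0 : Subgroup G := p.L1 ⊔ p.L2

/-- The normalizer of both factors. -/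
def M0 : Subgroup G := 𝐍[p.L1] ⊓ 𝐍[p.L2]

/-- The normalizer of the product. -/
def M : Subgroup G := 𝐍[p.G0]

/-- The group `A₁ × A₂`. -/
def J (W : Submodule F V) : Subgroup G := im p.ψ1 (AW B W) ⊔ im p.ψ2 (AW B W)

/-- No involution of the first factor is conjugate to a mixed involution. -/
def Pur : Prop := ∀ x ∈ p.L1, ∀ a ∈ p.L1, ∀ b ∈ p.L2, a * a = 1 → b * b = 1 → a ≠ 1 → b ≠ 1 → ¬ IsConj x (a * b)

/-- A Sylow 2-subgroup `S` of `G` inside `M`, with its action `α` on the first factor. -/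
structure Sy where
  S : Subgroup G
  α : ↥(S ⊓ p.M0) →* SG F V
  e : V
  W : Submodule F V
  syl : Syl 2 S ⊤
  le : S ≤ p.M
  tS : c.t ∈ S
  gam : ∀ s, α s ∈ Gam B
  act : ∀ s : ↥(S ⊓ p.M0), Act p.ψ1 s (α s)
  iso : Iso B e
  max : MaxTI B W
  eW : e ∈ W
  fix : ∀ s, α s • e = e
  st : ∀ s, α s ∈ St W

/-- The subgroups that induce groups of transvections on `W`. -/
def Sy.Ob {p : c.Pd} (y : p.Sy) : Set (Subgroup G) :=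
  {Y | ∃ n ∈ 𝐍[p.J y.W], ∃ e ∈ y.W, ∃ w, e ≠ 0 ∧ B w w = 0 ∧ B w e = 0 ∧ (∃ u ∈ y.W, B u w ≠ 0) ∧
    Y = cj(n, im p.ψ1 (Yv B e w))}

/-- The involution in the center of `S ∩ M0`. -/
def Sy.z1 {p : c.Pd} (y : p.Sy) : G := ev p.ψ1 (tv B y.e 1)

end Pd

end Cfg

variable (B) in
/-- The special linear group of a nondegenerate subspace. -/
def SLY (Y : Submodule F V) : Subgroup (SG F V) := SL F V ⊓ Mv ⊤ Y ⊓ Fix F (uPerp B Y)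

section Abs

/-- Two commuting involutions with disjoint commutator spaces. -/
def NF3 (H D : Subgroup G) : Prop :=
  ∃ u ∈ D, ∃ u' ∈ D, u * u = 1 ∧ u' * u' = 1 ∧ u * u' = u' * u ∧ u ∉ 𝐂[H] ∧ u' ∉ 𝐂[H] ∧
    ∀ x ∈ Cm H u, x ∈ Cm H u' → x = 1

/-- The action of `SL₂(q) × SL₂(q)` on its orthogonal module. -/
def NF2 (H D : Subgroup G) : Prop :=
  ∃ X1 ≤ D, ∃ X2 ≤ D, ∃ X3 ≤ D, El X1 ∧ El X2 ∧ El X3 ∧ 2 < Nat.card X1 ∧ 2 < Nat.card X2 ∧ 2 < Nat.card X3 ∧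
    X1 ≤ 𝐂[X2 ⊔ X3] ∧ X1 ⊓ 𝐂[H] = ⊥ ∧ ∀ x ∈ X2, ∀ x' ∈ X3, x ≠ 1 → x' ≠ 1 → ⁅x, x'⁆ ∉ 𝐂[H]

variable (G) in
/-- The abstract situation of the end of the product case. -/
structure Blk where
  S : Subgroup G
  U1 : Subgroup G
  L1 : Subgroup G
  t : G
  z1 : G
  syl : Syl 2 S ⊤
  tS : t ∈ S
  t2 : t * t = 1
  U1S : U1 ≤ S
  sw : ∀ s ∈ S, s ∈ 𝐍[U1] ∨ s * t ∈ 𝐍[U1]
  cm : L1 ≤ 𝐂[cj(t, U1)]
  dj : U1 ⊓ cj(t, U1) = ⊥
  z2 : z1 * z1 = 1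
  zne : z1 ≠ 1
  zd : z1 ∈ ⁅U1, U1⁆
  zc : S ⊓ 𝐍[U1] ≤ C1 z1
  sylL : Syl 2 U1 L1
  perf : ⁅L1, L1⁆ = L1
  nc : ¬ L1 ≤ C1 z1
  gen : L1 ≤ closure {g | g ∈ L1 ∧ z1 * (g * z1 * g⁻¹) = g * z1 * g⁻¹ * z1}
  ds : ∀ g, g * z1 * g⁻¹ ∈ S → g * z1 * g⁻¹ ∈ U1 ∨ g * z1 * g⁻¹ ∈ cj(t, U1)
  pur : ∀ x ∈ U1, ∀ a ∈ U1, ∀ b ∈ cj(t, U1), a * a = 1 → b * b = 1 → a ≠ 1 → b ≠ 1 → ¬ IsConj x (a * b)
  cz : ∀ y ∈ U1, IsConj z1 y → U1 ≤ C1 y → ∃ l ∈ L1, l * y * l⁻¹ = z1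
  odd : ∀ X : Subgroup G, Odd (Nat.card X) → X ≤ C1 (z1 * (t * z1 * t)) → C1 (z1 * (t * z1 * t)) ≤ 𝐍[X] → z1 ∈ 𝐂[X]

/-- The pairs conjugate to `(z₁, z₂)`. -/
def Blk.Pr (b : Blk G) (x y : G) : Prop := ∃ g : G, g * b.z1 * g⁻¹ = x ∧ g * (b.t * b.z1 * b.t) * g⁻¹ = y

variable (G) in
/-- The abstract situation of the action of `N(J)` on `J = A₁ × A₂`. -/
structure Jm where
  A1 : Subgroup G
  A2 : Subgroup G
  S : Subgroup G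
  P1 : Subgroup G
  t : G
  Ob : Set (Subgroup G)
  t2 : t * t = 1
  tA : cj(t, A1) = A2
  el : El (A1 ⊔ A2)
  dj : A1 ⊓ A2 = ⊥
  syl : Syl 2 S 𝐍[A1 ⊔ A2]
  tS : t ∈ S
  sw : ∀ s ∈ S, s ∈ 𝐍[A1] ⊓ 𝐍[A2] ∨ s * t ∈ 𝐍[A1] ⊓ 𝐍[A2]
  ob_cj : ∀ Y ∈ Ob, ∀ g ∈ 𝐍[A1 ⊔ A2], cj(g, Y) ∈ Ob
  ob_nc : ∀ Y ∈ Ob, ¬ Y ≤ 𝐂[A1 ⊔ A2]
  ob_ex : ∃ Y ∈ Ob, Y ≤ S ⊓ 𝐂[A1]
  pure : ∀ Y ∈ Ob, Y ≤ S → Y ≤ 𝐂[A1] ∨ Y ≤ 𝐂[A2]
  vv : ∀ Y ∈ Ob, ∀ Y' ∈ Ob, Y ≤ S ⊓ 𝐂[A1] → Y' ≤ S ⊓ 𝐂[A1] → ⁅Y, Y'⁆ ≤ 𝐂[A1 ⊔ A2] →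
    ⁅A1 ⊔ A2, Y⁆ ⊓ ⁅A1 ⊔ A2, Y'⁆ ≠ ⊥
  fx : ∀ a ∈ A2, (∀ Y ∈ Ob, Y ≤ S ⊓ 𝐂[A1] → a ∈ 𝐂[Y]) → ∃ Y ∈ Ob, Y ≤ S ⊓ 𝐂[A1] ∧ a ∈ ⁅A1 ⊔ A2, Y⁆
  P1n : P1 ≤ 𝐍[A1] ⊓ 𝐂[A2]
  P1c : A1 ≤ ⁅A1, P1⁆
  P1s : ⁅P1, S ⊓ 𝐂[A1]⁆ ≤ 𝐂[A1 ⊔ A2]

end Abs

end Cfsg.Agent.SUm

end
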