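import Mathlib
import Cfsg.Agent.SUm.Cfg2
import Cfsg.Agent.StdB.Gen
import Cfsg.Agent.StdB.Red

set_option autoImplicit false
set_option linter.unusedSectionVars false

namespace Cfsg.Agent.SUm

open Cfsg Cfsg.Agent.Cl Cfsg.Agent.Loc.Mss Subgroup Module
open Cfsg.Agent.StdB (C1 mem_C1 El)
open scoped commutatorElement

variable {F : Type*} [Field F] [Finite F] [CharP F 2] {σ : F →+* F} {V : Type*} [AddCommGroup V] [Module F V]
  [Finite V] {B : V →ₗ[F] V →ₛₗ[σ] F} {q : ℕ} {G : Type*} [Group G] [Finite G]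

theorem syl_of_uf {M S : Subgroup G} {t : G} (hM : ∀ g, g * t * g⁻¹ ∈ M → g ∈ M) (hS : Syl 2 S M) (ht : t ∈ S) :
    Syl 2 S ⊤ :=
  Syl.of_norm hS.pg le_top fun _ hP h1 _ h2 =>
    hS.ge_of_le hP h1 fun g hg => hM g (hS.le (conj_mem_of_norm (h2 hg) ht))

theorem two_le_of_uf {M : Subgroup G} {t : G} (t2 : t * t = 1) (ht : t ∈ M) (hM : ∀ g, g * t * g⁻¹ ∈ M → g ∈ M)
    {R : Subgroup G} (hR : IsPGroup 2 R) (htR : t ∈ R) : R ≤ M := by
  obtain ⟨S, h1, hS⟩ := Syl.exists_ge (StdB.pg_zpowers t2) (zpowers_le.2 ht)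
  obtain ⟨g, -, hg⟩ := (syl_of_uf hM hS (h1 (mem_zpowers t))).conj_le hR le_top
  have h2 : g ∈ M := hM g (hS.le (hg (conj_mem_cj htR)))
  exact (cj_le_iff_le_inv.1 (hg.trans hS.le)).trans (cj_of_mem (inv_mem h2)).le

theorem tl_prod {Ω A : Type*} [MulAction G Ω] [CommGroup A] (hA : ∀ a : A, a * a = 1)
    {c : G → Ω → A} (hc : GT.Tr.IsActCocycle c) {t y : G} (t2 : t * t = 1) (hy : y * t = t * y)
    {O : Finset Ω} (hOt : ∀ w ∈ O, t • w ∈ O) (hOy : ∀ w ∈ O, y • w ∈ O)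
    (hf : ∀ w ∈ O, t • w ≠ w) : ∏ w ∈ O, c y w = 1 := by
  classical
  let _ : LinearOrder Ω := IsWellOrder.linearOrder WellOrderingRel
  have htt : ∀ w : Ω, t • t • w = w := fun w => by rw [← mul_smul, t2, one_smul]
  have hinv : ∀ a : A, a⁻¹ = a := fun a => inv_eq_of_mul_eq_one_right (hA a)
  have hd : ∀ w, c t (t • w) = c t w := fun w => by
    have := hc t t w
    rw [t2, hc.one] at this
    rw [eq_inv_of_mul_eq_one_left this.symm, hinv]
  let b : Ω → A := fun w => if w < t • w then 1 else c t w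
  have hb : ∀ w ∈ O, b w * b (t • w) = c t w := fun w hw => by
    simp only [b, htt]
    rcases lt_or_gt_of_ne (hf w hw) with h | h
    · rw [if_neg h.not_gt, if_pos h, mul_one]
    · rw [if_pos h, if_neg h.not_gt, one_mul, hd]
  have h1 : ∏ w ∈ O, c y w * (b (y • w) * b w) = 1 := by
    refine Finset.prod_involution (fun w _ => t • w) (fun w hw => ?_) (fun w hw _ => hf w hw)
      hOt fun w _ => htt w
    have h2 := hc.conj t y w
    rw [← hy, mul_inv_cancel_right, hinv] at h2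
    have h3 : y • t • w = t • y • w := by rw [← mul_smul, hy, mul_smul]
    rw [h2, h3]
    calc _ = (c y w * c y w) * (c t (y • w) * (b (y • w) * b (t • y • w))) *
          (c t w * (b w * b (t • w))) := by simp only [mul_comm, mul_left_comm, mul_assoc]
      _ = 1 := by rw [hb _ (hOy w hw), hb w hw, hA, hA, hA (c t w), mul_one, mul_one]
  rwa [Finset.prod_mul_distrib, Finset.prod_mul_distrib, GT.Tr.IsActCocycle.prod_smul hOy, hA,
    mul_one] at h1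

theorem TL {M : Subgroup G} {t : G} (t2 : t * t = 1) (ht : t ∈ M) (hM : ∀ g, g * t * g⁻¹ ∈ M → g ∈ M)
    {A : Type*} [CommGroup A] (hA : ∀ a : A, a * a = 1) (χ : M →* A) (y : M) (hy : (y : G) ∈ C1 t)
    (hc : (y : G) ∈ commutator G) : χ y = 1 := by
  classical
  have := Fintype.ofFinite (G ⧸ M)
  have h0 : ∀ x ∈ M, x • ((1 : G) : G ⧸ M) = (1 : G) := fun x hx =>
    GT.Tr.smul_coset_eq_iff.2 (by simpa using hx)
  have hO : ∀ x ∈ M, ∀ w ∈ Finset.univ.erase ((1 : G) : G ⧸ M),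
      x • w ∈ Finset.univ.erase ((1 : G) : G ⧸ M) := fun x hx w hw =>
    Finset.mem_erase.2 ⟨fun e => (Finset.mem_erase.1 hw).1
      (smul_left_cancel x (e.trans (h0 x hx).symm)), Finset.mem_univ _⟩
  have h1 := tl_prod hA (GT.Tr.isActCocycle_trCocycle χ) t2 (mem_C1.1 hy) (hO t ht) (hO y y.2)
    fun w hw e => by
      obtain ⟨g, rfl⟩ := QuotientGroup.mk_surjective w
      have h2 := hM g⁻¹ (by rw [inv_inv]; exact GT.Tr.smul_coset_eq_iff.1 e)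
      exact (Finset.mem_erase.1 hw).1 (QuotientGroup.eq.2 (by simpa using h2))
  have h3 : χ.transfer y = 1 := Abelianization.commutator_subset_ker χ.transfer hc
  rwa [GT.Tr.transfer_eq_prod_trCocycle, ← Finset.mul_prod_erase _ _ (Finset.mem_univ ((1 : G) : G ⧸ M)),
    h1, mul_one, GT.Tr.trCocycle_one_coset] at h3

theorem odd_of_free {D : Subgroup G} {t : G} (t2 : t * t = 1) (ht : t ∈ 𝐍[D])
    (h : ∀ d ∈ D, d * d = 1 → d * t = t * d → d = 1) : Odd (Nat.card D) := by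
  classical
  obtain ⟨T, h1, hT⟩ := Syl.exists_ge (StdB.pg_zpowers t2) (le_sup_right (a := D))
  have hS : Syl 2 (T ⊓ D) D :=
    hT.inf le_sup_left (hT.le.trans (sup_le le_normalizer (zpowers_le.2 ht)))
  refine Nat.coprime_two_right.1 (hS.eq_bot_iff.1 ?_)
  by_contra hne
  have := Fintype.ofFinite ↥(T ⊓ D)
  have hn : t ∈ 𝐍[T ⊓ D] := norm_inf (norm_of_le h1) (zpowers_le.2 ht) (mem_zpowers t)
  have h2 : 2 ∣ Fintype.card ↥(T ⊓ D) := by
    rw [← Nat.card_eq_fintype_card]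
    exact (hS.pg.card_eq_or_dvd).resolve_left fun e => hne (card_eq_one.1 e)
  obtain ⟨b, hb, b1⟩ := Equiv.Perm.exists_fixed_point_of_prime' (p := 2) (n := 1)
    (σ := ((T ⊓ D).normalizerMonoidHom ⟨t, hn⟩).toEquiv) h2 (by
      ext x
      show t * (t * (x : G) * t⁻¹) * t⁻¹ = x
      calc _ = t * t * x * (t * t)⁻¹ := by group
        _ = _ := by rw [t2]; simp) (a := 1) (map_one ((T ⊓ D).normalizerMonoidHom ⟨t, hn⟩))
  have hb' : Commute (b : G) t := (mul_inv_eq_iff_eq_mul.1 (congrArg Subtype.val hb)).symm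
  obtain ⟨k, hk⟩ := pg_iff.1 hS.pg b b.2
  refine b1 (Subtype.ext ?_)
  induction k with
  | zero => simpa using hk
  | succ k ih =>
    exact ih (h _ (pow_mem b.2.2 _) (by rw [← pow_add, ← two_mul, ← pow_succ', hk])
      (hb'.pow_left _).eq)

theorem conj_of_odd {t u : G} (t2 : t * t = 1) (u2 : u * u = 1) (h : Odd (orderOf (u * t))) :
    ∃ g ∈ zpowers (u * t), g * u * g⁻¹ = t := by
  obtain ⟨j, hj⟩ := h
  have h1 : SemiconjBy u (u * t)⁻¹ (u * t) := by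
    rw [SemiconjBy, mul_inv_rev, inv_eq_of_mul_eq_one_right t2, inv_eq_of_mul_eq_one_right u2,
      mul_assoc]
  have h2 := (h1.pow_right j).eq
  have h3 : (u * t) ^ (2 * j + 1) = 1 := by rw [← hj, pow_orderOf_eq_one]
  refine ⟨(u * t) ^ j, pow_mem (mem_zpowers _) j, ?_⟩
  rw [mul_assoc, ← inv_pow, h2, ← mul_assoc, ← pow_add, ← two_mul,
    eq_inv_of_mul_eq_one_left ((pow_succ _ _).symm.trans h3), mul_inv_rev,
    inv_eq_of_mul_eq_one_right t2, inv_mul_cancel_right]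

theorem burnside_J {S J : Subgroup G} (hS : Syl 2 S ⊤) (hJ : J ≤ S) (hc : J ≤ 𝐂[J])
    (hw : ∀ g, cj(g, J) ≤ S → cj(g, J) = J) {a g : G} (ha : a ∈ J) (hb : g * a * g⁻¹ ∈ J) :
    ∃ n ∈ 𝐍[J], n * a * n⁻¹ = g * a * g⁻¹ := by
  have hp : IsPGroup 2 J := hS.pg.to_le hJ
  have h1 : J ≤ C1 (g * a * g⁻¹) := fun x hx => mem_C1.2 (mem_cent.1 (hc hb) x hx)
  have h2 : cj(g, J) ≤ C1 (g * a * g⁻¹) := cj_le_iff.2 fun x hx => mem_C1.2 (by
    rw [conj_mul, conj_mul, mem_cent.1 (hc ha) x hx])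
  obtain ⟨T, h3, hT⟩ := Syl.exists_ge hp h1
  obtain ⟨c, hc', h4⟩ := hT.conj_le (pg_cj hp g) h2
  obtain ⟨k, -, h5⟩ := hS.conj_le hT.pg le_top
  have h6 : k ∈ 𝐍[J] := cj_eq_iff.1 (hw k ((cj_mono k h3).trans h5))
  have h7 : k * (c * g) ∈ 𝐍[J] := cj_eq_iff.1 (hw _ (by
    rw [← cj_cj, ← cj_cj]; exact (cj_mono k h4).trans h5))
  refine ⟨c * g, (mul_mem_cancel_left h6).1 h7, ?_⟩
  calc _ = c * (g * a * g⁻¹) * c⁻¹ := by group
    _ = _ := by rw [mem_C1.1 hc', mul_inv_cancel_right]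

open scoped IsMulCommutative in
theorem fix_of_cocycle {N S A : Subgroup G} {t : G} (t2 : t * t = 1) (hS : Syl 2 S N) (hA : El A) (hN : N ≤ 𝐍[A]) (ht : t ∈ 𝐂[A])
    (hSt : S ≤ C1 t) (h : ∀ n ∈ N, n * t * n⁻¹ * t⁻¹ ∈ A) : ∃ a ∈ A, N ≤ C1 (t * a) := by
  classical
  have : IsMulCommutative A :=
    ⟨⟨fun a b => Subtype.ext (mem_cent.1 (StdB.comm_of_el hA b.2) a a.2)⟩⟩
  have := Fintype.ofFinite (N ⧸ S.subgroupOf N)
  have ho : Odd (Fintype.card (N ⧸ S.subgroupOf N)) := by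
    obtain ⟨P, hP, -⟩ := hS.exists_sylow
    have h1 := P.not_dvd_index
    rw [hP, index_eq_card, Nat.card_eq_fintype_card] at h1
    exact Nat.odd_iff.2 (Nat.two_dvd_ne_zero.1 h1)
  let f : N → A := fun n => ⟨n * t * n⁻¹ * t⁻¹, h n n.2⟩
  let φ : N → MulAut A := fun n => A.normalizerMonoidHom ⟨n, hN n.2⟩
  have hφ : ∀ (n : N) (a : A), (φ n a : G) = n * a * (n : G)⁻¹ := fun _ _ => rfl
  have f1 : ∀ n m : N, f (n * m) = φ n (f m) * f n := fun n m => Subtype.ext (by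
    simp only [f, coe_mul, coe_inv, hφ]; group)
  have f2 : ∀ (n : N) (s : S.subgroupOf N), f (n * s) = f n := fun n s => by
    have h1 : f s = 1 := Subtype.ext (by
      show ((s : N) : G) * t * ((s : N) : G)⁻¹ * t⁻¹ = 1
      rw [mem_C1.1 (hSt (mem_subgroupOf.1 s.2))]; group)
    rw [f1, h1, map_one, one_mul]
  have f3 : ∀ (n : N) (w : N ⧸ S.subgroupOf N), f (n • w).out = φ n (f w.out) * f n := fun n w => by
    obtain ⟨s, hs⟩ := QuotientGroup.mk_out_eq_mul (S.subgroupOf N) (n * w.out)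
    rw [← MulAction.Quotient.coe_smul_out, smul_eq_mul, hs, f2, f1]
  refine ⟨(∏ w : N ⧸ S.subgroupOf N, f w.out : A), Subtype.prop _, fun n hn => ?_⟩
  have h1 : ∏ w : N ⧸ S.subgroupOf N, f ((⟨n, hn⟩ : N) • w).out = ∏ w : N ⧸ S.subgroupOf N, f w.out :=
    Equiv.prod_comp (MulAction.toPerm (⟨n, hn⟩ : N)) fun w : N ⧸ S.subgroupOf N => f w.out
  simp only [f3] at h1
  obtain ⟨k, hk⟩ := ho
  have h2 : f ⟨n, hn⟩ ^ 2 = 1 := Subtype.ext (by rw [sq]; exact hA _ (f ⟨n, hn⟩).2)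
  rw [Finset.prod_mul_distrib, ← map_prod, Finset.prod_const, Finset.card_univ, hk, pow_succ,
    pow_mul, h2, one_pow, one_mul, mul_comm] at h1
  generalize (∏ w : N ⧸ S.subgroupOf N, f w.out : A) = a at h1
  have h3 : n * t * n⁻¹ * t⁻¹ * (n * a * n⁻¹) = a := congrArg Subtype.val h1
  have h4 := mem_cent.1 ht _ (conj_mem_of_norm (hN hn) a.2)
  have h5 := mem_cent.1 ht _ a.2
  rw [mem_C1, ← mul_inv_eq_iff_eq_mul]
  calc _ = n * t * n⁻¹ * t⁻¹ * (t * (n * a * n⁻¹)) := by group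
    _ = _ := by rw [← h4, ← mul_assoc, h3, h5]

theorem hom_triv {M Z : Subgroup G} (hM : ⁅M, M⁆ = M) (hZ : Z ≤ 𝐂[M]) (hZ' : Z ≤ 𝐂[Z]) {g : G}
    (h : ∀ m ∈ M, g * m * g⁻¹ * m⁻¹ ∈ Z) : g ∈ 𝐂[M] := by
  have h1 : ⁅M, M⁆ ≤ C1 g := commutator_le.2 fun m hm m' hm' => by
    have c1 : Commute (g * m * g⁻¹ * m⁻¹) (g * m' * g⁻¹ * m'⁻¹) :=
      mem_cent.1 (hZ' (h m' hm')) _ (h m hm)
    have c2 : ∀ x ∈ M, ∀ y ∈ M, Commute y (g * x * g⁻¹ * x⁻¹) := fun x hx y hy =>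
      mem_cent.1 (hZ (h x hx)) y hy
    have c3 := c2 m hm m hm
    have c4 := c2 m hm m' hm'
    have c5 := c2 m' hm' m hm
    have c6 := c2 m' hm' m' hm'
    rw [mem_C1, eq_comm, ← mul_inv_eq_iff_eq_mul, conjugate_commutatorElement,
      ← inv_mul_cancel_right (g * m * g⁻¹) m, ← inv_mul_cancel_right (g * m' * g⁻¹) m']
    generalize g * m * g⁻¹ * m⁻¹ = z at c1 c3 c4 c5
    generalize g * m' * g⁻¹ * m'⁻¹ = z' at c1 c5 c6
    rw [commutatorElement_def, commutatorElement_def]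
    calc _ = z * (m * z') * m' * m⁻¹ * (z⁻¹ * m'⁻¹) * z'⁻¹ := by group
      _ = z * z' * (m * m' * m⁻¹ * m'⁻¹) * (z' * z)⁻¹ := by
          rw [c5.eq, ← c4.inv_inv.eq]; group
      _ = _ := by
          have c7 : Commute (z * z') (m * m' * m⁻¹ * m'⁻¹) :=
            ((((c3.mul_right c5).mul_left (c4.mul_right c6)).mul_left
              (c3.mul_right c5).inv_left).mul_left (c4.mul_right c6).inv_left).symm
          rw [← c1.eq, c7.eq, mul_inv_cancel_right]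
  rw [hM] at h1
  exact mem_cent.2 fun m hm => mem_C1.1 (h1 hm)

theorem cent_of_cent_Q {M Q Z : Subgroup G} (hM : ⁅M, M⁆ = M) (hQ : M ≤ 𝐍[Q]) (hc : M ⊓ 𝐂[Q] ≤ Z) (hZ : Z ≤ 𝐂[M])
    (hZ' : Z ≤ 𝐂[Z]) {g : G} (hg : g ∈ 𝐍[M]) (hgQ : g ∈ 𝐂[Q]) : g ∈ 𝐂[M] := by
  refine hom_triv hM hZ hZ' fun m hm => hc (mem_inf.2 ⟨mul_mem (conj_mem_of_norm hg hm) (inv_mem hm), ?_⟩)
  have h1 : g * m * g⁻¹ * m⁻¹ = g * (m * g⁻¹ * m⁻¹) := by group
  rw [h1]
  exact mul_mem hgQ (conj_mem_of_norm (norm_cent hQ hm) (inv_mem hgQ))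

end Cfsg.Agent.SUm
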