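import Mathlib
import Cfsg.Agent.SUm.Cfg2

/-! The group of Hermitian matrices on a totally isotropic subspace -/

set_option autoImplicit false
set_option linter.unusedSectionVars false

namespace Cfsg.Agent.SUm

open Cfsg Cfsg.Agent.Cl Cfsg.Agent.Loc.Mss Subgroup Module
open Cfsg.Agent.StdB (C1 mem_C1 El)
open scoped commutatorElement

variable {F : Type*} [Field F] [Finite F] [CharP F 2] {σ : F →+* F} {V : Type*} [AddCommGroup V] [Module F V]
  [Finite V] {B : V →ₗ[F] V →ₛₗ[σ] F} {q : ℕ} {G : Type*} [Group G] [Finite G]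

namespace Sp

variable (h : Sp B q)
include h

theorem AWa_sup {W : Submodule F V} (hW : TI B W) {v : V} (hv : B v v = 0) (hp : v ∈ uPerp B W) :
    TI B (W ⊔ F ∙ v) := fun x hx y hy => by
  obtain ⟨w, hw, _, hx', rfl⟩ := Submodule.mem_sup.1 hx
  obtain ⟨w', hw', _, hy', rfl⟩ := Submodule.mem_sup.1 hy
  obtain ⟨a, rfl⟩ := Submodule.mem_span_singleton.1 hx'
  obtain ⟨b, rfl⟩ := Submodule.mem_span_singleton.1 hy'
  simp [hW w hw w' hw', hp w hw, h.zero_symm (hp w' hw'), hv]

theorem max_mem {W : Submodule F V} (hW : MaxTI B W) {v : V} (hv : B v v = 0) (hp : v ∈ uPerp B W) : v ∈ W := by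
  by_contra hn
  have h1 := h.herm.two_mul_finrank_le (h.AWa_sup hW.ti hv hp).le
  rw [Submodule.finrank_sup_span_singleton hn, hW.dim] at h1
  omega

theorem exists_max {X : Submodule F V} (hX : TI B X) : ∃ W, X ≤ W ∧ MaxTI B W := by
  have key : ∀ (n : ℕ) (X : Submodule F V), TI B X → finrank F X + n = finrank F V / 2 →
      ∃ W, X ≤ W ∧ MaxTI B W := fun n => by
    induction n with
    | zero => exact fun X hX e => ⟨X, le_rfl, hX, e⟩
    | succ n ih =>
      intro X hX e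
      obtain ⟨U, h1, h2, h3, h4⟩ := h.herm.exists_compl_of_isotropic hX.le
      obtain ⟨v, f, hv, -, hf⟩ := (h.herm.restrict h3).exists_hyperbolic_pair (by omega)
      have hn : (v : V) ∉ X := fun hm => by
        rw [show v = 0 from Subtype.ext (h1.le_bot ⟨hm, v.2⟩)] at hf
        simp at hf
      obtain ⟨W, k1, k2⟩ := ih _ (h.AWa_sup (v := v) hX hv (h2 ▸ Submodule.mem_sup_right v.2))
        (by rw [Submodule.finrank_sup_span_singleton hn]; omega)
      exact ⟨W, le_sup_left.trans k1, k2⟩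
  have := h.herm.two_mul_finrank_le hX.le
  exact key (finrank F V / 2 - finrank F X) X hX (by omega)

theorem exists_iso_add {W : Submodule F V} {f u : V} (hW : TI B W) (hu : u ∈ W) (hf : B u f ≠ 0) :
    ∃ c : F, B (f + c • u) (f + c • u) = 0 := by
  obtain ⟨b, hb⟩ := h.herm.toUInvol.exists_trace_eq (h.herm.fixed f)
  obtain ⟨c, rfl⟩ : ∃ c, b = c * B u f := ⟨b / B u f, (div_mul_cancel₀ b hf).symm⟩
  refine ⟨c, ?_⟩
  rw [map_mul, h.symm] at hb
  simp only [map_add, LinearMap.add_apply, map_smul, LinearMap.smul_apply, map_smulₛₗ, smul_eq_mul, hW u hu u hu]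
  linear_combination hb + CharTwo.add_self_eq_zero (B f f)

/-- Diagonalization of self-adjoint maps. -/
theorem AWa_diag (n : ℕ) : ∀ N : V →ₗ[F] V, finrank F (LinearMap.range N) < n → (∀ x y, B (N x) y = B x (N y)) →
    ∃ (r : ℕ) (e : Fin r → V), LinearIndependent F e ∧ (∀ i, e i ∈ LinearMap.range N) ∧
      ∀ x, N x = ∑ i, B x (e i) • e i := by
  induction n with
  | zero => exact fun _ hn => absurd hn (Nat.not_lt_zero _)
  | succ n ih =>
    intro N hn hN
    by_cases h0 : ∀ x, B (N x) x = 0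
    · refine ⟨0, Fin.elim0, linearIndependent_empty_type, fun i => i.elim0, fun x => ?_⟩
      refine h.herm.nondeg _ fun y => by_contra fun ht => ?_
      obtain ⟨ω, hω⟩ := h.exists_omega
      obtain ⟨c, rfl⟩ : ∃ c, ω = c * B (N x) y := ⟨ω / _, (div_mul_cancel₀ ω ht).symm⟩
      have := h0 (c • x + y)
      rw [map_mul, h.symm, ← hN] at hω
      simp only [map_add, LinearMap.add_apply, map_smul, LinearMap.smul_apply, map_smulₛₗ, smul_eq_mul, h0] at this
      exact one_ne_zero (α := F) (by linear_combination this - hω)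
    obtain ⟨x, hx⟩ : ∃ x, B (N x) x = 1 := by
      obtain ⟨x, hx⟩ := not_forall.1 h0
      obtain ⟨c, hc⟩ := h.uf.exists_norm_eq (a := (B (N x) x)⁻¹) (by rw [map_inv₀, h.symm, hN])
      refine ⟨c • x, ?_⟩
      simp only [map_smul, LinearMap.smul_apply, map_smulₛₗ, smul_eq_mul]
      rw [← mul_inv_cancel₀ hx, ← hc]
      ring
    have hx' := h.herm.eq_one_symm hx
    let N' := N - (B.flip (N x)).smulRight (N x)
    have e1 : ∀ y, N' y = N y - B y (N x) • N x := fun y => rfl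
    have e2 : ∀ y z, B (N' y) z = B y (N' z) := fun y z => by
      simp only [e1, map_sub, LinearMap.sub_apply, map_smul, LinearMap.smul_apply, map_smulₛₗ, smul_eq_mul, h.symm,
        hN y z]
      ring
    have e3 : LinearMap.range N' ≤ LinearMap.range N := by
      rintro _ ⟨y, rfl⟩
      exact sub_mem ⟨y, rfl⟩ (Submodule.smul_mem _ _ ⟨x, rfl⟩)
    have e4 : N x ∉ LinearMap.range N' := by
      rintro ⟨y, hy⟩
      rw [← hy, e2, e1 x, hx', one_smul, sub_self, map_zero] at hx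
      exact zero_ne_one hx
    obtain ⟨r, e, k1, k2, k3⟩ := ih N' ((Submodule.finrank_lt_finrank_of_lt
      (lt_of_le_of_ne e3 fun e => e4 (e.ge ⟨x, rfl⟩))).trans_le (Nat.lt_succ_iff.1 hn)) e2
    refine ⟨r + 1, Fin.cons (N x) e, linearIndependent_finCons.2 ⟨k1, fun hm => e4 (Submodule.span_le.2 ?_ hm)⟩,
      Fin.cases ⟨x, rfl⟩ fun i => e3 (k2 i), fun y => ?_⟩
    · rintro _ ⟨i, rfl⟩
      exact k2 i
    · rw [Fin.sum_univ_succ]
      simp only [Fin.cons_zero, Fin.cons_succ]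
      rw [← k3, e1, add_sub_cancel]

theorem AWa_adj {a : SG F V} (ha : a ∈ SU B) (h2 : a * a = 1) (x y : V) : B (a • x - x) y = B x (a • y - y) := by
  rw [map_sub, map_sub, LinearMap.sub_apply, SU_left ha, inv_eq_of_mul_eq_one_right h2]

theorem diag {W : Submodule F V} (hW : TI B W) {a : SG F V} (ha : a ∈ AW B W) :
    ∃ (r : ℕ) (e : Fin r → V), LinearIndependent F e ∧ (∀ i, e i ∈ W) ∧ ∀ x, a • x = x + ∑ i, B x (e i) • e i := by
  obtain ⟨r, e, h1, h2, h3⟩ := h.AWa_diag _ ((toLin a (fld_SU ha.1) : V →ₗ[F] V) - LinearMap.id) (Nat.lt_succ_self _)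
    (h.AWa_adj ha.1 (h.AW_sq hW ha))
  refine ⟨r, e, h1, fun i => ?_, fun x => by rw [← h3]; exact (add_sub_cancel _ _).symm⟩
  obtain ⟨x, hx⟩ := h2 i
  exact hx ▸ (mem_AW.1 ha).2 x

theorem AW_gen {W : Submodule F V} (hW : TI B W) :
    AW B W = closure {g | ∃ v ∈ W, ∃ a, σ a = a ∧ g = tv B v a} := by
  refine le_antisymm (fun a ha => ?_) ((closure_le _).2 ?_)
  · have key : ∀ (r : ℕ) (e : Fin r → V), (∀ i, e i ∈ W) → ∃ g ∈ closure {g | ∃ v ∈ W, ∃ a, σ a = a ∧ g = tv B v a},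
        ∀ x, g • x = x + ∑ i, B x (e i) • e i := fun r => by
      induction r with
      | zero => exact fun e _ => ⟨1, one_mem _, fun x => by simp⟩
      | succ r ih =>
        intro e he
        obtain ⟨g, hg, e1⟩ := ih (fun i => e i.succ) fun i => he _
        refine ⟨tv B (e 0) 1 * g, mul_mem (subset_closure ⟨e 0, he 0, 1, map_one σ, rfl⟩) hg, fun x => ?_⟩
        rw [mul_smul, e1, tv_smul (hW _ (he 0) _ (he 0)), map_add, LinearMap.add_apply,
          hW _ (W.sum_mem fun i _ => W.smul_mem _ (he _)) _ (he 0), add_zero, one_mul, Fin.sum_univ_succ]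
        abel
    obtain ⟨r, e, -, h2, h3⟩ := h.diag hW ha
    obtain ⟨g, hg, e1⟩ := key r e h2
    have := h.nontrivial
    rwa [SG.ext1 (g := a) (h := g) fun x => by rw [h3, e1]]
  · rintro _ ⟨v, hv, a, ha, rfl⟩
    exact h.tv_mem_AW hv (hW v hv v hv) ha

theorem card_AW {W : Submodule F V} (hW : TI B W) : Nat.card (AW B W) = q ^ (finrank F W ^ 2) := by
  obtain ⟨d, hd⟩ : ∃ d, finrank F W = d := ⟨_, rfl⟩
  rw [hd]
  induction d generalizing W with
  | zero =>
    have := h.nontrivial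
    obtain rfl := Submodule.finrank_eq_zero.1 hd
    rw [show AW B ⊥ = ⊥ from eq_bot_iff.2 fun g hg => SG.ext1 fun x => sub_eq_zero.1 ((mem_AW.1 hg).2 x), card_bot]
    simp
  | succ d ih =>
    obtain ⟨u, hu, h0⟩ := W.exists_mem_ne_zero_of_ne_bot (by rintro rfl; simp at hd)
    obtain ⟨f, -, hf⟩ := h.herm.exists_perp_eq_one (W := ⊥) h0
    have hf' := h.herm.eq_one_symm hf
    let W' := W ⊓ LinearMap.ker (B.flip f)
    have m1 : ∀ z ∈ W, z - B z f • u ∈ W' := fun z hz => ⟨sub_mem hz (W.smul_mem _ hu), by simp [hf]⟩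
    have e1 : W' ⊔ F ∙ u = W := le_antisymm (sup_le inf_le_left ((Submodule.span_singleton_le_iff_mem _ _).2 hu))
      fun z hz => Submodule.mem_sup.2 ⟨_, m1 z hz, _, Submodule.smul_mem _ (B z f) (Submodule.mem_span_singleton_self u),
        sub_add_cancel _ _⟩
    have e2 : finrank F W' = d := by
      have := Submodule.finrank_sup_span_singleton (p := W') (v := u) fun hm => one_ne_zero (hf.symm.trans hm.2)
      rw [e1, hd] at this
      omega
    have e3 : AW B W ⊓ MulAction.stabilizer _ f = AW B W' := by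
      refine le_antisymm (fun a ha => mem_AW.2 ⟨ha.1.1, fun x => Submodule.mem_inf.2 ⟨(mem_AW.1 ha.1).2 x, ?_⟩⟩)
        (le_inf (AW_mono inf_le_left) fun a ha => h.AW_fix ha fun x hx => hx.2)
      show B (a • x - x) f = 0
      rw [h.AWa_adj ha.1.1 (h.AW_sq hW ha.1), show a • f = f from ha.2, sub_self, map_zero]
    let φ : {a : F // σ a = a} × W' → V := fun p => f + (p.1.1 • u + p.2.1)
    have hφ : Function.Injective φ := fun p p' e => by
      have e4 := add_left_cancel e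
      have e5 := congrArg (fun z => B z f) e4
      simp only [map_add, LinearMap.add_apply, map_smul, LinearMap.smul_apply, smul_eq_mul, hf,
        show B p.2.1 f = 0 from p.2.2.2, show B p'.2.1 f = 0 from p'.2.2.2, mul_one, add_zero] at e5
      rw [e5] at e4
      exact Prod.ext (Subtype.ext e5) (Subtype.ext (add_left_cancel e4))
    rw [u_card_eq_card_mul_card_inf_stabilizer (AW B W) f (Set.range φ) fun y => ⟨?_, ?_⟩, e3,
      ih (hW.mono inf_le_left) e2, Nat.card_range_of_injective hφ, Nat.card_prod, h.uf.card_fixed,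
      Module.natCard_eq_pow_finrank (K := F), h.uf.card, e2]
    · ring
    · rintro ⟨⟨⟨c, hc⟩, y, hy, hy'⟩, rfl⟩
      refine ⟨tv B u c * xx B u y, mul_mem (h.tv_mem_AW hu (hW u hu u hu) hc) (h.xx_mem_AW hW hu hy), ?_⟩
      rw [mul_smul, h.xx_smul (hW u hu u hu) (hW y hy u hu), h.zero_symm hy', hf', zero_smul, add_zero, one_smul,
        tv_smul (hW u hu u hu), map_add, LinearMap.add_apply, hf', hW y hy u hu, add_zero, mul_one]
      show _ = f + (c • u + y)
      abel
    · rintro ⟨g, hg, rfl⟩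
      refine ⟨⟨⟨B (g • f - f) f, ?_⟩, _, m1 _ ((mem_AW.1 hg).2 f)⟩, ?_⟩
      · rw [h.symm, h.AWa_adj hg.1 (h.AW_sq hW hg)]
      · show f + (_ + (_ - _)) = _
        abel

theorem AW_el {W : Submodule F V} (hW : TI B W) : El (AW B W) := fun _ ha => h.AW_sq hW ha

theorem AWa_iso {g : SG F V} (hg : g ∈ SU B) (g2 : g * g = 1) (x y : V) : B (g • x - x) (g • y - y) = 0 := by
  rw [h.AWa_adj hg g2, smul_sub, ← mul_smul, g2, one_smul, ← neg_sub (g • y), vneg (F := F), sub_self, map_zero]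

theorem inv_mem_AW {W : Submodule F V} (hW : MaxTI B W) {g : SG F V} (hg : g ∈ Gam B) (g2 : g * g = 1)
    (hf : g ∈ Fix F (W : Set V)) : g ∈ AW B W := by
  obtain ⟨w, hw, h0⟩ := W.exists_mem_ne_zero_of_ne_bot (by
    rintro rfl
    have := hW.dim
    have := h.two_le_k
    simp at *
    omega)
  have h1 : fld g = 1 := RingEquiv.ext fun a => smul_left_injective F h0 (by
    have := hf _ (W.smul_mem a hw)
    rwa [smul_sm, hf w hw] at this)
  have h2 := h.two_mem_SU hg h1 (n := 1) (by rw [pow_one, sq, g2])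
  refine mem_AW.2 ⟨h2, fun x => h.max_mem hW (h.AWa_iso h2 g2 x x) fun z hz => ?_⟩
  rw [← h.AWa_adj h2 g2, hf z hz, sub_self, map_zero, LinearMap.zero_apply]

theorem exists_AW {g : SG F V} (hg : g ∈ SU B) (g2 : g * g = 1) : ∃ W, MaxTI B W ∧ g ∈ AW B W := by
  obtain ⟨W, h1, h2⟩ := h.exists_max (X := LinearMap.range ((toLin g (fld_SU hg) : V →ₗ[F] V) - LinearMap.id)) (by
    rintro _ ⟨x, rfl⟩ _ ⟨y, rfl⟩
    exact h.AWa_iso hg g2 x y)
  exact ⟨W, h2, mem_AW.2 ⟨hg, fun x => h1 ⟨x, rfl⟩⟩⟩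

theorem mem_of_tv_AW {W : Submodule F V} {v : V} (hv : Iso B v) {a : F} (ha : a ≠ 0) (e : tv B v a ∈ AW B W) : v ∈ W := by
  obtain ⟨f, hf⟩ := h.exists_pair hv
  have := (mem_AW.1 e).2 f
  rwa [tv_smul hv.iso, hf.pair', mul_one, add_sub_cancel_left, W.smul_mem_iff ha] at this

theorem mem_of_tv_St {W : Submodule F V} (hW : MaxTI B W) {v : V} (hv : B v v = 0) {a : F} (ha : a ≠ 0)
    (e : tv B v a ∈ St W) : v ∈ W := by
  by_cases hp : v ∈ uPerp B W
  · exact h.max_mem hW hv hp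
  obtain ⟨w, hw, h0⟩ : ∃ w ∈ W, B w v ≠ 0 := by simpa [mem_uPerp] using hp
  have := St.mem e hw
  rwa [tv_smul hv, W.add_mem_iff_right hw, W.smul_mem_iff (mul_ne_zero ha h0)] at this

theorem max_eq {W W' : Submodule F V} (hW : MaxTI B W) (hW' : MaxTI B W') (e : AW B W' ≤ St W) : W' = W :=
  Submodule.eq_of_le_of_finrank_eq (fun v hv => h.mem_of_tv_St hW (hW'.ti v hv v hv) one_ne_zero
    (e (h.tv_mem_AW hv (hW'.ti v hv v hv) (map_one σ)))) (hW'.dim.trans hW.dim.symm)

theorem mem_of_tv_cent {W : Submodule F V} (hW : MaxTI B W) {v : V} (hv : B v v = 0) {a : F} (ha : a ≠ 0)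
    (e : tv B v a ∈ 𝐂[AW B W]) : v ∈ W := by
  refine h.max_mem hW hv fun w hw => by_contra fun h0 => ?_
  have hw' := hW.ti w hw w hw
  have := congrArg (· • v) (e _ (h.tv_mem_AW hw hw' (map_one σ)))
  simp only [mul_smul, tv_perp a hv, tv_smul hw', tv_smul hv, map_add, LinearMap.add_apply, map_smul,
    LinearMap.smul_apply, smul_eq_mul, hv, zero_add, one_mul, left_eq_add, smul_eq_zero] at this
  rcases this with e | e | e | rfl
  exacts [ha e, h0 (h.zero_symm e), h0 e, h0 (map_zero _)]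

theorem St_of_norm {W : Submodule F V} (hW : TI B W) {g : SG F V} (hg : g ∈ Gam B) (e : g ∈ 𝐍[AW B W]) : g ∈ St W := by
  refine mem_St_of fun w hw => ?_
  by_cases h0 : w = 0
  · rw [h0, smul_zero]; exact zero_mem _
  have hw' := hW w hw w hw
  have := (mem_normalizer_iff.1 e _).1 (h.tv_mem_AW hw hw' (map_one σ))
  rw [tv_conj hg hw', map_one] at this
  exact h.mem_of_tv_AW (Iso.smul hg ⟨h0, hw'⟩) one_ne_zero this

theorem mem_Zv_of_all {e : V} (he : Iso B e) {g : SG F V} (hg : ∀ W, MaxTI B W → e ∈ W → g ∈ AW B W) : g ∈ Zv B e := by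
  obtain ⟨W₀, h1, h2⟩ := h.exists_max (TI_span he.iso)
  have m0 := h1 (Submodule.mem_span_singleton_self e)
  have h3 := mem_AW.1 (hg W₀ h2 m0)
  refine mem_AW.2 ⟨h3.1, fun x => by_contra fun hn => ?_⟩
  obtain ⟨f, f1, f2⟩ := h.herm.exists_perp_eq_one hn
  obtain ⟨c, hc⟩ := h.exists_iso_add h2.ti (h3.2 x) (f2 ▸ one_ne_zero)
  obtain ⟨W, k1, k2⟩ := h.exists_max (h.AWa_sup (TI_span he.iso) hc (add_mem f1 (Submodule.smul_mem _ _
    (mem_uPerp_span_singleton.2 (h2.ti _ m0 _ (h3.2 x))))))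
  have := k2.ti _ ((mem_AW.1 (hg W k2 (k1 (Submodule.mem_sup_left (Submodule.mem_span_singleton_self e))))).2 x) _
    (k1 (Submodule.mem_sup_right (Submodule.mem_span_singleton_self _)))
  rw [map_add, map_smulₛₗ, f2, h2.ti _ (h3.2 x) _ (h3.2 x), smul_zero, add_zero] at this
  exact one_ne_zero this

end Sp

end Cfsg.Agent.SUm
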