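import Mathlib
import Cfsg.Agent.SUm.Cfg2
import Cfsg.Agent.SUm.AWa

set_option autoImplicit false
set_option linter.unusedSectionVars false

namespace Cfsg.Agent.SUm

open Cfsg Cfsg.Agent.Cl Cfsg.Agent.Loc.Mss Subgroup Module
open Cfsg.Agent.StdB (C1 mem_C1 El)
open scoped commutatorElement

variable {F : Type*} [Field F] [Finite F] [CharP F 2] {σ : F →+* F} {V : Type*} [AddCommGroup V] [Module F V]
  [Finite V] {B : V →ₗ[F] V →ₛₗ[σ] F} {q : ℕ} {G : Type*} [Group G] [Finite G]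

namespace Sp

variable (h : Sp B q)
include h

theorem AWb_sq_inj {x y : F} (e : x * x = y * y) : x = y := by
  have : (x + y) ^ 2 = 0 := by rw [CharTwo.add_sq, sq, sq, e, CharTwo.add_self_eq_zero]
  exact CharTwo.add_eq_zero.1 (pow_eq_zero_iff two_ne_zero |>.1 this)

theorem exists_sqrt (a : F) : ∃ r : F, r * r = a ∧ (σ a = a → σ r = r) ∧ (a * σ a = 1 → r * σ r = 1) := by
  obtain ⟨r, rfl⟩ := isSquare_of_charTwo' a
  refine ⟨r, rfl, fun e => h.AWb_sq_inj (by rw [← map_mul, e]), fun e => h.AWb_sq_inj ?_⟩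
  rw [map_mul] at e
  linear_combination e

theorem AWb_fix {k : V ≃ₗ[F] V} (hk : k ∈ UG B) {e f : V} (p : UHypPair B e f) :
    ∃ ζ : F, ζ * σ ζ = 1 ∧ hy B e f ζ * lin k ∈ SU B ∧
      ∀ x, (hy B e f ζ * lin k) • x = k x + ((ζ - 1) * B (k x) f) • e + ((ζ - 1) * B (k x) e) • f := by
  have hd : ((LinearEquiv.det k : Fˣ) : F) * σ (LinearEquiv.det k : Fˣ) = 1 := h.herm.det_mem_uNormOne hk
  obtain ⟨ζ, h1, -, h2⟩ := h.exists_sqrt (σ (LinearEquiv.det k : Fˣ))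
  have h3 := h2 (by rw [h.ss, mul_comm, hd])
  have z0 : ζ ≠ 0 := left_ne_zero_of_mul_eq_one h3
  have zi : (σ ζ)⁻¹ = ζ := (eq_inv_of_mul_eq_one_left h3).symm
  refine ⟨ζ, h3, ?_, fun x => by rw [mul_smul, lin_smul, hy_smul p z0, zi]⟩
  rw [hy, ← map_mul]
  refine lin_mem_SU.2 (mem_USG'.2 ⟨mul_mem (h.herm.uHyp_mem p z0) hk, ?_⟩)
  rw [LinearEquiv.coe_toLinearMap_mul, map_mul, p.det_uHyp z0, zi, h1, ← LinearEquiv.coe_det, mul_comm, hd]

theorem AWb_partner {W : Submodule F V} {u : V} (hu : u ∉ W) (h1 : B u u = 0) (h2 : u ∈ uPerp B W) :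
    ∃ f ∈ uPerp B W, UHypPair B u f := by
  obtain ⟨w, hw, e⟩ := h.herm.exists_perp_eq_one hu
  obtain ⟨f, hf, a, b⟩ := h.herm.exists_mem_partner h2 hw h1 (e ▸ one_ne_zero)
  exact ⟨f, hf, h.herm.uHypPair h1 a b⟩

theorem AWb_pair {W : Submodule F V} (hW : Disjoint W (uPerp B W)) (hd : finrank F W + 2 ≤ finrank F V) :
    ∃ e ∈ uPerp B W, ∃ f ∈ uPerp B W, UHypPair B e f := by
  obtain ⟨e, f, p⟩ := (h.herm.restrict_uPerp hW).exists_uHypPair' (by rw [h.herm.finrank_uPerp]; omega)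
  exact ⟨e, e.2, f, f.2, p.left, p.right, p.pair, p.pair'⟩

theorem AWb_sup {W : Submodule F V} (hW : Disjoint W (uPerp B W)) {e f : V} (he : e ∈ uPerp B W) (hf : f ∈ uPerp B W)
    (p : UHypPair B e f) : Disjoint (W ⊔ Submodule.span F {e, f}) (uPerp B (W ⊔ Submodule.span F {e, f})) ∧
      finrank F ↥(W ⊔ Submodule.span F {e, f}) ≤ finrank F W + 2 := by
  refine ⟨h.herm.disjoint_of_forall fun u hu H => ?_, ?_⟩
  · obtain ⟨w, hw, y, hy, rfl⟩ := Submodule.mem_sup.1 hu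
    obtain ⟨s, t, rfl⟩ := Submodule.mem_span_pair.1 hy
    have a := H f (Submodule.mem_sup_right (Submodule.subset_span (by simp)))
    have b := H e (Submodule.mem_sup_right (Submodule.subset_span (by simp)))
    simp [mem_uPerp.1 he w hw, mem_uPerp.1 hf w hw, p.left, p.right, p.pair, p.pair'] at a b
    subst a b
    simp only [zero_smul, add_zero] at H ⊢
    exact Submodule.disjoint_def.1 hW w hw (h.herm.mem_uPerp'.2 fun x hx => H x (Submodule.mem_sup_left hx))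
  · rw [← h.herm.finrank_span_pair p.left p.right p.pair]
    exact Submodule.finrank_add_le_finrank_add_finrank _ _

theorem AWb_xx_PW {W : Submodule F V} (hW : TI B W) {e y : V} (he : e ∈ W) (h1 : B y e = 0) (h2 : B y y = 0) :
    xx B e y ∈ PW B W :=
  mem_PW.2 ⟨h.xx_mem (hW e he e he) h1 h2, mem_St_of fun x hx => by
    rw [h.xx_smul (hW e he e he) h1, hW x hx e he, zero_smul, add_zero]
    exact add_mem hx (W.smul_mem _ he)⟩

theorem AWb_indep {W : Submodule F V} (h2 : 2 ≤ finrank F W) (v : V) : ∃ u ∈ W, u ∉ F ∙ v := by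
  by_contra hn
  push Not at hn
  have := (Submodule.finrank_mono (show W ≤ F ∙ v from hn)).trans (finrank_span_le_card ({v} : Set V))
  simp at this
  omega

theorem AWb_ne {W : Submodule F V} (h2 : 2 ≤ finrank F W) : ∃ u ∈ W, u ≠ 0 := by
  obtain ⟨u, hu, e⟩ := h.AWb_indep h2 0
  exact ⟨u, hu, fun x => e (by rw [x]; exact zero_mem _)⟩

theorem AWb_tr1 {W : Submodule F V} (hW : TI B W) {v u : V} (hv : v ∈ W) (hu : u ∈ W) (v0 : v ≠ 0) (hn : u ∉ F ∙ v) :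
    ∃ g ∈ PW B W, g • v = u := by
  have hs := add_mem hv hu
  obtain ⟨f, hf, p⟩ := h.AWb_partner (W := F ∙ (v + u)) (u := v) (fun x => by
    obtain ⟨c, hc⟩ := Submodule.mem_span_singleton.1 x
    have c0 : c ≠ 0 := by rintro rfl; exact v0 (by simpa using hc.symm)
    refine hn (Submodule.mem_span_singleton.2 ⟨c⁻¹ - 1, ?_⟩)
    rw [sub_smul, one_smul]
    nth_rewrite 1 [← hc]
    rw [inv_smul_smul₀ c0, add_sub_cancel_left]) (hW v hv v hv) (mem_uPerp_span_singleton.2 (hW _ hs v hv))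
  have h1 := h.zero_symm (mem_uPerp_span_singleton.1 hf)
  refine ⟨_, h.AWb_xx_PW hW hs h1 p.right, ?_⟩
  rw [h.xx_smul (hW _ hs _ hs) h1, p.pair, hW v hv _ hs, zero_smul, add_zero, one_smul, ← add_assoc,
    vadd_self (F := F), zero_add]

theorem AWb_tr {W : Submodule F V} (hW : TI B W) (h2 : 2 ≤ finrank F W) {v w : V} (hv : v ∈ W) (hw : w ∈ W)
    (v0 : v ≠ 0) (w0 : w ≠ 0) : ∃ g ∈ PW B W, g • v = w := by
  by_cases hn : w ∈ F ∙ v
  · obtain ⟨u, hu, e⟩ := h.AWb_indep h2 v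
    obtain ⟨g, hg, e1⟩ := h.AWb_tr1 hW hv hu v0 e
    obtain ⟨g', hg', e2⟩ := h.AWb_tr1 hW hw hu w0 fun x => e ((Submodule.span_singleton_le_iff_mem _ _).2 hn x)
    exact ⟨g'⁻¹ * g, mul_mem (inv_mem hg') hg, by rw [mul_smul, e1, inv_smul_eq_iff, e2]⟩
  · exact h.AWb_tr1 hW hv hw v0 hn

theorem exists_frame' {e w w' : V} (he : Iso B e) (p : UHypPair B w w') (h1 : B e w = 0) (h2 : B e w' = 0) :
    ∃ f, Frame B e f w w' := by
  have m : e ∈ uPerp B (Submodule.span F {w, w'}) := mem_uPerp_span_pair.2 ⟨h.zero_symm h1, h.zero_symm h2⟩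
  obtain ⟨f, hf, p'⟩ := h.AWb_partner (fun x => he.ne (Submodule.disjoint_def.1
    (h.herm.disjoint_span_pair p.left p.right p.pair) e x m)) he.iso m
  obtain ⟨a, b⟩ := mem_uPerp_span_pair.1 hf
  exact ⟨f, p', p, h1, h2, h.zero_symm a, h.zero_symm b⟩

theorem exists_frame {v w : V} (hi : LinearIndependent F ![v, w]) (hv : B v v = 0) (hwv : B w v = 0)
    (hw : B w w = 0) : ∃ f1 f2, Frame B v f1 w f2 := by
  obtain ⟨f2, hf, p⟩ := h.AWb_partner (W := F ∙ v) (u := w) (fun x => by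
    obtain ⟨c, hc⟩ := Submodule.mem_span_singleton.1 x
    exact one_ne_zero (neg_eq_zero.1 (LinearIndependent.pair_iff.1 hi c (-1) (by simp [hc])).2)) hw
    (mem_uPerp_span_singleton.2 (h.zero_symm hwv))
  obtain ⟨f1, p'⟩ := h.exists_frame' ⟨hi.ne_zero 0, hv⟩ p (h.zero_symm hwv) (mem_uPerp_span_singleton.1 hf)
  exact ⟨f1, f2, p'⟩

theorem exists_frame'' {e f : V} (p : UHypPair B e f) : ∃ w w', Frame B e f w w' := by
  obtain ⟨w, hw, w', hw', p'⟩ := h.AWb_pair (h.herm.disjoint_span_pair p.left p.right p.pair)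
    (by rw [h.herm.finrank_span_pair p.left p.right p.pair]; exact h.four_le)
  obtain ⟨a, b⟩ := mem_uPerp_span_pair.1 hw
  obtain ⟨c, d⟩ := mem_uPerp_span_pair.1 hw'
  exact ⟨w, w', p, p', a, c, b, d⟩

theorem frame_li {e1 f1 e2 f2 : V} (p : Frame B e1 f1 e2 f2) : LinearIndependent F ![e1, e2, f2, f1] := by
  refine Fintype.linearIndependent_iff.2 fun g hg i => ?_
  have e := fun y => congrArg (B · y) hg
  have a := e f1
  have b := e f2
  have c := e e2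
  have d := e e1
  simp [Fin.sum_univ_four, p.p1.left, p.p1.right, p.p1.pair, p.p1.pair', p.p2.left, p.p2.right, p.p2.pair, p.p2.pair',
    p.ee, p.ef, p.fe, p.ff, h.zero_symm p.ee, h.zero_symm p.ef, h.zero_symm p.fe, h.zero_symm p.ff] at a b c d
  fin_cases i
  exacts [a, b, c, d]

theorem frame_conj {e1 f1 e2 f2 e1' f1' e2' f2' : V} (p : Frame B e1 f1 e2 f2) (p' : Frame B e1' f1' e2' f2') :
    ∃ g ∈ SU B, ∃ ζ : F, ζ * σ ζ = 1 ∧ g • e1 = ζ • e1' ∧ g • f1 = ζ • f1' ∧ g • e2 = e2' ∧ g • f2 = f2' := by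
  obtain ⟨k, hk, e⟩ := h.herm.witt_family (h.frame_li p) (h.frame_li p') fun i j => by
    fin_cases i <;> fin_cases j <;>
      simp [p.p1.left, p.p1.right, p.p1.pair, p.p1.pair', p.p2.left, p.p2.right, p.p2.pair, p.p2.pair',
        p.ee, p.ef, p.fe, p.ff, h.zero_symm p.ee, h.zero_symm p.ef, h.zero_symm p.fe, h.zero_symm p.ff,
        p'.p1.left, p'.p1.right, p'.p1.pair, p'.p1.pair', p'.p2.left, p'.p2.right, p'.p2.pair, p'.p2.pair',
        p'.ee, p'.ef, p'.fe, p'.ff, h.zero_symm p'.ee, h.zero_symm p'.ef, h.zero_symm p'.fe, h.zero_symm p'.ff]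
  obtain ⟨ζ, h1, h2, h3⟩ := h.AWb_fix hk p'.p1
  have a : k e1 = e1' := e 0
  have b : k e2 = e2' := e 1
  have c : k f2 = f2' := e 2
  have d : k f1 = f1' := e 3
  refine ⟨_, h2, ζ, h1, ?_, ?_, ?_, ?_⟩ <;> rw [h3]
  · simp [a, p'.p1.left, p'.p1.pair, sub_smul]
  · simp [d, p'.p1.right, p'.p1.pair', sub_smul]
  · simp [b, h.zero_symm p'.ee, h.zero_symm p'.fe]
  · simp [c, h.zero_symm p'.ef, h.zero_symm p'.ff]

theorem max_conj {W W' : Submodule F V} (hW : MaxTI B W) (hW' : MaxTI B W') : ∃ g ∈ SU B, mapW g W = W' := by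
  let φ : W ≃ₗ[F] W' := LinearEquiv.ofFinrankEq _ _ (hW.dim.trans hW'.dim.symm)
  obtain ⟨k, hk, e⟩ := h.herm.witt W (W'.subtype ∘ₗ φ.toLinearMap) (W'.subtype_injective.comp φ.injective)
    fun x y => (hW'.ti _ (φ x).2 _ (φ y).2).trans (hW.ti _ x.2 _ y.2).symm
  obtain ⟨u, hu, u0⟩ := h.AWb_ne (W := W') (hW'.dim ▸ h.two_le_k)
  obtain ⟨f, p⟩ := h.exists_pair ⟨u0, hW'.ti u hu u hu⟩
  obtain ⟨ζ, -, h2, h3⟩ := h.AWb_fix hk p
  refine ⟨_, h2, Submodule.eq_of_le_of_finrank_eq (fun x hx => ?_)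
    ((finrank_mapW _ _).trans (hW.dim.trans hW'.dim.symm))⟩
  rw [← smul_inv_smul (hy B u f ζ * lin k) x, h3]
  have m : k ((hy B u f ζ * lin k)⁻¹ • x) ∈ W' := (e ⟨_, hx⟩).symm ▸ (φ ⟨_, hx⟩).2
  rw [hW'.ti _ m u hu, mul_zero, zero_smul, add_zero]
  exact add_mem m (W'.smul_mem _ hu)

theorem full_conj {W : Submodule F V} (hW : TI B W) {a b : SG F V} (ha : a ∈ AW B W) (hb : b ∈ AW B W)
    (fa : Full B W a) (fb : Full B W b) : ∃ g ∈ PW B W, g * a * g⁻¹ = b := by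
  have key : ∀ {a : SG F V}, a ∈ AW B W → Full B W a → ∃ e : Fin (finrank F W) → V, LinearIndependent F e ∧
      Submodule.span F (Set.range e) = W ∧ ∀ x, a • x = x + ∑ i, B x (e i) • e i := fun {a} ha fa => by
    obtain ⟨r, e, h1, h2, h3⟩ := h.diag hW ha
    have hs : Submodule.span F (Set.range e) = W := by
      refine le_antisymm (Submodule.span_le.2 (by rintro _ ⟨i, rfl⟩; exact h2 i)) ?_
      rw [← h.herm.uPerp_uPerp (Submodule.span F (Set.range e)), h.herm.le_uPerp_comm]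
      refine fun x hx => fa x ?_
      rw [h3, Finset.sum_eq_zero fun i _ => by rw [h.zero_symm (mem_uPerp_span.1 hx _ ⟨i, rfl⟩), zero_smul], add_zero]
    have hr : finrank F W = r := by rw [← hs, finrank_span_eq_card h1, Fintype.card_fin]
    subst hr
    exact ⟨e, h1, hs, h3⟩
  have := h.nontrivial
  obtain ⟨e, e1, e2, e3⟩ := key ha fa
  obtain ⟨e', e1', e2', e3'⟩ := key hb fb
  have me : ∀ i, e i ∈ W := fun i => e2 ▸ Submodule.subset_span ⟨i, rfl⟩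
  have me' : ∀ i, e' i ∈ W := fun i => e2' ▸ Submodule.subset_span ⟨i, rfl⟩
  obtain ⟨g, hg, c, hc, hgc⟩ : ∃ g ∈ SU B, ∃ c : Fin (finrank F W) → F, (∀ i, c i * σ (c i) = 1) ∧
      ∀ i, g • e i = c i • e' i := by
    rcases isEmpty_or_nonempty (Fin (finrank F W)) with h0 | ⟨⟨o⟩⟩
    · exact ⟨1, one_mem _, 1, fun i => h0.elim i, fun i => h0.elim i⟩
    obtain ⟨k, hk, ek⟩ := h.herm.witt_family e1 e1' fun i j =>
      (hW _ (me' i) _ (me' j)).trans (hW _ (me i) _ (me j)).symm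
    obtain ⟨f, hf, p⟩ := h.AWb_partner (e1'.notMem_span_image (s := {o}ᶜ) (x := o) (by simp))
      (hW _ (me' o) _ (me' o)) (mem_uPerp_span.2 (by rintro _ ⟨i, -, rfl⟩; exact hW _ (me' i) _ (me' o)))
    obtain ⟨ζ, h1, h2, h3⟩ := h.AWb_fix hk p
    refine ⟨_, h2, fun i => if i = o then ζ else 1, fun i => by by_cases hi : i = o <;> simp [hi, h1], fun i => ?_⟩
    rw [h3, ek, hW _ (me' i) _ (me' o)]
    by_cases hi : i = o
    · simp [hi, p.pair, sub_smul]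
    · simp [hi, mem_uPerp_span.1 hf _ ⟨i, hi, rfl⟩]
  refine ⟨g, mem_PW.2 ⟨hg, mem_St_of fun x hx => ?_⟩, SG.ext1 fun x => ?_⟩
  · rw [← e2] at hx
    induction hx using Submodule.span_induction with
    | mem _ hx => obtain ⟨i, rfl⟩ := hx; rw [hgc]; exact W.smul_mem _ (me' i)
    | zero => simp
    | add _ _ _ _ a b => rw [smul_add]; exact add_mem a b
    | smul c _ _ a => rw [smul_sm]; exact W.smul_mem _ a
  · rw [mul_smul, mul_smul, e3, e3', smul_add, smul_inv_smul, Finset.smul_sum]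
    congr 1
    refine Finset.sum_congr rfl fun i _ => ?_
    rw [smul_sm_of (fld_SU hg), ← SU_map hg, smul_inv_smul, hgc, map_smulₛₗ, smul_smul, smul_eq_mul,
      mul_right_comm, mul_comm (σ _), hc, one_mul]

theorem sing_conj {W : Submodule F V} (hW : TI B W) {a : SG F V} (ha : a ∈ AW B W) (fa : ¬ Full B W a) {f : V}
    (hf : f ∉ uPerp B W) : ∃ g ∈ PW B W, (g * a * g⁻¹) • f = f := by
  obtain ⟨x, hx, hx'⟩ : ∃ x, a • x = x ∧ x ∉ uPerp B W := by
    by_contra hn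
    push Not at hn
    exact fa hn
  obtain ⟨e, he, e1, e2⟩ : ∃ e ∈ W, B x e ≠ 0 ∧ B f e ≠ 0 := by
    rw [h.herm.mem_uPerp'] at hf hx'
    push Not at hf hx'
    obtain ⟨u, hu, u1⟩ := hf
    obtain ⟨v, hv, v1⟩ := hx'
    by_cases a1 : B x u = 0
    · by_cases a2 : B f v = 0
      · exact ⟨u + v, add_mem hu hv, by simpa [a1] using v1, by simpa [a2] using u1⟩
      · exact ⟨v, hv, v1, a2⟩
    · exact ⟨u, hu, a1, u1⟩
  obtain ⟨g, hg, l, l0, z, hz, hgx⟩ : ∃ g ∈ PW B W, ∃ l : F, l ≠ 0 ∧ ∃ z ∈ uPerp B W, g • x = l • f + z := by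
    obtain ⟨y, hy⟩ : ∃ y, y = (B x e / B f e) • f + x := ⟨_, rfl⟩
    have y1 : B y e = 0 := by
      rw [hy, map_add, map_smul, LinearMap.add_apply, LinearMap.smul_apply, smul_eq_mul, div_mul_cancel₀ _ e2,
        CharTwo.add_self_eq_zero]
    have xy : x + y = (B x e / B f e) • f := by rw [hy, add_comm, add_assoc, vadd_self (F := F), add_zero]
    by_cases hp : y ∈ uPerp B W
    · exact ⟨1, one_mem _, _, div_ne_zero e1 e2, y, hp, by rw [← xy, add_assoc, vadd_self (F := F), add_zero, one_smul]⟩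
    rw [mem_uPerp] at hp
    push Not at hp
    obtain ⟨u, hu, u1⟩ := hp
    obtain ⟨c, hc⟩ := h.exists_iso_add hW hu u1
    obtain ⟨e', he'⟩ : ∃ e', e' = (σ (B x e))⁻¹ • e := ⟨_, rfl⟩
    have m : e' ∈ W := he' ▸ W.smul_mem _ he
    have x1 : B x e' = 1 := by rw [he', map_smulₛₗ, map_inv₀, h.ss, smul_eq_mul, inv_mul_cancel₀ e1]
    have y2 : B (y + c • u) e' = 0 := by
      rw [map_add, LinearMap.add_apply, hW _ (W.smul_mem c hu) _ m, he', map_smulₛₗ, y1, smul_zero, add_zero]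
    refine ⟨_, h.AWb_xx_PW hW m y2 hc, _, div_ne_zero e1 e2, B x (y + c • u) • e' + c • u,
      hW.le (add_mem (W.smul_mem _ m) (W.smul_mem _ hu)), ?_⟩
    rw [h.xx_smul (hW _ m _ m) y2, x1, one_smul, ← xy]
    abel
  refine ⟨g, hg, ?_⟩
  have m := h.conj_mem_AW' (SU_le_Gam (PW_le W hg)) (mem_PW.1 hg).2 ha
  have : (g * a * g⁻¹) • g • x = g • x := by rw [mul_smul, inv_smul_smul, mul_smul, hx]
  rw [hgx, smul_add, h.AW_fix m hz, smul_sm_of (fld_SU (AW_le W m))] at this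
  exact smul_right_injective V l0 (add_right_cancel this)

theorem AW_le_comm {W : Submodule F V} (hW : TI B W) (h2 : 2 ≤ finrank F W) : AW B W ≤ ⁅AW B W, PW B W⁆ := by
  refine (h.AW_gen hW).le.trans ((closure_le _).2 ?_)
  rintro _ ⟨v, hv, a, ha, rfl⟩
  by_cases v0 : v = 0
  · rw [v0, tv_zero_left]; exact one_mem _
  have tm : ∀ u ∈ W, tv B u a ∈ AW B W := fun u hu => h.tv_mem_AW hu (hW u hu u hu) ha
  have ti : ∀ u ∈ W, (tv B u a)⁻¹ = tv B u a := fun u hu => inv_eq_of_mul_eq_one_right (h.AW_sq hW (tm u hu))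
  have M1 : ∀ u ∈ W, u ≠ 0 → tv B u a * tv B v a ∈ ⁅AW B W, PW B W⁆ := fun u hu u0 => by
    obtain ⟨g, hg, e⟩ := h.AWb_tr hW h2 hv hu v0 u0
    have := inv_mem (commutator_mem_commutator (tm v hv) hg)
    rwa [commutatorElement_inv, commutatorElement_def, tv_conj (SU_le_Gam (PW_le W hg)) (hW v hv v hv), e,
      fld_SU (PW_le W hg), ti v hv] at this
  have M3 : ∀ x y z, y ∈ AW B W → x * tv B v a ∈ ⁅AW B W, PW B W⁆ → y * tv B v a ∈ ⁅AW B W, PW B W⁆ →
      z * tv B v a ∈ ⁅AW B W, PW B W⁆ → x * y * z * tv B v a ∈ ⁅AW B W, PW B W⁆ := fun x y z hy h1 h2 h3 => by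
    have := mul_mem (mul_mem h1 h2) h3
    rwa [mul_assoc x, ← mul_assoc (tv B v a), h.AW_ab hW (tm v hv) hy, mul_assoc y, h.AW_sq hW (tm v hv), mul_one,
      ← mul_assoc] at this
  obtain ⟨w, hw, hn⟩ := h.AWb_indep h2 v
  have X : ∀ c : F, c ≠ 0 → xx B (a • c • v) w * tv B v a ∈ ⁅AW B W, PW B W⁆ := fun c hc => by
    have m := W.smul_mem c hv
    have e := h.tv_add (hW _ m _ m) (hW _ hw _ m) (hW _ hw _ hw) ha
    rw [← inv_mul_eq_iff_eq_mul, mul_inv_rev, ti _ m, ti _ hw] at e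
    rw [← e]
    refine M3 _ _ _ (tm _ m) (M1 w hw fun x => hn (x ▸ zero_mem _)) (M1 _ m (smul_ne_zero hc v0))
      (M1 _ (add_mem m hw) fun x => hn ?_)
    rw [← (vadd_eq_zero (F := F)).1 x]
    exact Submodule.smul_mem _ _ (Submodule.mem_span_singleton_self v)
  obtain ⟨ω, hω⟩ := h.exists_omega
  have ω0 : ω ≠ 0 := by rintro rfl; simp at hω
  have ω1 : 1 + ω ≠ 0 := fun x => by
    rw [← CharTwo.add_eq_zero.1 x, map_one, CharTwo.add_self_eq_zero] at hω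
    exact zero_ne_one hω
  have m : ∀ c : F, a • c • v ∈ W := fun c => W.smul_mem _ (W.smul_mem _ hv)
  have sy : ∀ c : F, xx B (a • c • v) w = xx B w (a • c • v) := fun c =>
    h.xx_symm (hW _ (m c) _ (m c)) (hW _ hw _ (m c)) (hW _ hw _ hw)
  have e : xx B (a • (1 + ω) • v) w = xx B (a • (1 : F) • v) w * xx B (a • ω • v) w := by
    rw [sy, sy, sy, add_smul, smul_add,
      h.xx_add (hW _ hw _ hw) (hW _ (m 1) _ hw) (hW _ (m ω) _ hw) (hW _ (m ω) _ (m 1))]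
  have := M3 _ _ _ (h.xx_mem_AW hW (m ω) hw) (X 1 one_ne_zero) (X ω ω0) (X _ ω1)
  rwa [← e, h.AW_sq hW (h.xx_mem_AW hW (m _) hw), one_mul] at this

theorem AW_cen {W : Submodule F V} (hW : TI B W) (h2 : 2 ≤ finrank F W) {a : SG F V} (ha : a ∈ AW B W)
    (hc : ∀ g ∈ PW B W, g * a = a * g) : a = 1 := by
  have := h.nontrivial
  have a1 := fld_SU (AW_le W ha)
  have key : ∀ f, B f f = 0 → a • f = f := fun f hf => by
    obtain ⟨e, he, e0, ef⟩ : ∃ e ∈ W, e ≠ 0 ∧ B e f = 0 := by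
      obtain ⟨v, hv, v0⟩ := h.AWb_ne h2
      obtain ⟨u, hu, hn⟩ := h.AWb_indep h2 v
      by_cases hp : B v f = 0
      · exact ⟨v, hv, v0, hp⟩
      refine ⟨u - (B u f / B v f) • v, sub_mem hu (W.smul_mem _ hv), fun x => hn ?_, by simp [hp]⟩
      rw [sub_eq_zero.1 x]
      exact Submodule.smul_mem _ _ (Submodule.mem_span_singleton_self v)
    obtain ⟨x, p⟩ := h.exists_pair ⟨e0, hW e he e he⟩
    have ev : ∀ c : F, σ c • (a • f - f) = (B (a • x - x) f * c) • e := fun c => by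
      have m := W.smul_mem c he
      have h1 : B f (c • e) = 0 := by rw [map_smulₛₗ, h.zero_symm ef, smul_zero]
      have := congrArg (· • x) (hc _ (h.AWb_xx_PW hW m h1 hf))
      have h3 : B (a • x) e = 1 := by
        have := hW _ ((mem_AW.1 ha).2 x) e he
        rwa [map_sub, LinearMap.sub_apply, p.pair', sub_eq_zero] at this
      simp only [mul_smul, h.xx_smul (hW _ m _ m) h1, smul_add, smul_sm_of a1, h.AW_fix ha (hW.le he), map_smulₛₗ,
        h3, p.pair', smul_eq_mul, mul_one] at this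
      rw [map_sub, LinearMap.sub_apply, mul_smul]
      generalize a • f = y at *
      generalize a • x = z at *
      linear_combination (norm := module) -this
    obtain ⟨ω, hω⟩ := h.exists_omega
    have e1 := ev 1
    have e2 := ev ω
    rw [map_one, one_smul, mul_one] at e1
    rw [e1, smul_smul] at e2
    have e3 : B (a • x - x) f = 0 := by
      have := smul_left_injective F e0 e2
      linear_combination (-B (a • x - x) f) * hω + this + CharTwo.add_self_eq_zero (B (a • x - x) f * ω)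
    rwa [e3, zero_smul, sub_eq_zero] at e1
  refine SG.ext1 fun x => ?_
  by_cases hp : x ∈ uPerp B W
  · exact h.AW_fix ha hp
  rw [mem_uPerp] at hp
  push Not at hp
  obtain ⟨u, hu, u1⟩ := hp
  obtain ⟨c, hc'⟩ := h.exists_iso_add hW hu u1
  have := key _ hc'
  rw [smul_add, h.AW_fix ha (hW.le (W.smul_mem c hu))] at this
  exact add_right_cancel this

theorem AW_two {e1 e2 : V} (h1 : B e1 e1 = 0) (h21 : B e2 e1 = 0) (h2 : B e2 e2 = 0) {a : SG F V}
    (ha : a ∈ AW B (Submodule.span F {e1, e2})) :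
    ∃ α β l : F, σ α = α ∧ σ β = β ∧ a = tv B e1 α * tv B e2 β * xx B e1 (l • e2) := by
  have m1 : e1 ∈ Submodule.span F {e1, e2} := Submodule.subset_span (by simp)
  have m2 : e2 ∈ Submodule.span F {e1, e2} := Submodule.subset_span (by simp)
  have hW : TI B (Submodule.span F {e1, e2}) := fun x hx y hy => by
    obtain ⟨s, t, rfl⟩ := Submodule.mem_span_pair.1 hx
    obtain ⟨s', t', rfl⟩ := Submodule.mem_span_pair.1 hy
    simp [h1, h2, h21, h.zero_symm h21]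
  have sm : ∀ {x}, x ∈ Submodule.span F {e1, e2} → ∀ c : F, c • x ∈ Submodule.span F {e1, e2} := fun hx c =>
    Submodule.smul_mem _ c hx
  rw [h.AW_gen hW] at ha
  induction ha using closure_induction with
  | mem g hg =>
    obtain ⟨v, hv, a, ha, rfl⟩ := hg
    obtain ⟨s, t, rfl⟩ := Submodule.mem_span_pair.1 hv
    refine ⟨a * (s * σ s), a * (t * σ t), σ (a * s) * t, by simp [ha, h.ss, mul_comm], by simp [ha, h.ss, mul_comm], ?_⟩
    rw [h.tv_add (hW _ (sm m1 s) _ (sm m1 s)) (hW _ (sm m2 t) _ (sm m1 s)) (hW _ (sm m2 t) _ (sm m2 t)) ha, tv_sm, tv_sm,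
      smul_smul, h.xx_sm h1 (hW _ (sm m2 t) _ m1), smul_smul]
  | one => exact ⟨0, 0, 0, map_zero _, map_zero _, by rw [tv_zero, tv_zero, zero_smul, h.xx_zero h1, one_mul, one_mul]⟩
  | mul x y _ _ hx hy =>
    obtain ⟨α, β, l, a1, a2, rfl⟩ := hx
    obtain ⟨α', β', l', b1, b2, rfl⟩ := hy
    refine ⟨α + α', β + β', l + l', by rw [map_add, a1, b1], by rw [map_add, a2, b2], ?_⟩
    have c1 : Commute (xx B e1 (l • e2)) (tv B e1 α' * tv B e2 β') := h.AW_ab hW (h.xx_mem_AW hW m1 (sm m2 l))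
      (mul_mem (h.tv_mem_AW m1 h1 b1) (h.tv_mem_AW m2 h2 b2))
    have c2 : Commute (tv B e2 β) (tv B e1 α') := h.AW_ab hW (h.tv_mem_AW m2 h2 a2) (h.tv_mem_AW m1 h1 b1)
    rw [c1.mul_mul_mul_comm, c2.mul_mul_mul_comm, tv_mul h1, tv_mul h2, add_smul,
      h.xx_add h1 (hW _ (sm m2 l) _ m1) (hW _ (sm m2 l') _ m1) (hW _ (sm m2 l') _ (sm m2 l))]
  | inv x hx ih =>
    rw [← h.AW_gen hW] at hx
    rwa [inv_eq_of_mul_eq_one_right (h.AW_sq hW hx)]

theorem AW_two_inj {e1 e2 : V} (hi : LinearIndependent F ![e1, e2]) (h1 : B e1 e1 = 0) (h21 : B e2 e1 = 0)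
    (h2 : B e2 e2 = 0) {α β l : F} (e : tv B e1 α * tv B e2 β * xx B e1 (l • e2) = 1) : α = 0 ∧ β = 0 ∧ l = 0 := by
  obtain ⟨f1, f2, p⟩ := h.exists_frame hi h1 h21 h2
  have l1 : B (l • e2) e1 = 0 := by simp [h21]
  have e' := congrArg (· • f1) e
  simp only [mul_smul, h.xx_smul h1 l1, tv_smul h1, tv_smul h2, one_smul] at e'
  simp [p.fe, p.p1.pair', h2, h21, add_assoc] at e'
  obtain ⟨a, b⟩ := LinearIndependent.pair_iff.1 hi α l (by rw [add_comm]; exact e')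
  subst a b
  rw [tv_zero, zero_smul, h.xx_zero h1, one_mul, mul_one, h.tv_eq_one ⟨p.p2.left_ne_zero, h2⟩] at e
  exact ⟨rfl, e, rfl⟩

theorem exists_d3 (hq : q = 2) {ω : F} (hω : ω ≠ 0) :
    ∃ e1 f1 e2 f2 e3 f3 : V, Frame B e1 f1 e2 f2 ∧ Frame B e1 f1 e3 f3 ∧ Frame B e2 f2 e3 f3 ∧
      ∃ d ∈ SU B, d • e1 = e1 ∧ d • f1 = f1 ∧ d • e2 = e2 ∧ d • f2 = f2 ∧ d • e3 = ω • e3 := by
  have h7 : 7 ≤ finrank F V := h.dim.2.resolve_left (by omega)
  have n0 : Disjoint (⊥ : Submodule F V) (uPerp B ⊥) := disjoint_bot_left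
  obtain ⟨e1, a1, f1, b1, p1⟩ := h.AWb_pair n0 (by simp; omega)
  obtain ⟨n1, d1⟩ := h.AWb_sup n0 a1 b1 p1
  rw [finrank_bot] at d1
  obtain ⟨e2, a2, f2, b2, p2⟩ := h.AWb_pair n1 (by omega)
  obtain ⟨n2, d2⟩ := h.AWb_sup n1 a2 b2 p2
  obtain ⟨e3, a3, f3, b3, p3⟩ := h.AWb_pair n2 (by omega)
  obtain ⟨n3, d3⟩ := h.AWb_sup n2 a3 b3 p3
  obtain ⟨p, hp, p0⟩ := h.herm.exists_perp_nonisotropic n3 (by omega)
  simp only [uPerp_sup, Submodule.mem_inf, mem_uPerp_span_pair] at a2 b2 a3 b3 hp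
  obtain ⟨k, hk, e, -⟩ := h.herm.exists_USG_of_nonisotropic p0 (h.herm.uHyp_mem p3 hω)
  refine ⟨e1, f1, e2, f2, e3, f3, ⟨p1, p2, a2.2.1, b2.2.1, a2.2.2, b2.2.2⟩,
    ⟨p1, p3, a3.1.2.1, b3.1.2.1, a3.1.2.2, b3.1.2.2⟩, ⟨p2, p3, a3.2.1, b3.2.1, a3.2.2, b3.2.2⟩, lin k,
    lin_mem_SU.2 hk, ?_, ?_, ?_, ?_, ?_⟩ <;> rw [lin_smul]
  · rw [e _ hp.1.1.2.1, p3.uHyp_of_perp hω a3.1.2.1 b3.1.2.1]
  · rw [e _ hp.1.1.2.2, p3.uHyp_of_perp hω a3.1.2.2 b3.1.2.2]
  · rw [e _ hp.1.2.1, p3.uHyp_of_perp hω a3.2.1 b3.2.1]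
  · rw [e _ hp.1.2.2, p3.uHyp_of_perp hω a3.2.2 b3.2.2]
  · rw [e _ hp.2.1, p3.uHyp_left hω]

theorem exists_zeta (hq : 4 ≤ q) : ∃ ζ : F, ζ * σ ζ = 1 ∧ ζ + σ ζ ≠ 0 ∧ ζ + σ ζ ≠ 1 := by
  by_contra hn
  push Not at hn
  have le : uNormOne σ ≤ rootsOfUnity 3 F := fun u hu => by
    have hu' : (u : F) * σ u = 1 := hu
    rw [mem_rootsOfUnity']
    have h2 : (2 : F) = 0 := CharTwo.two_eq_zero
    by_cases e : (u : F) + σ u = 0
    · have : (u : F) = 1 := h.AWb_sq_inj (by rw [mul_one, ← hu', ← CharTwo.add_eq_zero.1 e])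
      rw [this, one_pow]
    · have := hn u hu' e
      linear_combination ((u : F) ^ 2 + u) * this - (u + 1 : F) * hu' - h2
  have := (card_le_of_le le).trans (card_rootsOfUnity F 3)
  rw [h.uf.card_uNormOne] at this
  omega

theorem exists_zeta' : ∃ ζ : F, ζ * σ ζ = 1 ∧ ζ + σ ζ ≠ 0 := by
  obtain ⟨u, h1, h2⟩ := h.herm.toUInvol.exists_norm_one_ne
  exact ⟨u, h1, fun e => h2 (CharTwo.add_eq_zero.1 e).symm⟩

theorem exists_theta {δ : F} (hδ : σ δ = δ) :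
    (∃ ξ : F, σ ξ = ξ ∧ ξ * ξ + ξ = δ) ∨ ∃ θ : F, θ + σ θ = 1 ∧ θ * θ + θ = δ := by
  classical
  have := Fintype.ofFinite F
  have h2 : (2 : F) = 0 := CharTwo.two_eq_zero
  have c0 := h.uf.card_trace_eq (map_zero σ)
  have c1 := h.uf.card_trace_eq (map_one σ)
  have c2 := h.uf.card_fixed
  rw [Nat.card_eq_fintype_card, Fintype.card_subtype] at c0 c1 c2
  obtain ⟨D, hD⟩ : ∃ D, D = (Finset.univ.filter fun x : F => x + σ x = 0) ∪ Finset.univ.filter fun x : F => x + σ x = 1 :=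
    ⟨_, rfl⟩
  have mD : ∀ x, x ∈ D ↔ x + σ x = 0 ∨ x + σ x = 1 := fun x => by simp [hD]
  have cD : D.card = 2 * q := by
    rw [hD, Finset.card_union_of_disjoint (Finset.disjoint_filter.2 fun x _ a b => zero_ne_one (a.symm.trans b)), c0, c1,
      two_mul]
  have le := Finset.card_le_mul_card_image (f := fun x : F => x * x + x) D 2 fun b hb => by
    obtain ⟨x, -, rfl⟩ := Finset.mem_image.1 hb
    refine (Finset.card_le_card (t := {x, x + 1}) fun y hy => ?_).trans Finset.card_le_two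
    have e : y * y + y = x * x + x := (Finset.mem_filter.1 hy).2
    have : (y - x) * (y - (x + 1)) = 0 := by linear_combination e + (x * x + x - x * y - y) * h2
    simpa [sub_eq_zero] using this
  have eq : D.image (fun x : F => x * x + x) = Finset.univ.filter fun a : F => σ a = a := by
    refine Finset.eq_of_subset_of_card_le (fun b hb => ?_) (by omega)
    obtain ⟨x, hx, rfl⟩ := Finset.mem_image.1 hb
    rw [Finset.mem_filter, map_add, map_mul]
    refine ⟨Finset.mem_univ _, ?_⟩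
    rcases (mD x).1 hx with e | e
    · rw [← CharTwo.add_eq_zero.1 e]
    · linear_combination (σ x - x + 2) * e + (1 - 2 * x) * h2
  obtain ⟨x, hx, e⟩ := Finset.mem_image.1 (eq.ge (Finset.mem_filter.2 ⟨Finset.mem_univ δ, hδ⟩))
  rcases (mD x).1 hx with a | a
  exacts [.inl ⟨x, (CharTwo.add_eq_zero.1 a).symm, e⟩, .inr ⟨x, a, e⟩]

end Sp

end Cfsg.Agent.SUm
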