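import Mathlib
import Cfsg.Agent.SUm.Cfg2
import Cfsg.Agent.SUm.Cen
import Cfsg.Agent.SUm.M1
import Cfsg.Agent.S2692

set_option autoImplicit false
set_option linter.unusedSectionVars false

namespace Cfsg.Agent.SUm

open Cfsg Cfsg.Agent.Cl Cfsg.Agent.Loc.Mss Subgroup Module
open Cfsg.Agent.StdB (C1 mem_C1 El)
open scoped commutatorElement

variable {F : Type*} [Field F] [Finite F] [CharP F 2] {σ : F →+* F} {V : Type*} [AddCommGroup V] [Module F V]
  [Finite V] {B : V →ₗ[F] V →ₛₗ[σ] F} {q : ℕ} {G : Type*} [Group G] [Finite G]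

namespace AutAux

section Abs

variable {D L : Type*} [Group D] [Group L]

theorem eq_of_central (hD : commutator D = ⊤) (f f' : D →* L)
    (h : ∀ x, f' x * (f x)⁻¹ ∈ center L) (x : D) : f' x = f x := by
  let χ : D →* center L := MonoidHom.mk' (fun x => ⟨_, h x⟩) fun x y => Subtype.ext (by
    have := mem_center_iff.1 (h y) (f x)⁻¹
    simp only [map_mul, mul_inv_rev, coe_mul]
    rw [mul_assoc (f' x) (f x)⁻¹, this]
    group)
  have h1 : commutator D ≤ χ.ker := commutator_le.2 fun a _ b _ => by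
    rw [MonoidHom.mem_ker, map_commutatorElement, commutatorElement_eq_one_iff_mul_comm]
    exact Subtype.ext (mem_center_iff.1 (χ b).2 _)
  exact mul_inv_eq_one.1 (congrArg Subtype.val (h1 (hD ▸ mem_top x)))

theorem center_eq (hD : commutator D = ⊤) {f : D →* L} (hs : Function.Surjective f)
    (hk : f.ker ≤ center D) : center D = ((QuotientGroup.mk' (center L)).comp f).ker := by
  ext x
  rw [MonoidHom.mem_ker, MonoidHom.comp_apply, QuotientGroup.mk'_apply, QuotientGroup.eq_one_iff]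
  refine ⟨fun h => mem_center_iff.2 fun y => ?_, fun h => mem_center_iff.2 fun y => ?_⟩
  · obtain ⟨y, rfl⟩ := hs y
    rw [← map_mul, ← map_mul, mem_center_iff.1 h]
  · have := eq_of_central hD (MonoidHom.id D) (MulAut.conj x).toMonoidHom (fun y => hk (by
      simp only [MonoidHom.mem_ker, MulEquiv.coe_toMonoidHom, MulAut.conj_apply,
        MonoidHom.id_apply, map_mul, map_inv]
      rw [← mem_center_iff.1 h]
      group)) y
    exact (mul_inv_eq_iff_eq_mul.1 this).symm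

theorem exists_aut (hD : commutator D = ⊤) {f f' : D →* L} (hs : Function.Surjective f)
    (hs' : Function.Surjective f') (hk : f.ker ≤ center D) (hk' : f'.ker ≤ center D) :
    ∃ β : MulAut (D ⧸ center D), ∀ θ : D →* D, (∀ x : D, β x = θ x) → ∀ x, f' x = f (θ x) := by
  let e := QuotientGroup.liftEquiv _ ((QuotientGroup.mk'_surjective (center L)).comp hs :
    Function.Surjective ((QuotientGroup.mk' (center L)).comp f)) (center_eq hD hs hk)
  let e' := QuotientGroup.liftEquiv _ ((QuotientGroup.mk'_surjective (center L)).comp hs' :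
    Function.Surjective ((QuotientGroup.mk' (center L)).comp f')) (center_eq hD hs' hk')
  refine ⟨e'.trans e.symm, fun θ hθ => eq_of_central hD (f.comp θ) f' fun x => ?_⟩
  have h1 : ((f' x : L) : L ⧸ center L) = (f (θ x) : L) := e.symm_apply_eq.1 (hθ x)
  rw [← div_eq_mul_inv]
  exact QuotientGroup.eq_iff_div_mem.1 h1

end Abs

variable {n : ℕ} {e : V ≃ₗ[F] (Fin n → F)}

open Matrix

theorem mat_eq {M M' : Matrix (Fin n) (Fin n) F} (γ : SG F V)
    (h : ∀ v, M *ᵥ e (γ • v) = M' *ᵥ e (γ • v)) : M = M' := by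
  refine Matrix.toLin'.injective (LinearMap.ext fun w => ?_)
  simpa using h (γ⁻¹ • e.symm w)

theorem exists_fld (h : Sp B q) (he : ∀ u v, uStd σ (Fin n) (e u) (e v) = B u v) (τ : F ≃+* F) :
    ∃ γ ∈ Gam B, ∀ v, e (γ • v) = τ ∘ e v := by
  let f : V ≃+ V := e.toAddEquiv.trans
    ((AddEquiv.piCongrRight fun _ => τ.toAddEquiv).trans e.symm.toAddEquiv)
  have hf : ∀ v, e (f v) = τ ∘ e v := fun v => e.apply_symm_apply _
  refine ⟨SG.mk' f τ fun a x => e.injective ?_, fun x y => ?_, hf⟩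
  · rw [hf, e.map_smul, e.map_smul, hf]
    ext i
    simp
  · rw [SG.mk'_smul, SG.mk'_smul, SG.fld_mk', ← he, ← he, hf, hf]
    simp [uStd, h.aut_σ]

theorem exists_eps (h : Sp B q) (he : ∀ u v, uStd σ (Fin n) (e u) (e v) = B u v) :
    ∃ ε : SU B ≃* Cfsg.SU n F q, ∀ (x : SU B) v, (ε x).1.1 *ᵥ e v = e (x.1 • v) := by
  obtain ⟨i, hi⟩ : ∃ i : USG B ≃* SU B, ∀ y, (i y).1 = lin y.1 :=
    ⟨equivMapOfInjective (USG B) lin lin_injective, fun _ => rfl⟩
  refine ⟨i.symm.trans (h.uf.suEquivOf e he), fun x v => ?_⟩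
  obtain ⟨y, rfl⟩ := i.surjective x
  rw [MulEquiv.trans_apply, MulEquiv.symm_apply_apply, hi, lin_smul]
  exact h.uf.suEquivOf_mulVec e he y v

end AutAux

open AutAux Matrix in
theorem Sp.aut (h : Sp B q) {ψ ψ' : SU B →* G} (hψ : IsE ψ) (hψ' : IsE ψ') (e : ψ'.range = ψ.range) :
    ∃ γ ∈ Gam B, ∀ x ∈ SU B, ev ψ' x = ev ψ (γ * x * γ⁻¹) := by
  have hD : commutator (SU B) = ⊤ := by
    apply Subgroup.map_injective (SU B).subtype_injective
    rw [map_subtype_commutator, h.SU_perfect, ← MonoidHom.range_eq_map, range_subtype]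
  have hk : ∀ {ψ : SU B →* G}, IsE ψ → ∀ x, ψ x = 1 → x ∈ center (SU B) := fun hψ x hx =>
    mem_center_iff.2 fun y => Subtype.ext
      (Sc_comm (hψ x x.2 ((ev_coe x).trans hx)) (fld_SU y.2)).symm
  obtain ⟨β, hβ⟩ := exists_aut hD (f := ψ.rangeRestrict)
    (f' := ψ'.codRestrict ψ.range fun x => e ▸ ⟨x, rfl⟩) ψ.rangeRestrict_surjective
    (fun y => by
      obtain ⟨x, hx⟩ : y.1 ∈ ψ'.range := e.ge y.2
      exact ⟨x, Subtype.ext hx⟩)
    (fun x hx => hk hψ x (congrArg Subtype.val hx)) fun x hx => hk hψ' x (congrArg Subtype.val hx)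
  obtain ⟨c, hc⟩ := h.herm.exists_equiv_uStd rfl
  obtain ⟨ε, hε⟩ := exists_eps h hc
  have := Fintype.ofFinite F
  have : Fact (Nat.Prime 2) := ⟨Nat.prime_two⟩
  obtain ⟨k, hk1, hq⟩ := h.exists_pow
  have h4 := h.four_le
  obtain ⟨δ, φ, τ, ⟨g, hg, hδ⟩, hφ, hb⟩ := S2692.result hq hk1
    (Nat.card_eq_fintype_card.symm.trans h.uf.card) (n := finrank F V) (by omega) (by omega)
    ((centerQuotCongr ε).symm.trans (β.trans (centerQuotCongr ε)))
  obtain ⟨γ, hγ, hγ'⟩ := exists_fld h hc τ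
  obtain ⟨u, hu⟩ := (h.uf.guEquivOf c hc).surjective ⟨g, hg⟩
  have hu' : ∀ v, c (lin u.1 • v) = g.1 *ᵥ c v := fun v => by
    rw [lin_smul, ← h.uf.guEquivOf_mulVec c hc, hu]
  have hm : lin u.1 * γ ∈ Gam B := mul_mem (lin_mem_Gam.2 u.2) hγ
  let θ : SU B →* SU B := MonoidHom.mk' (fun x => ⟨_, conj_mem_SU hm x.2⟩) fun x y =>
    Subtype.ext (by simp only [coe_mul]; group)
  refine ⟨_, hm, fun x hx => ?_⟩
  rw [ev_of_mem hx, ev_of_mem (conj_mem_SU hm hx)]
  refine congrArg Subtype.val (hβ θ (fun x => (centerQuotCongr ε).injective ?_) ⟨x, hx⟩)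
  have h1 := DFunLike.congr_fun hb (centerQuotCongr ε x)
  rw [MulEquiv.trans_apply, MulEquiv.symm_apply_apply, MulEquiv.trans_apply] at h1
  rw [h1, MulAut.mul_apply, centerQuotCongr_mk, centerQuotCongr_mk,
    hφ (ε x) (ε ⟨_, conj_mem_SU hγ x.2⟩) (mat_eq (e := c) γ fun v => ?_)]
  · refine hδ _ _ (mat_eq (e := c) (lin u.1) fun v => ?_)
    rw [hε, hu', ← mulVec_mulVec, ← mulVec_mulVec, mulVec_mulVec _ (g⁻¹).1, Units.inv_mul,
      one_mulVec, hε, ← hu']
    simp only [θ, MonoidHom.mk'_apply, _root_.mul_inv_rev, mul_smul, inv_smul_smul]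
  · rw [hε, mul_smul, mul_smul, inv_smul_smul, hγ', hγ', ← hε]
    ext i
    exact RingHom.map_mulVec τ.toRingHom _ _ i

end Cfsg.Agent.SUm
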