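import Mathlib
import Cfsg.Agent.SUm.Cfg2
import Cfsg.Agent.SUm.AWa
import Cfsg.Agent.SUm.Flag
import Cfsg.Agent.GT.PGroupBasic
import Cfsg.Agent.StdB.Red

/-! The offender count for a semilinear involution. -/

set_option autoImplicit false
set_option linter.unusedSectionVars false

namespace Cfsg.Agent.SUm

open Cfsg Cfsg.Agent.Cl Cfsg.Agent.Loc.Mss Subgroup Module
open Cfsg.Agent.StdB (C1 mem_C1 El)
open scoped commutatorElement

variable {F : Type*} [Field F] [Finite F] [CharP F 2] {σ : F →+* F} {V : Type*} [AddCommGroup V] [Module F V]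
  [Finite V] {B : V →ₗ[F] V →ₛₗ[σ] F} {q : ℕ} {G : Type*} [Group G] [Finite G]

namespace JSa

theorem idx {Γ : Type*} [Group Γ] {A A' : Subgroup Γ} {p : V → Prop} (y : Γ → V)
    (hm : ∀ a ∈ A, ∀ b ∈ A, y (a * b) = y a + y b) (hk : ∀ a ∈ A, a ∈ A' ↔ y a = 0) (hp : ∀ a ∈ A, p (y a)) :
    A'.relIndex A ≤ Nat.card {v // p v} ∧ ((∀ v, p v → ∃ a ∈ A, y a = v) → A'.relIndex A = Nat.card {v // p v}) := by
  let φ : A →* Multiplicative V := MonoidHom.mk' (fun a => Multiplicative.ofAdd (y a)) fun a b =>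
    congrArg Multiplicative.ofAdd (hm _ a.2 _ b.2)
  have e : A'.relIndex A = Nat.card φ.range := by
    rw [← index_ker, relIndex]
    exact congrArg _ (Subgroup.ext fun a => hk a a.2)
  let g : φ.range → {v // p v} := fun x => ⟨x.1.toAdd, by obtain ⟨_, a, rfl⟩ := x; exact hp a a.2⟩
  have hg : Function.Injective g := fun x x' h => Subtype.ext (congrArg (fun v : {v // p v} => v.1) h)
  rw [e]
  refine ⟨Nat.card_le_card_of_injective g hg, fun hs => Nat.card_eq_of_bijective g ⟨hg, fun v => ?_⟩⟩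
  obtain ⟨a, ha, e⟩ := hs v.1 v.2
  exact ⟨⟨_, ⟨a, ha⟩, rfl⟩, Subtype.ext e⟩

theorem cbot {Γ : Type*} [Group Γ] (g : Γ) : g ∈ 𝐂[(⊥ : Subgroup Γ)] := mem_cent.2 fun a ha => by simp [mem_bot.1 ha]

variable {W : Submodule F V} {β g a b : SG F V} {P : Subgroup (SG F V)} {f u x : V}

variable (B) in
/-- The hyperplane `W ∩ f^⊥`. -/
def hp (W : Submodule F V) (f : V) : Submodule F V := W ⊓ LinearMap.ker (B.flip f)

theorem mem_hp : x ∈ hp B W f ↔ x ∈ W ∧ B x f = 0 := Iff.rfl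

theorem lam (hg : g ∈ Gam B) (hs : g ∈ St W) (hf : g • f - f ∈ uPerp B W) (hx : x ∈ W) :
    B (g • x) f = fld g (B x f) := by
  have := hf _ (St.mem hs hx)
  rw [map_sub, sub_eq_zero] at this
  rw [← this, hg]

theorem st_hp (hg : g ∈ Gam B) (hs : g ∈ St W) (hf : g • f - f ∈ uPerp B W) : g ∈ St (hp B W f) :=
  mem_St_of fun _ hx => ⟨St.mem hs hx.1, (lam hg hs hf hx.1).trans (by rw [(mem_hp.1 hx).2, map_zero])⟩

theorem sub_mem_hp (hu : u ∈ W) (uf : B u f = 1) (hx : x ∈ W) : x - B x f • u ∈ hp B W f :=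
  mem_hp.2 ⟨sub_mem hx (W.smul_mem _ hu), by simp [uf]⟩

theorem finrank_hp (hu : u ∈ W) (uf : B u f = 1) : finrank F W = finrank F (hp B W f) + 1 := by
  rw [← Submodule.finrank_sup_span_singleton (v := u) fun c => by simpa [uf] using (mem_hp.1 c).2]
  refine congrArg (fun X : Submodule F V => finrank F X) (le_antisymm (fun x hx => ?_)
    (sup_le inf_le_left ((Submodule.span_singleton_le_iff_mem _ _).2 hu)))
  simpa using Submodule.add_mem_sup (sub_mem_hp hu uf hx)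
    (Submodule.smul_mem _ (B x f) (Submodule.mem_span_singleton_self u))

theorem hp_smul (hu : u ∈ W) (uf : B u f = 1) (hb : fld b = 1) (hf : b ∈ Fix F (hp B W f : Set V)) (hx : x ∈ W) :
    b • x = x + B x f • (b • u - u) := by
  have := hf _ (sub_mem_hp hu uf hx)
  rw [smul_sub, smul_sm_of hb, sub_eq_iff_eq_add] at this
  rw [this, smul_sub]; abel

variable (h : Sp B q)
include h

theorem exists_fu (hW : TI B W) (h0 : W ≠ ⊥) (hβ : β ∈ Gam B ⊓ St W) (b2 : β * β = 1) (hf : fld β ≠ 1)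
    (hP : IsPGroup 2 P) (hle : P ≤ PW B W ⊓ C1 β) :
    ∃ f, ∃ u ∈ W, B u f = 1 ∧ β • u = u ∧ β • f - f ∈ uPerp B W ∧ ∀ g ∈ P, g • f - f ∈ uPerp B W := by
  obtain ⟨f, -, f1, f2⟩ := h.exists_hyp (P := P ⊔ zpowers β)
    (pg_sup hP (StdB.pg_zpowers b2) fun g hg => centralizer_le_normalizer _ (mem_cent.2 fun x hx => by
      obtain ⟨n, rfl⟩ := hx
      exact (Commute.zpow_left (mem_C1.1 (hle hg).2).symm n).eq))
    (sup_le (fun g hg => SU_le_Gam (hle hg).1.1) (zpowers_le.2 hβ.1)) hW h0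
    (sup_le (fun g hg => (hle hg).1.2) (zpowers_le.2 hβ.2))
  have f3 := f2 β (mem_sup_right (mem_zpowers β))
  obtain ⟨y, hy, y1, y2⟩ : ∃ y ∈ W, β • y = y ∧ B y f ≠ 0 := by
    by_contra c
    push Not at c
    obtain ⟨ω, hω⟩ := h.exists_omega
    refine f1 fun x hx => ?_
    obtain ⟨y, hy, y', hy', e1, e2, rfl⟩ := h.span_fix b2 hf hβ.2 hx hω
    simp [c y hy e1, c y' hy' e2]
  refine ⟨f, (B y f)⁻¹ • y, W.smul_mem _ hy, by simp [y2], ?_, f3, fun g hg => f2 g (mem_sup_left hg)⟩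
  rw [smul_sm, map_inv₀, ← lam hβ.1 hβ.2 f3 hy, y1]

theorem key (hW : TI B W) (hu : u ∈ W) (uf : B u f = 1) (ha : a ∈ AW B W) (hb : b ∈ PW B W)
    (bf : b • f - f ∈ uPerp B W) (hf : b ∈ Fix F (hp B W f : Set V)) (c : b * a = a * b) (h0 : b • u - u ≠ 0) :
    a • f - f ∈ F ∙ (b • u - u) := by
  obtain ⟨c', hc⟩ : ∃ c', c' = b • u - u := ⟨_, rfl⟩
  obtain ⟨y, hy⟩ : ∃ y, y = a • f - f := ⟨_, rfl⟩
  have aW := (mem_AW.1 ha).2
  have b1 := fld_SU hb.1
  have bs : ∀ x ∈ W, b • x = x + B x f • c' := fun x hx => hc ▸ hp_smul hu uf b1 hf hx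
  have cf : B c' f = 0 := by simp [hc, lam (SU_le_Gam hb.1) hb.2 bf hu, b1]
  have ai : a⁻¹ = a := inv_eq_of_mul_eq_one_right (h.AW_sq hW ha)
  have k : ∀ x, B x y • c' + B x c' • (y + B y f • c') = 0 := fun x => by
    have k1 : b⁻¹ • x - (x + B x c' • f) ∈ uPerp B W := fun w hw => by
      rw [map_sub, ← SU_left hb.1, bs w hw]
      simp [h.symm, mul_comm]
    have k2 := h.AW_fix ha k1
    have k3 : a • b⁻¹ • x = b⁻¹ • a • x := by
      rw [← mul_smul, ← mul_smul, (Commute.inv_left (show Commute b a from c)).eq]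
    have k4 : b⁻¹ • (a • x - x) = a • x - x + B x c' • y := by
      rw [smul_sub, smul_add, k3, smul_sm_of (fld_SU ha.1), sub_eq_sub_iff_sub_eq_sub] at k2
      rw [smul_sub, k2, hy, smul_sub]; abel
    have k5 : B (a • x - x) f = B x y := by simp [hy, SU_left ha.1, ai]
    rw [inv_smul_eq_iff, smul_add, smul_sm_of b1, bs _ (aW x), bs y (hy ▸ aW f), k5, add_assoc] at k4
    exact left_eq_add.1 k4
  rw [← hc] at h0 ⊢
  have k1 := k f
  rw [h.zero_symm cf, zero_smul, add_zero, smul_eq_zero_iff_left h0] at k1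
  obtain ⟨x, hx⟩ : ∃ x, B x c' ≠ 0 := by
    by_contra c
    push Not at c
    exact h0 (h.herm.nondeg' _ c)
  have k2 := k x
  rw [h.zero_symm k1, zero_smul, add_zero, vadd_eq_zero (F := F)] at k2
  exact Submodule.mem_span_singleton.2 ⟨(B x c')⁻¹ * B x y, by rw [mul_smul, k2, inv_smul_smul₀ hx, hy]⟩

theorem main (b2 : β * β = 1) (hf : fld β ≠ 1) (hP : IsPGroup 2 P) (n : ℕ) : ∀ W : Submodule F V, finrank F W = n →
    TI B W → β ∈ Gam B ⊓ St W → P ≤ PW B W ⊓ C1 β →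
    Nat.card (AW B W ⊓ C1 β ⊓ 𝐂[P] : Subgroup _) * (Fix F (W : Set V)).relIndex P ≤ q ^ (n * (n + 1) / 2) ∧
      (P = ⊥ → Nat.card (AW B W ⊓ C1 β ⊓ 𝐂[P] : Subgroup _) = q ^ (n * (n + 1) / 2)) := by
  induction n with
  | zero =>
    intro W hn hW hβ hle
    obtain rfl := Submodule.finrank_eq_zero.1 hn
    have := h.nontrivial
    have e1 : Nat.card (AW B ⊥ ⊓ C1 β ⊓ 𝐂[P] : Subgroup _) = 1 := card_eq_one.2 ((eq_bot_iff_forall _).2 fun a ha =>
      SG.ext1 fun x => sub_eq_zero.1 ((mem_AW.1 ha.1.1).2 x))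
    have e2 : (Fix F ((⊥ : Submodule F V) : Set V)).relIndex P = 1 := relIndex_eq_one.2 fun g _ x hx => by
      rw [show x = 0 from hx, smul_zero]
    rw [e1, e2]
    exact ⟨le_rfl.trans_eq (pow_zero q).symm, fun _ => (pow_zero q).symm⟩
  | succ n ih =>
    intro W hn hW hβ hle
    obtain ⟨f, u, hu, uf, βu, βf, Pf⟩ := exists_fu h hW (fun c => by rw [c, finrank_bot] at hn; omega) hβ b2 hf hP hle
    have hn' : finrank F (hp B W f) = n := by have := finrank_hp hu uf; omega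
    have βs := st_hp hβ.1 hβ.2 βf
    obtain ⟨i1, i2⟩ := ih (hp B W f) hn' (hW.mono inf_le_left) ⟨hβ.1, βs⟩ fun g hg =>
      ⟨⟨(hle hg).1.1, st_hp (SU_le_Gam (hle hg).1.1) (hle hg).1.2 (Pf g hg)⟩, (hle hg).2⟩
    have e1 := GT.PG.relIndex_mul_card (H := AW B (hp B W f) ⊓ C1 β ⊓ 𝐂[P]) (K := AW B W ⊓ C1 β ⊓ 𝐂[P])
      (inf_le_inf_right _ (inf_le_inf_right _ (AW_mono inf_le_left)))
    have e2 := relIndex_mul_relIndex (Fix F (W : Set V) ⊓ P) (Fix F (hp B W f : Set V) ⊓ P) P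
      (inf_le_inf_right _ fun g hg x hx => hg x hx.1) inf_le_right
    rw [inf_relIndex_right, inf_relIndex_right] at e2
    have ex : (n + 1) * (n + 1 + 1) / 2 = n + 1 + n * (n + 1) / 2 := by
      rw [show (n + 1) * (n + 1 + 1) = n * (n + 1) + 2 * (n + 1) by ring]; omega
    have ym : ∀ a ∈ AW B W ⊓ C1 β ⊓ 𝐂[P], ∀ b ∈ AW B W ⊓ C1 β ⊓ 𝐂[P],
        (a * b) • f - f = a • f - f + (b • f - f) := fun a ha b hb => by
      rw [← h.AW_fix ha.1.1 (hW.le ((mem_AW.1 hb.1.1).2 f)), mul_smul, smul_sub]; abel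
    have yk : ∀ a ∈ AW B W ⊓ C1 β ⊓ 𝐂[P], a ∈ AW B (hp B W f) ⊓ C1 β ⊓ 𝐂[P] ↔ a • f - f = 0 := fun a ha =>
      ⟨fun c => sub_eq_zero.2 (h.AW_fix c.1.1 fun _ hx => hx.2), fun c => ⟨⟨mem_AW.2 ⟨ha.1.1.1, fun x =>
        mem_hp.2 ⟨(mem_AW.1 ha.1.1).2 x, by
          have := SU_map ha.1.1.1 x f
          rw [sub_eq_zero.1 c] at this
          simp [this]⟩⟩, ha.1.2⟩, ha.2⟩⟩
    have yβ : ∀ a ∈ AW B W ⊓ C1 β ⊓ 𝐂[P], β • (a • f - f) = a • f - f := fun a ha => by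
      have := h.AW_fix ha.1.1 βf
      rw [smul_sub, sub_eq_sub_iff_sub_eq_sub] at this
      rw [smul_sub, ← mul_smul, ← mem_C1.1 ha.1.2, mul_smul, this]
    have cm : ∀ a ∈ Fix F (hp B W f : Set V) ⊓ P, ∀ b ∈ Fix F (hp B W f : Set V) ⊓ P,
        (a * b) • u - u = a • u - u + (b • u - u) ∧ b • u - u ∈ hp B W f ∧ β • (b • u - u) = b • u - u := fun a ha b hb => by
      have k := hle hb.2
      have m : b • u - u ∈ hp B W f := mem_hp.2 ⟨sub_mem (St.mem k.1.2 hu) hu, by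
        simp [lam (SU_le_Gam k.1.1) k.1.2 (Pf b hb.2) hu, fld_SU k.1.1]⟩
      refine ⟨by rw [← ha.1 _ m, mul_smul, smul_sub]; abel, m, ?_⟩
      rw [smul_sub, ← mul_smul, ← mem_C1.1 k.2, mul_smul, βu]
    have ck : ∀ b ∈ Fix F (hp B W f : Set V) ⊓ P, b ∈ Fix F (W : Set V) ⊓ P ↔ b • u - u = 0 := fun b hb =>
      ⟨fun c => sub_eq_zero.2 (c.1 u hu), fun c => ⟨fun x hx => by
        rw [hp_smul hu uf (fld_SU (hle hb.2).1.1) hb.1 hx, c, smul_zero, add_zero], hb.2⟩⟩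
    obtain ⟨y1, y2⟩ := idx (p := fun x => x ∈ W ∧ β • x = x) (fun a => a • f - f) ym yk fun a ha =>
      ⟨(mem_AW.1 ha.1.1).2 f, yβ a ha⟩
    rw [h.card_fix b2 hf hβ.2, hn] at y1 y2
    rw [← e1, ← e2, ex, pow_add]
    refine ⟨?_, fun c => ?_⟩
    · rw [mul_mul_mul_comm]
      refine Nat.mul_le_mul ?_ i1
      by_cases c : ∀ b ∈ Fix F (hp B W f : Set V) ⊓ P, b • u - u = 0
      · rwa [relIndex_eq_one.2 fun b hb => (ck b hb).2 (c b hb), mul_one]
      · push Not at c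
        obtain ⟨b, hb, b0⟩ := c
        have c1 := (idx (p := fun x => x ∈ hp B W f ∧ β • x = x) (fun b => b • u - u) (fun a ha b hb => (cm a ha b hb).1)
          ck fun a ha => (cm a ha a ha).2).1
        have c2 := (idx (p := fun x => x ∈ F ∙ (b • u - u) ∧ β • x = x) (fun a => a • f - f) ym yk fun a ha =>
          ⟨key h hW hu uf ha.1.1 (hle hb.2).1 (Pf b hb.2) hb.1 (mem_cent.1 ha.2 b hb.2) b0, yβ a ha⟩).1
        rw [h.card_fix b2 hf βs, hn'] at c1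
        rw [h.card_fix b2 hf (mapW_eq_iff.1 (by rw [mapW_span, (cm b hb b hb).2.2])), finrank_span_singleton b0] at c2
        rw [add_comm n, pow_add]
        exact Nat.mul_le_mul c2 c1
    · rw [i2 c, y2 fun y ⟨hy, yβ⟩ => ?_]
      have bs := (h.fld_of_sq (φ := fld β) (by rw [← map_mul, b2, map_one])).resolve_left hf
      have k1 : fld β (B y f) = B y f := by rw [← lam hβ.1 hβ.2 βf hy, yβ]
      have m := sub_mem_hp hu uf hy
      have uu := hW u hu u hu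
      have yu := hW _ m.1 u hu
      refine ⟨tv B u (B y f) * xx B u (y - B y f • u), ⟨⟨mul_mem (h.tv_mem_AW hu uu ((bs _).symm.trans k1))
        (h.xx_mem_AW hW hu m.1), mem_C1.2 (mul_inv_eq_iff_eq_mul.1 ?_).symm⟩, c ▸ cbot _⟩, ?_⟩
      · rw [← conj_mul, tv_conj hβ.1 uu, h.xx_conj hβ.1 uu yu, smul_sub, smul_sm, βu, k1, yβ]
      · have fu : B f u = 1 := by rw [← h.symm, uf, map_one]
        rw [mul_smul, h.xx_smul uu yu, h.zero_symm (mem_hp.1 m).2, fu, zero_smul, add_zero, one_smul, tv_smul uu,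
          LinearMap.map_add₂, fu, yu, add_zero, mul_one]
        abel

end JSa

namespace Sp

variable (h : Sp B q)
include h

theorem JS {W : Submodule F V} (hW : TI B W) {β : SG F V} (hβ : β ∈ Gam B ⊓ St W) (b2 : β * β = 1) (hf : fld β ≠ 1)
    {P : Subgroup (SG F V)} (hP : IsPGroup 2 P) (hle : P ≤ PW B W ⊓ C1 β) :
    Nat.card (AW B W ⊓ C1 β ⊓ 𝐂[P] : Subgroup _) * (Fix F (W : Set V)).relIndex P ≤
      q ^ (finrank F W * (finrank F W + 1) / 2) :=
  (JSa.main h b2 hf hP _ W rfl hW hβ hle).1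

theorem card_C_semi {W : Submodule F V} (hW : TI B W) {β : SG F V} (hβ : β ∈ Gam B ⊓ St W) (b2 : β * β = 1)
    (hf : fld β ≠ 1) : Nat.card (AW B W ⊓ C1 β : Subgroup _) = q ^ (finrank F W * (finrank F W + 1) / 2) := by
  have := (JSa.main h b2 hf (P := ⊥) IsPGroup.of_bot _ W rfl hW hβ bot_le).2 rfl
  rwa [show AW B W ⊓ C1 β ⊓ 𝐂[(⊥ : Subgroup (SG F V))] = AW B W ⊓ C1 β from inf_eq_left.2 fun _ _ => JSa.cbot _] at this

end Sp

end Cfsg.Agent.SUm
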