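import Mathlib
import Cfsg.Agent.SUm.Cfg3
import Cfsg.Agent.SUm.FE0
import Cfsg.Agent.SUm.SLb
import Cfsg.Agent.SUm.NF1
import Cfsg.Agent.SUm.NFc

/-! The field case: the conjugates of `t` inside `M` are conjugate to `t` in `M`. -/

set_option autoImplicit false
set_option linter.unusedSectionVars false

namespace Cfsg.Agent.SUm

open Cfsg Cfsg.Agent.Cl Cfsg.Agent.Loc.Mss Subgroup Module
open Cfsg.Agent.StdB (C1 mem_C1 El)
open scoped commutatorElement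

variable {F : Type*} [Field F] [Finite F] [CharP F 2] {σ : F →+* F} {V : Type*} [AddCommGroup V] [Module F V]
  [Finite V] {B : V →ₗ[F] V →ₛₗ[σ] F} {q : ℕ} {G : Type*} [Group G] [Finite G]

namespace FE1

theorem nSL (γ : SG F V) : γ ∈ 𝐍[SL F V] :=
  mem_norm_of_cj_le (cj_le_iff.2 fun _ ha => conj_mem_SL γ ha)

variable {c : Cfg B q G} (f : c.Fd)

theorem im_le {u : G} {γ : SG F V} (ha : Act f.ρ u γ) {H : Subgroup (SG F V)} (hH : H ≤ SL F V ⊓ C1 γ) :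
    im f.ρ H ≤ C1 u := fun y hy => by
  obtain ⟨x, hx, -, rfl⟩ := mem_im.1 hy
  exact mem_C1.2 (ha.comm_of (hH hx).1 (mem_C1.1 (hH hx).2).symm).symm

theorem small {g : G} {H : Subgroup (SG F V)} (hH : H ≤ SL F V) (hE : El H)
    (hc : im f.ρ H ≤ C1 (g * c.t * g⁻¹)) : Nat.card H ≤ 2 * q ^ ((finrank F V / 2) ^ 2) :=
  f.ker.card_im (JJ_pg hE) hH ▸ c.el_le' (im_el hE) hc

/-- A conjugate of `t` does not induce a semilinear map. -/
theorem no_act {g : G} {γ : SG F V} (ha : Act f.ρ (g * c.t * g⁻¹) γ) : False := by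
  have u2 : g * c.t * g⁻¹ * (g * c.t * g⁻¹) = 1 := (c.conj g).t2
  have h1 : γ * γ ∈ Sc F V := by
    have := ha.mul ha fun x hx => conj_mem_SL γ hx
    rw [u2] at this
    exact c.sp.sc_of_act f.ker SU_le_SL (nSL _) this (one_mem _)
  obtain ⟨n, ⟨j, hj⟩, g2⟩ := c.sp.exists_inv_rep h1
  have hb := ha.pow (nSL γ) n
  rw [show (g * c.t * g⁻¹) ^ n = g * c.t * g⁻¹ by rw [hj, pow_succ, pow_mul, pow_two, u2, one_pow, one_mul]] at hb
  generalize γ ^ n = δ at g2 hb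
  by_cases hf : fld δ = 1
  · obtain ⟨H, hH, hE, big⟩ := c.sp.big_inner hf g2
    exact big.not_ge (small f (hH.trans inf_le_left) hE (im_le f hb hH))
  rcases Nat.even_or_odd (finrank F V) with he | ho
  · obtain ⟨H, hH, hE, hc, D, hD, n3, n2⟩ := c.sp.nf1 hf g2 he
    have H1 : H ≤ SL F V := hH.trans inf_le_left
    have D1 : D ≤ SL F V ⊓ 𝐍[H] := le_inf (hD.trans (inf_le_left.trans inf_le_left)) (hD.trans inf_le_right)
    have k1 : im f.ρ H ≤ (c.conj g).C := im_le f hb hH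
    have k2 : (c.conj g).t ∉ im f.ρ H := fun h => by
      obtain ⟨y, -, hy, e⟩ := mem_im.1 h
      have h2 : Act f.ρ (g * c.t * g⁻¹) y := by
        have := act_ev (f := f.ρ) hy
        rwa [e] at this
      have h3 := fld_Sc (c.sp.act_uniq f.ker SU_le_SL (nSL _) (nSL _) hb h2)
      rw [map_mul, fld_SL hy, mul_one, map_inv, inv_eq_one] at h3
      exact hf h3
    have k3 : Nat.card (im f.ρ H) = q ^ ((finrank F V / 2) ^ 2) := (f.ker.card_im (JJ_pg hE) H1).trans hc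
    have k4 : im f.ρ D ≤ (c.conj g).C ⊓ 𝐍[im f.ρ H] :=
      le_inf (im_le f hb (hD.trans inf_le_left)) (im_norm (hD.trans inf_le_right) H1)
    rcases c.sp.two_le_k.eq_or_lt with hk | hk
    · exact (c.conj g).no_NF2 hk.symm (im_el hE) k1 k2 k3 k4 (f.ker.nf2 hE H1 D1 (n2 hk.symm))
    · exact (c.conj g).no_NF3 hk (im_el hE) k1 k2 k3 k4 (f.ker.nf3 hE H1 D1 (n3 hk))
  · obtain ⟨H, hH, hE, big⟩ := c.sp.big_field hf g2 ho
    exact big.not_ge (small f (hH.trans inf_le_left) hE (im_le f hb hH))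

/-- The action of `u` when `u t` is semilinear. -/
theorem twist {u : G} {γ : SG F V} (ha : Act f.ρ (u * c.t) γ) {y y' : SG F V} (hy : y ∈ SL F V)
    (hd : Dual B y y') : u * ev f.ρ y * u⁻¹ = ev f.ρ (γ * y' * γ⁻¹) := by
  rw [← ha y' (c.sp.dual_SL hd hy), ← f.dual y hy y' hd, mul_inv_rev, c.t_inv]
  calc u * ev f.ρ y * u⁻¹ = u * (c.t * c.t) * ev f.ρ y * (c.t * c.t) * u⁻¹ := by rw [c.t2]; group
    _ = _ := by group

theorem sq_Sc {u : G} (u2 : u * u = 1) {γ γ' : SG F V} (ha : Act f.ρ (u * c.t) γ) (hd : Dual B γ γ') :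
    γ * γ' ∈ Sc F V := by
  obtain ⟨du, hdu⟩ := c.sp.exists_du
  have dd : ∀ y, du (du y) = y := fun y => c.sp.dual_unique (hdu _) (c.sp.dual_symm (hdu y))
  refine c.sp.sc_of_act f.ker SU_le_SL (nSL _) (g := 1) (fun y hy => ?_) (one_mem _)
  have h1 := twist f ha hy (hdu y)
  have h2 := twist f ha (conj_mem_SL γ (c.sp.dual_SL (hdu y) hy)) (hdu _)
  rw [← h1, map_mul, map_mul, map_inv, dd, c.sp.dual_unique (hdu γ) hd] at h2
  rw [show γ * γ' * y * (γ * γ')⁻¹ = γ * (γ' * y * γ'⁻¹) * γ⁻¹ by group, ← h2, ← u2]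
  group

end FE1

open FE1 in
theorem Cfg.Fd.uf {c : Cfg B q G} (f : c.Fd) {g : G} (hg : g * c.t * g⁻¹ ∈ f.M) : g ∈ f.M := by
  have u2 : g * c.t * g⁻¹ * (g * c.t * g⁻¹) = 1 := (c.conj g).t2
  obtain ⟨x, hx, γ0, h0, ha | ha⟩ := f.act_M hg
  · exact (no_act f ha).elim
  obtain ⟨du, hdu⟩ := c.sp.exists_du
  have h2 := sq_Sc f u2 ha (hdu _)
  by_cases hf : fld (x * γ0) = 1
  · have hf0 : fld γ0 = 1 := by rwa [map_mul, fld_SL hx, one_mul] at hf
    obtain ⟨v, hv, v', hd, hs⟩ := c.sp.twist_conj hx h0 hf0 rfl (hdu _) h2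
    have hv' := c.sp.dual_SL hd hv
    have a1 : Act f.ρ (ev f.ρ v * (g * c.t * g⁻¹ * c.t) * (ev f.ρ v')⁻¹) (v * (x * γ0) * v'⁻¹) :=
      ((act_ev hv).mul ha fun y hy => conj_mem_SL _ hy).mul
        ((act_ev hv').inv fun y hy => by simpa using conj_mem_SL v'⁻¹ hy) fun y hy => conj_mem_SL _ hy
    have e : ev f.ρ v * (g * c.t * g⁻¹ * c.t) * (ev f.ρ v')⁻¹ =
        ev f.ρ v * g * c.t * (ev f.ρ v * g)⁻¹ * c.t := by
      rw [← f.dual v hv v' hd, mul_inv_rev, mul_inv_rev, c.t_inv]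
      calc _ = ev f.ρ v * (g * c.t * g⁻¹) * (c.t * c.t) * (ev f.ρ v)⁻¹ * c.t := by group
        _ = _ := by rw [c.t2]; group
    rw [e] at a1
    have a2 : ev f.ρ v * g * c.t * (ev f.ρ v * g)⁻¹ * c.t ∈ 𝐂[f.ρ.range] :=
      act_one_iff.1 fun y hy => by rw [a1 y hy, Sc_conj hs (fld_SL hy), one_mul, inv_one, mul_one]
    have a3 : Odd (orderOf (ev f.ρ v * g * c.t * (ev f.ρ v * g)⁻¹ * c.t)) :=
      f.odd_cent.of_dvd_nat (orderOf_dvd_natCard _ a2)
    obtain ⟨w, hw, e2⟩ := conj_of_odd c.t2 (c.conj (ev f.ρ v * g)).t2 a3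
    have vM : ev f.ρ v ∈ f.M := mem_sup_left (ev_mem_range v)
    have tM : c.t ∈ f.M := mem_sup_right (mem_C1.2 rfl)
    have wM : w ∈ f.M := by
      refine zpowers_le.2 (mul_mem ?_ tM) hw
      rw [Cfg.conj_t, show ev f.ρ v * g * c.t * (ev f.ρ v * g)⁻¹ =
        ev f.ρ v * (g * c.t * g⁻¹) * (ev f.ρ v)⁻¹ by group]
      exact mul_mem (mul_mem vM hg) (inv_mem vM)
    have kM : w * ev f.ρ v * g ∈ f.M := mem_sup_right (mem_C1.2 (by
      rw [Cfg.conj_t] at e2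
      calc w * ev f.ρ v * g * c.t = w * (ev f.ρ v * g * c.t * (ev f.ρ v * g)⁻¹) * w⁻¹ *
            (w * ev f.ρ v * g) := by group
        _ = _ := by rw [e2]))
    exact (mul_mem_cancel_left (mul_mem wM vM)).1 kM
  · obtain ⟨H, hH, hE, big, hc⟩ := c.sp.big_graph hf (hdu _) h2
    refine (big.not_ge (small f hH hE (g := g) fun y hy => ?_)).elim
    obtain ⟨z, hz, -, rfl⟩ := mem_im.1 hy
    have := twist f ha (hH hz) (hc z hz)
    rw [show x * γ0 * ((x * γ0)⁻¹ * z * (x * γ0)) * (x * γ0)⁻¹ = z by group, mul_inv_eq_iff_eq_mul] at this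
    exact mem_C1.2 this.symm

end Cfsg.Agent.SUm
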