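import Mathlib
import Cfsg.Agent.SUm.Cfg3
import Cfsg.Agent.SUm.FE1
import Cfsg.Agent.S1769

set_option autoImplicit false
set_option linter.unusedSectionVars false

namespace Cfsg.Agent.SUm

open Cfsg Cfsg.Agent.Cl Cfsg.Agent.Loc.Mss Subgroup Module
open Cfsg.Agent.StdB (C1 mem_C1 El)
open scoped commutatorElement

universe u

theorem FE2_triv {M : Type*} {A : Type u} [Group M] [Finite M] [Group A] (hA : ∀ a b : A, a * b = b * a) (Φ : M →* A)
    (h : ∀ (Q : Type u) [CommGroup Q], (∀ a : Q, a * a = 1) → ∀ χ : M →* Q, (∀ g, Φ g = 1 → χ g = 1) → ∀ g, χ g = 1)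
    {g : M} {n : ℕ} (e : g ^ 2 ^ n = 1) : Φ g = 1 := by
  let : CommGroup Φ.range := { (inferInstance : Group Φ.range) with
    mul_comm := fun a b => Subtype.ext (hA _ _) }
  have : Finite Φ.range := Finite.of_surjective _ Φ.rangeRestrict_surjective
  have k := h (Φ.range ⧸ (powMonoidHom 2 : Φ.range →* Φ.range).range) (fun a => by
    obtain ⟨a, rfl⟩ := QuotientGroup.mk_surjective a
    rw [← QuotientGroup.mk_mul, QuotientGroup.eq_one_iff]
    exact ⟨a, sq a⟩) ((QuotientGroup.mk' _).comp Φ.rangeRestrict) fun g e => by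
      rw [MonoidHom.comp_apply, show Φ.rangeRestrict g = 1 from Subtype.ext e, map_one]
  have inj : Function.Injective (powMonoidHom 2 : Φ.range →* Φ.range) := Finite.injective_iff_surjective.2 fun a => by
    obtain ⟨g, rfl⟩ := Φ.rangeRestrict_surjective a
    exact (QuotientGroup.eq_one_iff _).1 (k g)
  have : ∀ n, ∀ a : Φ.range, a ^ 2 ^ n = 1 → a = 1 := fun n => by
    induction n with
    | zero => intro a e; simpa using e
    | succ n ih =>
      intro a e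
      exact ih a (inj (by rw [powMonoidHom_apply, ← pow_mul, ← pow_succ, e, map_one]))
  exact congrArg Subtype.val (this n (Φ.rangeRestrict g) (by rw [← map_pow, e, map_one]))

variable {F : Type*} [Field F] [Finite F] [CharP F 2] {σ : F →+* F} {V : Type*} [AddCommGroup V] [Module F V]
  [Finite V] {B : V →ₗ[F] V →ₛₗ[σ] F} {q : ℕ} {G : Type*} [Group G] [Finite G]

theorem FE2_iso {D : Subgroup (SG F V)} {ψ : D →* G} (hψ : IsE ψ) {P : Subgroup (SG F V)} (hP : IsPGroup 2 P)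
    (hle : P ≤ D) : Nonempty (P ≃* im ψ P) :=
  ⟨MulEquiv.ofBijective (MonoidHom.mk' (fun x : P => (⟨ev ψ x, ev_mem_im x.2⟩ : im ψ P))
    fun x y => Subtype.ext (ev_mul (hle x.2) (hle y.2)))
    ⟨fun x y e => Subtype.ext (hψ.inj_two hP hle x.2 y.2 (congrArg Subtype.val e)), fun g => by
      obtain ⟨x, hx, -, e⟩ := mem_im.1 g.2
      exact ⟨⟨x, hx⟩, Subtype.ext e⟩⟩⟩

theorem Cfg.Fd.FE2_two {c : Cfg B q G} (f : c.Fd) {X : Subgroup G} [X.Normal] [IsSimpleGroup X]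
    (hX : ∀ g, g ∈ X ∨ g * c.t ∈ X) (hL : c.L ≤ X) {g : G} (hg : g ∈ f.M) (gX : g ∈ X) {n : ℕ} (e : g ^ 2 ^ n = 1) :
    g ∈ f.ρ.range := by
  have hρ := f.le X inferInstance hL
  have tC : c.t ∈ c.C := mem_C1.2 rfl
  have CM : c.C ≤ f.M := le_sup_right
  have RM : f.ρ.range ≤ f.M := le_sup_left
  have XG : X ≤ commutator G := by
    have LG : c.L ≤ commutator G := (c.sp.range_perf (ψ := c.ψ)).ge.trans (commutator_mono le_top le_top)
    rcases (inferInstance : ((commutator G).subgroupOf X).Normal).eq_bot_or_eq_top with h | h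
    · obtain ⟨v, hv⟩ := c.sp.exists_iso
      have : (⟨c.z v 1, hL (c.z_mem v 1)⟩ : X) ∈ (commutator G).subgroupOf X := LG (c.z_mem v 1)
      rw [h, mem_bot] at this
      exact absurd ((c.z_eq_one hv (map_one σ)).1 (congrArg Subtype.val this)) one_ne_zero
    · exact subgroupOf_eq_top.1 h
  obtain ⟨ε, hε⟩ := f.exists_eps
  obtain ⟨Φ, hΦ⟩ := f.exists_fld
  obtain ⟨γ, hγ⟩ : ∃ γ, Act f.ρ g γ := by
    obtain ⟨x, hx, k, hk, rfl⟩ := f.mem_M.1 hg
    refine (hε ⟨_, hg⟩).1 ?_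
    rw [show (⟨_, hg⟩ : f.M) = ⟨ev f.ρ x, RM (ev_mem_range x)⟩ * ⟨k, CM hk⟩ from rfl, map_mul,
      (hε _).2 ⟨x, act_ev hx⟩, one_mul]
    exact TL c.t2 (CM tC) (fun _ => f.uf) (by decide) ε ⟨k, CM hk⟩ hk
      (XG ((mul_mem_cancel_left (hρ (ev_mem_range x))).1 gX))
  refine f.mem_of_lin hγ ?_ e
  rw [← hΦ ⟨g, hg⟩ γ (.inl hγ)]
  refine FE2_triv Aut.ringAut_comm Φ (fun Q _ hQ χ hχ ⟨g, hg⟩ => ?_) (n := n) (Subtype.ext e)
  obtain ⟨x, hx, k, hk, rfl⟩ := f.mem_M.1 hg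
  rw [show (⟨_, hg⟩ : f.M) = ⟨ev f.ρ x, RM (ev_mem_range x)⟩ * ⟨k, CM hk⟩ from rfl, map_mul,
    hχ _ ((hΦ _ x (.inl (act_ev hx))).trans (fld_SL hx)), one_mul]
  rcases hX k with h | h
  · exact TL c.t2 (CM tC) (fun _ => f.uf) hQ χ ⟨k, CM hk⟩ hk (XG h)
  · have h1 := TL c.t2 (CM tC) (fun _ => f.uf) hQ χ (⟨k, CM hk⟩ * ⟨c.t, CM tC⟩) (mul_mem hk tC) (XG h)
    rwa [map_mul, hχ ⟨c.t, CM tC⟩ ((hΦ _ 1 (.inr (by
      show Act f.ρ (c.t * c.t) 1
      rw [c.t2]; exact act_one))).trans (map_one _)), mul_one] at h1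

theorem Cfg.Fd.fin {c : Cfg B q G} (f : c.Fd) {X : Subgroup G} [X.Normal] [IsSimpleGroup X]
    (hX : ∀ g, g ∈ X ∨ g * c.t ∈ X) (hL : c.L ≤ X) :
    Nonempty (X ≃* Matrix.ProjectiveSpecialLinearGroup (Fin (finrank F V)) F) ∧
      ∃ y ∈ X, y * y = 1 ∧ Commute y (c.t * y * c.t) ∧ y * (c.t * y * c.t) ∈ c.L ∧ y * (c.t * y * c.t) ≠ 1 := by
  have hρ := f.le X inferInstance hL
  have h := c.sp
  constructor
  · have tM : c.t ∈ f.M := mem_sup_right (mem_C1.2 rfl)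
    obtain ⟨S, tS, hS⟩ := Syl.exists_ge (p := 2) (P := zpowers c.t)
      (StdB.pg_of_el fun a ha => by rcases (StdB.mem_zpowers_two c.t2).1 ha with rfl | rfl; exacts [mul_one 1, c.t2])
      (zpowers_le.2 tM)
    have h1 : Syl 2 (S ⊓ X) X :=
      (syl_of_uf (fun _ => f.uf) hS (tS (mem_zpowers _))).inf le_top (norm_normal _ _)
    have h2 : Syl 2 (S ⊓ X) f.ρ.range := h1.mono (fun g hg => by
      obtain ⟨n, e⟩ := hS.pg ⟨g, hg.1⟩
      exact f.FE2_two hX hL (hS.le hg.1) hg.2 (congrArg Subtype.val e)) hρ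
    obtain ⟨U, hU, eU⟩ := syl_of_im h2
    obtain ⟨P, ⟨i1⟩⟩ := h.syl_iso hU
    obtain ⟨i2⟩ := FE2_iso f.ker hU.pg hU.le
    obtain ⟨T, eT, -⟩ := h1.exists_sylow
    obtain ⟨r, hr, hq⟩ := h.exists_pow
    have := Fintype.ofFinite F
    refine S1769.result (fun h3 => ?_) (r * 2) (by omega) ?_ _ (by have := h.four_le; omega) T P
      ⟨((MulEquiv.subgroupCongr eT).trans (subgroupOfEquivOfLe h1.le)).trans
        ((MulEquiv.subgroupCongr eU.symm).trans (i2.symm.trans i1))⟩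
    · obtain ⟨E, hE, el, c8⟩ := h.exists_E8
      have le : c.I E ≤ X := (im_le_range E).trans hL
      have el' : El (c.I E) := im_el el
      have := h3 ((c.I E).subgroupOf X) ⟨⟨fun a b => Subtype.ext (Subtype.ext (StdB.comm_of_el el' b.2 _ a.2))⟩⟩
        fun a ha => Subtype.ext (by rw [sq]; exact el' _ ha)
      rw [Nat.card_congr (subgroupOfEquivOfLe le).toEquiv, c.ker.card_im (StdB.pg_of_el el) hE, c8] at this
      omega
    · rw [← Nat.card_eq_fintype_card, h.uf.card, hq, pow_mul]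
  · obtain ⟨e, he⟩ := h.exists_iso
    obtain ⟨ω, hω⟩ := h.exists_omega
    have m := fun a => tv_mem_SL (B := B) he.iso a
    have d := f.dual _ (m ω) _ (h.dual_tv he.iso ω)
    have p : ev f.ρ (tv B e ω) * ev f.ρ (tv B e (σ ω)) = c.z e 1 := by
      rw [← ev_mul (m _) (m _), tv_mul he.iso, hω, f.res _ (h.tv_mem he.iso (map_one σ))]; rfl
    refine ⟨_, hρ (ev_mem_range (tv B e ω)), by rw [← ev_mul (m _) (m _), h.tv_sq he.iso, ev_one], ?_, ?_, ?_⟩ <;>
      rw [d]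
    · exact ev_comm (m _) (m _) (by rw [tv_mul he.iso, tv_mul he.iso, add_comm])
    · rw [p]; exact c.z_mem e 1
    · rw [p]; exact fun e' => one_ne_zero ((c.z_eq_one he (map_one σ)).1 e')

end Cfsg.Agent.SUm
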