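import Mathlib
import Cfsg.Agent.SUm.Cfg3
import Cfsg.Agent.SUm.Rel4b
import Cfsg.Agent.SUm.SLa

set_option autoImplicit false
set_option linter.unusedSectionVars false

namespace Cfsg.Agent.SUm

open Cfsg Cfsg.Agent.Cl Cfsg.Agent.Loc.Mss Subgroup Module
open Cfsg.Agent.StdB (C1 mem_C1 El)
open scoped commutatorElement

variable {F : Type*} [Field F] [Finite F] [CharP F 2] {σ : F →+* F} {V : Type*} [AddCommGroup V] [Module F V]
  [Finite V] {B : V →ₗ[F] V →ₛₗ[σ] F} {q : ℕ} {G : Type*} [Group G] [Finite G]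

namespace Rho4

theorem frame (h : Sp B q) {Y : Submodule F V} (hY : Disjoint Y (uPerp B Y)) (h4 : finrank F Y = 4) :
    ∃ e1 f1 e2 f2, Frame B e1 f1 e2 f2 ∧ Submodule.span F (Set.range ![e1, e2, f2, f1]) = Y := by
  have hr := h.herm.restrict hY
  obtain ⟨e, f, p⟩ := hr.exists_uHypPair' (by omega)
  obtain ⟨w, w', p'⟩ := (hr.restrict_uPerp (hr.disjoint_span_pair p.left p.right p.pair)).exists_uHypPair' (by
    rw [hr.finrank_uPerp, hr.finrank_span_pair p.left p.right p.pair]; omega)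
  obtain ⟨a, b⟩ := mem_uPerp_span_pair.1 w.2
  obtain ⟨c, d⟩ := mem_uPerp_span_pair.1 w'.2
  have fr : Frame B (e : V) (f : V) ((w : Y) : V) ((w' : Y) : V) :=
    ⟨⟨p.left, p.right, p.pair, p.pair'⟩, ⟨p'.left, p'.right, p'.pair, p'.pair'⟩, a, c, b, d⟩
  refine ⟨_, _, _, _, fr, Submodule.eq_of_le_of_finrank_eq (Submodule.span_le.2 ?_) ?_⟩
  · rintro _ ⟨i, rfl⟩
    fin_cases i
    exacts [e.2, (w : Y).2, (w' : Y).2, f.2]
  · rw [finrank_span_eq_card (h.frame_li fr), h4, Fintype.card_fin]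

theorem trv_mem (h : Sp B q) {Y : Submodule F V} {w v : V} (hw : w ∈ Y) (hv : v ∈ Y) (e : B w v = 0) (a : F) :
    trv B w v a ∈ SLY B Y :=
  ⟨⟨trv_mem_SL w v a, fun _ => Iff.rfl, fun x _ => by
    rw [trv_smul e, add_sub_cancel_left]; exact Y.smul_mem _ hw⟩, fun x hx => by
    rw [trv_smul e, h.zero_symm (hx v hv), mul_zero, zero_smul, add_zero]⟩

theorem tv_mem (h : Sp B q) {Y : Submodule F V} {v : V} (hv : v ∈ Y) (e : B v v = 0) (a : F) :
    tv B v a ∈ SLY B Y := trv_self e a ▸ trv_mem h hv hv e a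

theorem xx_eq (h : Sp B q) {w v : V} (hv : B v v = 0) (hwv : B w v = 0) (l : F) :
    xx B v (l • w) = trv B w v l * trv B v w (σ l) := by
  refine SG.ext2 (fun x => ?_) (by simp)
  rw [mul_smul, h.xx_smul hv (by simp [hwv]), trv_smul hwv, trv_smul (h.zero_symm hwv)]
  simp only [map_add, LinearMap.add_apply, map_smul, LinearMap.smul_apply, map_smulₛₗ, hv, smul_eq_mul]
  module

/-- The elements on which the two homomorphisms agree. -/
def Ag {D D' : Subgroup (SG F V)} (ρ : D →* G) (ψ : D' →* G) : Subgroup (SG F V) where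
  carrier := {x | x ∈ D' ∧ x ∈ D ∧ ev ρ x = ev ψ x}
  one_mem' := ⟨one_mem _, one_mem _, by rw [ev_one, ev_one]⟩
  mul_mem' hx hy := ⟨mul_mem hx.1 hy.1, mul_mem hx.2.1 hy.2.1, by
    rw [ev_mul hx.2.1 hy.2.1, ev_mul hx.1 hy.1, hx.2.2, hy.2.2]⟩
  inv_mem' hx := ⟨inv_mem hx.1, inv_mem hx.2.1, by rw [ev_inv hx.2.1, ev_inv hx.1, hx.2.2]⟩

theorem step {c : Cfg B q G} {s : c.Pt} {θ : F} (h : s.RF θ) {D : Subgroup (SG F V)} {ρ : D →* G} {e f w w' : V}
    (p : Frame B e f w w') (h1 : ∀ a, σ a = a → tv B e a ∈ Ag ρ c.ψ) (h2 : ∀ l : F, xx B e (l • w) ∈ Ag ρ c.ψ)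
    (h3 : ∀ l : F, xx B e (l • w') ∈ Ag ρ c.ψ) (h4 : ∀ a, tv B f a ∈ D) (h5 : ∀ a, ev ρ (tv B f a) = s.zh θ f a)
    {x y α β : F} (hy : y ≠ 0) {v : V} (e0 : v = x • e + y • f + α • w + β • w') (hv : B v v = 0) (a : F) :
    ev ρ (tv B v a) = s.zh θ v a := by
  have sp := c.sp
  have we := sp.zero_symm p.ee
  have w'e := sp.zero_symm p.ef
  have wf := sp.zero_symm p.fe
  have w'f := sp.zero_symm p.ff
  set u := (α / y) • w + (β / y) • w' with hu
  have ue : B u e = 0 := by simp [hu, we, w'e]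
  have fu : B f u = 0 := by simp [hu, p.fe, p.ff]
  have e1 : v = y • (ei B e u (x / y) • f) := by
    rw [sp.ei_smul p.p1.left ue, fu, p.p1.pair', e0, hu]
    simp only [smul_add, smul_smul, zero_smul, one_mul, smul_zero, mul_one, mul_div_cancel₀ _ hy]
    abel
  have i1 : B (ei B e u (x / y) • f) (ei B e u (x / y) • f) = 0 := by
    rw [e1] at hv
    simpa [hy] using hv
  have hr : x / y + σ (x / y) = B u u := by
    rw [sp.ei_smul p.p1.left ue, fu, p.p1.pair'] at i1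
    simp only [map_add, LinearMap.add_apply, map_smul, LinearMap.smul_apply, map_smulₛₗ, smul_eq_mul, ue, fu,
      sp.zero_symm ue, sp.zero_symm fu, p.p1.left, p.p1.right, p.p1.pair, p.p1.pair', zero_smul, one_smul, mul_one,
      add_zero, mul_zero, zero_add] at i1
    linear_combination i1 - B u u * CharTwo.two_eq_zero (R := F)
  have hg : ei B e u (x / y) ∈ Ag ρ c.ψ := by
    have k := (Ag ρ c.ψ).mul_mem ((Ag ρ c.ψ).mul_mem (h2 (α / y)) (h3 (β / y)))
      (h1 (x / y + B ((β / y) • w') ((α / y) • w)) (by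
        rw [map_add, sp.symm]
        have : B u u = B ((β / y) • w') ((α / y) • w) + B ((α / y) • w) ((β / y) • w') := by
          simp [hu, p.p2.left, p.p2.right]
          ring
        linear_combination hr + this + (B ((α / y) • w) ((β / y) • w') - x / y) * CharTwo.two_eq_zero (R := F)))
    rwa [xx, xx, sp.ei_mul p.p1.left (by simp [we]) (by simp [w'e]), ← sp.ei_zero p.p1.left,
      sp.ei_mul p.p1.left ue (by simp), add_zero, map_zero, LinearMap.zero_apply, add_zero, add_zero, zero_add,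
      add_left_comm, CharTwo.add_self_eq_zero, add_zero] at k
  have := tv_conj (SU_le_Gam hg.1) p.p1.right (a * (y * σ y))
  rw [fld_ei, RingAut.one_apply] at this
  rw [e1, tv_sm, h.zh_sm i1, ← this, ev_conj hg.2.1 (h4 _), hg.2.2, h5, h.zh_eqv hg.1 p.p1.right]

end Rho4

open Rho4 in
theorem Cfg.Pt.RF.rho4 {c : Cfg B q G} {s : c.Pt} {θ : F} (h : s.RF θ) {Y : Submodule F V}
    (hY : Disjoint Y (uPerp B Y)) (h4 : finrank F Y = 4) : ∃ ρ : SLY B Y →* G, s.Rho θ Y ρ := by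
  have sp := c.sp
  obtain ⟨e1, f1, e2, f2, p, rfl⟩ := frame sp hY h4
  set b : Fin 4 → V := ![e1, e2, f2, f1] with hb
  have hB : ∀ i j, B (b i) (b j.rev) = if i = j then 1 else 0 := fun i j => by
    fin_cases i <;> fin_cases j <;>
      first
      | exact p.p1.left | exact p.p1.right | exact p.p1.pair | exact p.p1.pair' | exact p.p2.left | exact p.p2.right
      | exact p.p2.pair | exact p.p2.pair' | exact p.ee | exact p.ef | exact p.fe | exact p.ff
      | exact sp.zero_symm p.ee | exact sp.zero_symm p.ef | exact sp.zero_symm p.fe | exact sp.zero_symm p.ff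
  have hm : ∀ i, b i ∈ Submodule.span F (Set.range b) := fun i => Submodule.subset_span ⟨i, rfl⟩
  obtain ⟨ρ, hρ⟩ := sp.exists_slHom (by norm_num) b (fun j => b j.rev) hB (fun j => hm _) (h.slRel p)
  have hB' : ∀ i k, k ≠ i.rev → B (b i) (b k) = 0 := fun i k hk => by
    have := hB i k.rev
    rwa [Fin.rev_rev, if_neg (by rintro rfl; exact hk (Fin.rev_rev k).symm)] at this
  have nr : ∀ i : Fin 4, i ≠ i.rev := by decide
  have bi : ∀ i, B (b i) (b i) = 0 := fun i => hB' i i (nr i)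
  have H1 : ∀ i a, ev ρ (tv B (b i) a) = s.zh θ (b i) a := fun i a => by
    have := hρ ⟨(i, i.rev), nr i⟩ a
    simp only [Fin.rev_rev] at this
    rw [trv_self (bi i)] at this
    rw [this, Cfg.Pt.y4, if_pos (Fin.rev_rev i).symm]
  have H0 : ∀ i k, i ≠ k → k ≠ i.rev → ∀ a, ev ρ (trv B (b i) (b k) a) = s.rr θ (b i) (b k) a := fun i k h1 h2 a => by
    have := hρ ⟨(i, k.rev), fun e : i = k.rev => h2 (by rw [e, Fin.rev_rev])⟩ a
    simp only [Fin.rev_rev] at this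
    rw [this, Cfg.Pt.y4, if_neg (by simpa using h1)]
    simp only [Fin.rev_rev]
    rfl
  have A1 : ∀ i a, σ a = a → tv B (b i) a ∈ Ag ρ c.ψ := fun i a ha =>
    ⟨sp.tv_mem (bi i) ha, tv_mem sp (hm i) (bi i) a, by rw [H1, Cfg.Pt.zh_K (bi i) ha]; rfl⟩
  have A2 : ∀ i k, i ≠ k → k ≠ i.rev → ∀ l : F, xx B (b i) (l • b k) ∈ Ag ρ c.ψ := fun i k h1 h2 l => by
    have h3 : i ≠ k.rev := by rintro rfl; exact h2 (Fin.rev_rev k).symm
    have m1 := trv_mem sp (hm k) (hm i) (hB' k i h3) l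
    have m2 := trv_mem sp (hm i) (hm k) (hB' i k h2) (σ l)
    refine ⟨sp.xx_mem (bi i) (by simp [hB' k i h3]) (by simp [bi k]), ?_, ?_⟩
    · rw [xx_eq sp (bi i) (hB' k i h3)]; exact mul_mem m1 m2
    · rw [show ev c.ψ (xx B (b i) (l • b k)) = _ from h.x_eq (bi i) (hB' k i h3) (bi k) l,
        xx_eq sp (bi i) (hB' k i h3), ev_mul m1 m2, H0 k i h1.symm h3, H0 i k h1 h2]
  have A3 : ∀ i a, tv B (b i) a ∈ SLY B (Submodule.span F (Set.range b)) := fun i => tv_mem sp (hm i) (bi i)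
  have T : ∀ v ∈ Submodule.span F (Set.range b), B v v = 0 → ∀ a, ev ρ (tv B v a) = s.zh θ v a := by
    intro v hv hvv a
    obtain ⟨x, rfl⟩ := (Submodule.mem_span_range_iff_exists_fun F).1 hv
    have e0 : ∑ i, x i • b i = x 0 • e1 + x 1 • e2 + x 2 • f2 + x 3 • f1 := Fin.sum_univ_four _
    by_cases h3 : x 3 ≠ 0
    · exact step h p (A1 0) (A2 0 1 (by decide) (by decide)) (A2 0 2 (by decide) (by decide)) (A3 3) (H1 3)
        (x := x 0) (α := x 1) (β := x 2) h3 (by rw [e0]; abel) hvv a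
    by_cases h0 : x 0 ≠ 0
    · exact step h ⟨⟨p.p1.right, p.p1.left, p.p1.pair', p.p1.pair⟩, p.p2, p.fe, p.ff, p.ee, p.ef⟩ (A1 3)
        (A2 3 1 (by decide) (by decide)) (A2 3 2 (by decide) (by decide)) (A3 0) (H1 0)
        (x := x 3) (α := x 1) (β := x 2) h0 (by rw [e0]; abel) hvv a
    by_cases h2 : x 2 ≠ 0
    · exact step h ⟨p.p2, p.p1, sp.zero_symm p.ee, sp.zero_symm p.fe, sp.zero_symm p.ef, sp.zero_symm p.ff⟩ (A1 1)
        (A2 1 0 (by decide) (by decide)) (A2 1 3 (by decide) (by decide)) (A3 2) (H1 2)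
        (x := x 1) (α := x 0) (β := x 3) h2 (by rw [e0]; abel) hvv a
    rw [e0, not_not.1 h3, not_not.1 h0, not_not.1 h2, zero_smul, zero_smul, zero_smul, zero_add, add_zero, add_zero,
      tv_sm, h.zh_sm p.p2.left]
    exact H1 1 _
  refine ⟨ρ, T, fun x hx => ?_⟩
  refine ev_ext ?_ ?_ ?_ (sp.SUY_gen hY (by omega) hx)
  · rintro _ ⟨v, hv, a, hvv, -, rfl⟩
    exact tv_mem sp hv hvv a
  · rintro _ ⟨v, -, a, hvv, ha, rfl⟩
    exact sp.tv_mem hvv ha
  · rintro _ ⟨v, hv, a, hvv, ha, rfl⟩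
    rw [T v hv hvv, Cfg.Pt.zh_K hvv ha]; rfl

end Cfsg.Agent.SUm
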