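import Mathlib
import Cfsg.Agent.SUm.Cfg2
import Cfsg.Agent.StdB.Gen
import Cfsg.Agent.StdB.Red
import Cfsg.Agent.HxD.P6

set_option autoImplicit false
set_option linter.unusedSectionVars false

namespace Cfsg.Agent.SUm

open Cfsg Cfsg.Agent.Cl Cfsg.Agent.Loc.Mss Subgroup Module
open Cfsg.Agent.StdB (C1 mem_C1 El)
open scoped commutatorElement

variable {F : Type*} [Field F] [Finite F] [CharP F 2] {σ : F →+* F} {V : Type*} [AddCommGroup V] [Module F V]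
  [Finite V] {B : V →ₗ[F] V →ₛₗ[σ] F} {q : ℕ} {G : Type*} [Group G] [Finite G]

/-- The Z*-theorem modulo a central involution. -/
theorem blkA_zstar {S : Subgroup G} {z x : G} (hS : Syl 2 S (C1 z)) (z2 : z * z = 1) (x2 : x * x = 1) (hz : z ∈ S)
    (hx : x ∈ S) (x1 : x ≠ 1) (xz : x ≠ z)
    (h : ∀ g ∈ C1 z, g * x * g⁻¹ ∈ S → g * x * g⁻¹ = x ∨ g * x * g⁻¹ = x * z) :
    ∃ X : Subgroup G, Odd (Nat.card X) ∧ X ≤ C1 z ∧ C1 z ≤ 𝐍[X] ∧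
      (x ∈ 𝐂[X] → ∀ g ∈ C1 z, g * x * g⁻¹ = x ∨ g * x * g⁻¹ = x * z) := by
  obtain ⟨P, hP, -⟩ := hS.exists_sylow
  have m : ∀ {y : C1 z}, y ∈ P ↔ (y : G) ∈ S := fun {y} => by
    rw [← SetLike.mem_coe, ← Sylow.coe_coe, hP]; rfl
  obtain ⟨N, hN, hm, k, ho, hk⟩ := HxD.p6_quo P (z := ⟨z, hS.le hz⟩) (x := ⟨x, hS.le hx⟩)
    (fun g => Subtype.ext (mem_C1.1 g.2)) (Subtype.ext z2) (Subtype.ext x2) (m.2 hz) (m.2 hx)
    (fun e => x1 (congrArg Subtype.val e)) (fun e => xz (congrArg Subtype.val e))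
    fun g hg => (h g g.2 (m.1 hg)).imp Subtype.ext Subtype.ext
  let Y := N.map (C1 z).subtype
  have hk' : ∀ n ∈ Y, n ^ k = 1 ∨ n ^ k = z := by
    rintro _ ⟨n, hn, rfl⟩
    exact (hk n hn).imp (congrArg Subtype.val) (congrArg Subtype.val)
  have two : ∀ n ∈ Y, (∃ m, n ^ 2 ^ m = 1) → n ∈ zpowers z := fun n hn ⟨m, e⟩ => by
    obtain ⟨j, hj⟩ := exists_pow_eq_self_of_coprime (((Nat.coprime_two_right.2 ho).pow_right m).coprime_dvd_right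
      (orderOf_dvd_of_pow_eq_one e))
    rw [← hj]
    exact pow_mem ((StdB.mem_zpowers_two z2).2 (hk' n hn)) j
  obtain ⟨R, hR⟩ := Syl.exists 2 Y
  refine ⟨pResidualOf 2 Y, HxD.Cy.odd_res hR (HxD.Cy.cyc_of_le (R := zpowers z) inferInstance fun g hg =>
    two g (hR.le hg) (pg_iff.1 hR.pg g hg)), (res_le Y).trans (map_subtype_le N), norm_res ?_,
    fun hc g hg => ?_⟩
  · intro g hg
    refine mem_norm_of_cj_le (cj_le_iff.2 ?_)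
    rintro _ ⟨n, hn, rfl⟩
    exact ⟨_, hN.conj_mem n hn ⟨g, hg⟩, rfl⟩
  · have xi : x⁻¹ = x := inv_eq_of_mul_eq_one_right x2
    have hn : x * g * x⁻¹ * g⁻¹ ∈ Y := ⟨_, hm ⟨g, hg⟩, rfl⟩
    set n := x * g * x⁻¹ * g⁻¹ with en
    have e1 : x * n * x⁻¹ = n⁻¹ := by rw [en, xi, ← mul_assoc, ← mul_assoc, ← mul_assoc, x2]; simp [xi, mul_assoc]
    have e2 : n * n ∈ pResidualOf 2 Y := mem_res (mul_mem hn hn) (Nat.Coprime.coprime_dvd_left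
      (orderOf_dvd_of_pow_eq_one (n := k) (by
        rw [(Commute.refl n).mul_pow]; rcases hk' n hn with e | e <;> rw [e]
        exacts [mul_one 1, z2])) (Nat.coprime_two_right.2 ho))
    have e3 : n ^ 2 ^ 2 = 1 := by
      have := mem_cent.1 hc _ e2
      have e4 : n * n = n⁻¹ * n⁻¹ := by rw [← e1, conj_mul, ← this, mul_inv_cancel_right]
      calc n ^ 2 ^ 2 = n * n * (n * n) := by rw [pow_two 2, pow_mul, pow_two, pow_two]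
        _ = 1 := by nth_rw 1 [e4]; group
    have e5 : g * x * g⁻¹ = x * n := by rw [en, xi, ← mul_assoc, ← mul_assoc, ← mul_assoc, x2, one_mul]
    rcases (StdB.mem_zpowers_two z2).1 (two n hn ⟨2, e3⟩) with e | e <;> rw [e5, e]
    exacts [.inl (mul_one x), .inr rfl]

theorem blkA_cc (h g a : G) : h * (g * a * g⁻¹) * h⁻¹ = h * g * a * (h * g)⁻¹ := by group

theorem blkA_fix {g a : G} (h : g * a = a * g) : g * a * g⁻¹ = a := mul_inv_eq_iff_eq_mul.2 h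

namespace Blk

variable (b : Blk G)

theorem a_ti : b.t⁻¹ = b.t := inv_eq_of_mul_eq_one_right b.t2

theorem a_t2 (x : G) : b.t * (b.t * x) = x := by rw [← mul_assoc, b.t2, one_mul]

theorem a_tt (x : G) : b.t * (b.t * x * b.t) * b.t = x := by
  rw [← mul_assoc, ← mul_assoc, b.t2, one_mul, mul_assoc, b.t2, mul_one]

theorem a_U2 {x : G} : x ∈ cj(b.t, b.U1) ↔ b.t * x * b.t ∈ b.U1 := by rw [mem_cj, b.a_ti]

theorem a_U2' {x : G} : b.t * x * b.t ∈ cj(b.t, b.U1) ↔ x ∈ b.U1 := by rw [b.a_U2, b.a_tt]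

theorem a_dj {x : G} (h1 : x ∈ b.U1) (h2 : x ∈ cj(b.t, b.U1)) : x = 1 :=
  mem_bot.1 (b.dj ▸ mem_inf.2 ⟨h1, h2⟩)

theorem a_cm {x y : G} (hx : x ∈ b.L1) (hy : y ∈ cj(b.t, b.U1)) : x * y = y * x :=
  (mem_cent.1 (b.cm hx) y hy).symm

theorem z1_mem : b.z1 ∈ b.U1 := comm_le_left le_normalizer b.zd

theorem U1_le : b.U1 ≤ b.L1 := b.sylL.le

theorem a_z2 : b.t * b.z1 * b.t ∈ cj(b.t, b.U1) := b.a_U2'.2 b.z1_mem

theorem a_Dt {x : G} (h : IsConj b.z1 x) : IsConj b.z1 (b.t * x * b.t) :=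
  h.trans (isConj_iff.2 ⟨b.t, by rw [b.a_ti]⟩)

theorem a_D {x : G} (h : IsConj b.z1 x) (g : G) : IsConj b.z1 (g * x * g⁻¹) :=
  h.trans (isConj_iff.2 ⟨g, rfl⟩)

theorem a_sq {x : G} (h : IsConj b.z1 x) : x * x = 1 := by
  obtain ⟨g, rfl⟩ := isConj_iff.1 h
  rw [conj_mul, b.z2, mul_one, mul_inv_cancel]

theorem a_ne {x : G} (h : IsConj b.z1 x) : x ≠ 1 := fun e => b.zne (isConj_one_left.1 (e ▸ h))

theorem a_ds {x : G} (h : IsConj b.z1 x) (hx : x ∈ b.S) : x ∈ b.U1 ∨ x ∈ cj(b.t, b.U1) := by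
  obtain ⟨g, rfl⟩ := isConj_iff.1 h
  exact b.ds g hx

theorem z12 : b.z1 * (b.t * b.z1 * b.t) = b.t * b.z1 * b.t * b.z1 := b.a_cm (b.U1_le b.z1_mem) b.a_z2

theorem a_tn : b.t ∉ 𝐍[b.U1] := fun h => b.zne (b.a_dj b.z1_mem (by rw [cj_of_norm h]; exact b.z1_mem))

theorem a_S0t {s : G} (hs : s ∈ b.S ⊓ 𝐍[b.U1]) : b.t * s * b.t ∈ b.S ⊓ 𝐍[b.U1] := by
  have h : b.t * s * b.t ∈ b.S := mul_mem (mul_mem b.tS hs.1) b.tS
  refine ⟨h, (b.sw _ h).resolve_right fun k => b.a_tn ?_⟩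
  rw [mul_assoc, b.t2, mul_one] at k
  exact (mul_mem_cancel_right (mem_inf.1 hs).2).1 k

theorem a_sw {s : G} (hs : s ∈ b.S) : s ∈ b.S ⊓ 𝐍[b.U1] ∨ ∃ r ∈ b.S ⊓ 𝐍[b.U1], s = r * b.t :=
  (b.sw s hs).imp (fun h => ⟨hs, h⟩) fun h =>
    ⟨s * b.t, ⟨mul_mem hs b.tS, h⟩, by rw [mul_assoc, b.t2, mul_one]⟩

theorem a_S0n {s x : G} (hs : s ∈ b.S ⊓ 𝐍[b.U1]) (hx : x ∈ cj(b.t, b.U1)) : s * x * s⁻¹ ∈ cj(b.t, b.U1) := by
  rw [b.a_U2] at hx ⊢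
  have := conj_mem_of_norm (b.a_S0t hs).2 hx
  rw [mul_inv_rev, mul_inv_rev, b.a_ti] at this
  convert this using 1
  simp only [mul_assoc, b.a_t2]

theorem S0_le : b.S ⊓ 𝐍[b.U1] ≤ C1 (b.t * b.z1 * b.t) := fun s hs => mem_C1.2 (by
  have := mem_C1.1 (b.zc (b.a_S0t hs))
  calc s * (b.t * b.z1 * b.t) = b.t * (b.t * s * b.t * b.z1) * b.t := by
        rw [← mul_assoc b.t, ← mul_assoc b.t, ← mul_assoc b.t, b.t2]; group
    _ = b.t * b.z1 * b.t * s * (b.t * b.t) := by rw [this]; group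
    _ = _ := by rw [b.t2, mul_one])

theorem S_le : b.S ≤ C1 (b.z1 * (b.t * b.z1 * b.t)) := by
  have h0 : b.S ⊓ 𝐍[b.U1] ≤ C1 (b.z1 * (b.t * b.z1 * b.t)) := fun s hs => mem_C1.2
    (Commute.mul_right (mem_C1.1 (b.zc hs)) (mem_C1.1 (b.S0_le hs))).eq
  intro s hs
  rcases b.a_sw hs with h | ⟨r, h, rfl⟩
  · exact h0 h
  · refine mul_mem (h0 h) (mem_C1.2 ?_)
    calc _ = b.t * b.z1 * b.t * b.z1 * b.t := by group
      _ = _ := by rw [← b.z12]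

theorem der_S : ⁅b.S, b.S⁆ ≤ b.S ⊓ 𝐍[b.U1] := by
  refine commutator_le.2 fun x hx y hy => ?_
  rw [commutatorElement_def]
  rcases b.a_sw hx with h | ⟨r, h, rfl⟩ <;> rcases b.a_sw hy with k | ⟨s, k, rfl⟩
  · exact mul_mem (mul_mem (mul_mem h k) (inv_mem h)) (inv_mem k)
  · convert mul_mem (mul_mem (mul_mem h k) (b.a_S0t (inv_mem h))) (inv_mem k) using 1
    rw [mul_inv_rev, b.a_ti]; simp only [mul_assoc]
  · convert mul_mem (mul_mem (mul_mem h (b.a_S0t k)) (inv_mem h)) (inv_mem k) using 1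
    rw [mul_inv_rev, b.a_ti]; simp only [mul_assoc]
  · convert mul_mem (mul_mem h (b.a_S0t (mul_mem k (inv_mem h)))) (inv_mem k) using 1
    rw [mul_inv_rev, mul_inv_rev]
    nth_rw 2 [b.a_ti]
    simp only [mul_assoc, mul_inv_cancel_left]

theorem a_U1S0 : b.U1 ≤ b.S ⊓ 𝐍[b.U1] := le_inf b.U1S le_normalizer

theorem a_U2S : cj(b.t, b.U1) ≤ b.S := cj_le_of_mem b.U1S b.tS

theorem a_cen {d s : G} (hd : IsConj b.z1 d) (hd' : d ∈ b.S) (hs : s ∈ b.S) (h : s * d = d * s) :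
    s ∈ b.S ⊓ 𝐍[b.U1] := by
  refine (b.a_sw hs).resolve_right ?_
  rintro ⟨r, hr, rfl⟩
  have e : r * (b.t * d * b.t) * r⁻¹ = d := by
    have := blkA_fix h
    rwa [← blkA_cc, b.a_ti] at this
  rcases b.a_ds hd hd' with k | k
  · exact b.a_ne hd (b.a_dj k (e ▸ b.a_S0n hr (b.a_U2'.2 k)))
  · exact b.a_ne hd (b.a_dj (e ▸ conj_mem_of_norm hr.2 (b.a_U2.1 k)) k)

theorem syl1 : Syl 2 (b.S ⊓ 𝐍[b.U1]) (C1 b.z1) := by
  refine Syl.of_maximal b.syl.pg.to_inf_left b.zc fun P hP h1 h2 => ?_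
  obtain ⟨g, -, hg⟩ := b.syl.conj_le hP le_top
  have hz : g * b.z1 * g⁻¹ ∈ b.S := hg (conj_mem_cj (h1 (b.a_U1S0 b.z1_mem)))
  have h3 : cj(g, P) ≤ b.S ⊓ 𝐍[b.U1] := cj_le_iff.2 fun a ha =>
    b.a_cen (b.a_D (IsConj.refl _) g) hz (hg (conj_mem_cj ha)) (by
      rw [conj_mul, conj_mul, mem_C1.1 (h2 ha)])
  exact (eq_of_le_of_card_ge h1 (by rw [← card_cj P g]; exact card_le_of_le h3)).ge

theorem a_zz : b.z1 * (b.z1 * (b.t * b.z1 * b.t)) = b.t * b.z1 * b.t := by rw [← mul_assoc, b.z2, one_mul]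

theorem a_iso {g : G} (hg : g ∈ C1 (b.z1 * (b.t * b.z1 * b.t))) (h : g * b.z1 * g⁻¹ ∈ b.S) :
    g * b.z1 * g⁻¹ = b.z1 ∨ g * b.z1 * g⁻¹ = b.t * b.z1 * b.t := by
  have z1 := b.z1_mem
  have z2 := b.a_z2
  have D2 := b.a_Dt (IsConj.refl _)
  have cm := b.z12
  have e0 := b.a_zz
  generalize b.t * b.z1 * b.t = w at *
  have hz : b.z1 * w ∈ b.S := mul_mem (b.U1S z1) (b.a_U2S z2)
  have e : g * b.z1 * g⁻¹ * (b.z1 * w) = g * w * g⁻¹ := by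
    conv_rhs => rw [← e0, ← conj_mul, blkA_fix (mem_C1.1 hg)]
  have d1 := b.a_D (IsConj.refl _) g
  have d2 : IsConj b.z1 (g * b.z1 * g⁻¹ * (b.z1 * w)) := e ▸ b.a_D D2 g
  generalize g * b.z1 * g⁻¹ = x at *
  have k := b.a_ds d2 (mul_mem h hz)
  rcases b.a_ds d1 h with h1 | h1 <;> rcases k with k | k
  · rw [← mul_assoc, mul_mem_cancel_left (mul_mem h1 z1)] at k
    exact absurd (b.a_dj k z2) (b.a_ne D2)
  · rw [← mul_assoc, mul_mem_cancel_right z2] at k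
    exact .inl ((eq_inv_of_mul_eq_one_left (b.a_dj (mul_mem h1 z1) k)).trans (inv_eq_of_mul_eq_one_right b.z2))
  · rw [cm, ← mul_assoc, mul_mem_cancel_right z1] at k
    exact .inr ((eq_inv_of_mul_eq_one_left (b.a_dj k (mul_mem h1 z2))).trans
      (inv_eq_of_mul_eq_one_right (b.a_sq D2)))
  · rw [mul_mem_cancel_left h1, mul_mem_cancel_right z2] at k
    exact absurd (b.a_dj z1 k) b.zne

theorem Cz {g : G} (hg : g ∈ C1 (b.z1 * (b.t * b.z1 * b.t))) :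
    g * b.z1 * g⁻¹ = b.z1 ∨ g * b.z1 * g⁻¹ = b.t * b.z1 * b.t := by
  have D2 := b.a_Dt (IsConj.refl _)
  obtain ⟨X, ho, hle, hn, h⟩ := blkA_zstar (x := b.z1) (b.syl.mono b.S_le le_top)
    (by rw [mul_assoc, ← mul_assoc (b.t * b.z1 * b.t), ← b.z12, mul_assoc b.z1, b.a_sq D2, mul_one, b.z2])
    b.z2 (mul_mem (b.U1S b.z1_mem) (b.a_U2S b.a_z2)) (b.U1S b.z1_mem) b.zne
    (fun e => b.a_ne D2 (left_eq_mul.1 e)) fun g hg h => by rw [b.a_zz]; exact b.a_iso hg h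
  have := h (b.odd X ho hle hn) g hg
  rwa [b.a_zz] at this

theorem Pr.conj {b : Blk G} {x y : G} (h : b.Pr x y) (g : G) : b.Pr (g * x * g⁻¹) (g * y * g⁻¹) := by
  obtain ⟨k, rfl, rfl⟩ := h
  exact ⟨g * k, by group, by group⟩

theorem Pr.symm {b : Blk G} {x y : G} (h : b.Pr x y) : b.Pr y x := by
  obtain ⟨k, rfl, rfl⟩ := h
  exact ⟨k * b.t, by rw [← blkA_cc, b.a_ti], by rw [← blkA_cc, b.a_ti, b.a_tt]⟩

theorem Pr.a_of {b : Blk G} {x y g : G} (h : b.Pr (g * x * g⁻¹) (g * y * g⁻¹)) : b.Pr x y := by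
  have := h.conj g⁻¹
  simpa [mul_assoc] using this

theorem a_M {a : G} (ha : IsConj b.z1 a) (ha' : a ∈ b.U1) : ∃ g : G, g * a * g⁻¹ = b.z1 ∧
    ∀ y, IsConj b.z1 y → y ∈ cj(b.t, b.U1) → g * y * g⁻¹ ∈ cj(b.t, b.U1) := by
  obtain ⟨g₀, e⟩ := isConj_iff.1 ha.symm
  obtain ⟨g, -, hg, hP⟩ := StdB.extremal (M := ⊤) (A := cj(b.t, b.U1))
    (by rw [top_inf_eq]; exact b.syl1) (mem_top g₀) e (pg_cj b.sylL.pg _)
    fun y hy => ⟨trivial, mem_C1.2 (b.a_cm (b.U1_le ha') hy).symm⟩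
  refine ⟨g, hg, fun y hy hy' => (b.a_ds (b.a_D hy g) (hP (conj_mem_cj hy')).1).resolve_left fun k => ?_⟩
  refine b.pur _ (mul_mem b.z1_mem k) a ha' y hy' (b.a_sq ha) (b.a_sq hy) (b.a_ne ha) (b.a_ne hy) ?_
  exact (isConj_iff.2 ⟨g, by rw [← hg, conj_mul]⟩ : IsConj (a * y) _).symm

theorem a_syl2 : Syl 2 (b.S ⊓ 𝐍[b.U1]) (C1 (b.t * b.z1 * b.t)) := by
  have h := b.syl1.cj b.t
  have e1 : cj(b.t, b.S ⊓ 𝐍[b.U1]) = b.S ⊓ 𝐍[b.U1] :=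
    cj_eq_of_le (cj_le_iff.2 fun a ha => by rw [b.a_ti]; exact b.a_S0t ha)
  have e2 : cj(b.t, C1 b.z1) = C1 (b.t * b.z1 * b.t) := by
    ext x
    rw [mem_cj, mem_C1, mem_C1, b.a_ti]
    constructor <;> intro k
    · calc _ = b.t * (b.t * x * b.t * b.z1) * b.t := by simp only [mul_assoc, b.a_t2]
        _ = _ := by rw [k]; simp only [mul_assoc, b.t2, mul_one]
    · calc _ = b.t * (x * (b.t * b.z1 * b.t)) * b.t := by simp only [mul_assoc, b.t2, mul_one]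
        _ = _ := by rw [k]; simp only [mul_assoc, b.a_t2]
  rwa [e1, e2] at h

theorem a_pz2 {a : G} (ha : IsConj b.z1 a) (ha' : a ∈ b.U1) : b.Pr a (b.t * b.z1 * b.t) := by
  obtain ⟨g, hg, hM⟩ := b.a_M ha ha'
  obtain ⟨W, hW⟩ : ∃ W, W = closure {y | IsConj b.z1 y ∧ y ∈ cj(b.t, b.U1)} := ⟨_, rfl⟩
  have mW : ∀ y, IsConj b.z1 y → y ∈ cj(b.t, b.U1) → y ∈ W := fun y h1 h2 => hW ▸ subset_closure ⟨h1, h2⟩
  have WU : W ≤ cj(b.t, b.U1) := hW ▸ (closure_le _).2 fun y hy => hy.2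
  have nW : ∀ k : G, (∀ y, IsConj b.z1 y → y ∈ cj(b.t, b.U1) → k * y * k⁻¹ ∈ cj(b.t, b.U1)) → k ∈ 𝐍[W] :=
    fun k hk => mem_norm_of_cj_le (by
      rw [cj_le_iff_le_inv]
      nth_rw 1 [hW]
      refine (closure_le _).2 fun y hy => ?_
      rw [SetLike.mem_coe, mem_cj, inv_inv]
      exact mW _ (b.a_D hy.1 k) (hk y hy.1 hy.2))
  have z2W := mW _ (b.a_Dt (IsConj.refl _)) b.a_z2
  have gW := nW g hM
  have LX : b.L1 ≤ 𝐂[W] := b.cm.trans (cent_anti WU)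
  have hP : Syl 2 (b.S ⊓ 𝐍[b.U1] ⊓ 𝐂[W]) 𝐂[W] := b.a_syl2.inf
    (fun x hx => mem_C1.2 (mem_cent.1 hx _ z2W).symm)
    (norm_cent fun s hs => nW s fun y _ hy => b.a_S0n hs hy)
  obtain ⟨x, hx, n, hn, e⟩ := hP.frattini (norm_cent le_rfl gW)
  have nW' : n ∈ 𝐍[W] := (mul_mem_cancel_left (cent_le_norm W hx)).1 (e ▸ gW)
  have UP : b.U1 ≤ b.S ⊓ 𝐍[b.U1] ⊓ 𝐂[W] := le_inf b.a_U1S0 (b.U1_le.trans LX)
  have hy := b.a_D (IsConj.refl _) n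
  have yU : n * b.z1 * n⁻¹ ∈ b.U1 :=
    (b.a_ds hy (conj_mem_of_norm hn (UP b.z1_mem)).1.1).resolve_right fun k => by
      have := conj_mem_of_norm' nW' (mW _ hy k)
      rw [show n⁻¹ * (n * b.z1 * n⁻¹) * n = b.z1 by group] at this
      exact b.zne (b.a_dj b.z1_mem (WU this))
  obtain ⟨l, hl, el⟩ := b.cz _ yU hy fun u hu => mem_C1.2 (by
    have := mem_C1.1 (b.zc (conj_mem_of_norm' hn (UP hu)).1)
    calc _ = n * (n⁻¹ * u * n * b.z1) * n⁻¹ := by group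
      _ = _ := by rw [this]; group)
  refine Pr.a_of (g := g) ⟨l * n, by rw [← blkA_cc, el, hg], ?_⟩
  have h1 := conj_mem_of_norm nW' z2W
  rw [← blkA_cc, e, ← blkA_cc, blkA_fix (mem_cent.1 hx _ h1).symm, blkA_fix (mem_cent.1 (LX hl) _ h1).symm]

theorem pairs {x y : G} (hx : IsConj b.z1 x) (hx' : x ∈ b.U1) (hy : IsConj b.z1 y) (hy' : y ∈ cj(b.t, b.U1)) :
    b.Pr x y := by
  obtain ⟨g, hg, h⟩ := b.a_M hx hx'
  refine Pr.a_of (g := g) ?_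
  rw [hg]
  have := (b.a_pz2 (b.a_Dt (b.a_D hy g)) (b.a_U2.1 (h y hy hy'))).conj b.t
  rw [b.a_ti, b.a_tt, b.a_tt] at this
  exact this.symm

end Blk

end Cfsg.Agent.SUm
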