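import Mathlib
import Cfsg.Agent.SUm.Cfg3
import Cfsg.Agent.SUm.PB
import Cfsg.Agent.SUm.Mu
import Cfsg.Agent.StdB.Emb

set_option autoImplicit false
set_option linter.unusedSectionVars false
set_option linter.unusedVariables false

namespace Cfsg.Agent.SUm

open Cfsg Cfsg.Agent.Cl Cfsg.Agent.Loc.Mss Subgroup Module
open Cfsg.Agent.StdB (C1 mem_C1 El)
open scoped commutatorElement

variable {F : Type*} [Field F] [Finite F] [CharP F 2] {σ : F →+* F} {V : Type*} [AddCommGroup V] [Module F V]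
  [Finite V] {B : V →ₗ[F] V →ₛₗ[σ] F} {q : ℕ} {G : Type*} [Group G] [Finite G]

theorem PJ_el_sup {A : Subgroup G} {s : G} (hA : El A) (hs : s * s = 1) (hc : s ∈ 𝐂[A]) : El (A ⊔ zpowers s) := by
  intro e he
  obtain ⟨a, ha, x, hx, rfl⟩ := (mem_sup_norm (norm_of_cent (zpowers_le.2 hc))).1 he
  rcases (StdB.mem_zpowers_two hs).1 hx with rfl | rfl
  · rw [mul_one, hA a ha]
  · rw [mul_assoc, ← mul_assoc x, ← mem_cent.1 hc a ha, mul_assoc, hs, mul_one, hA a ha]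

theorem PJ_sq {Γ : Type*} [Group Γ] {a : Γ} (h : a * a = 1) : a ^ 2 ^ 1 = 1 := by rw [pow_one, pow_two, h]

namespace Cfg.Pd.Sy

variable {c : Cfg B q G} {p : c.Pd} (y : p.Sy)

theorem PJ_tw {s : G} (hs : s ∈ y.S ⊓ p.M0) : c.t * s * c.t ∈ y.S ⊓ p.M0 :=
  ⟨mul_mem (mul_mem y.tS hs.1) y.tS, by
    have := conj_mem_of_norm p.t_norm hs.2
    rwa [c.t_inv] at this⟩

/-- The action on the second factor. -/
def PJβ : ↥(y.S ⊓ p.M0) →* SG F V :=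
  y.α.comp (MonoidHom.mk' (fun s => ⟨c.t * s * c.t, y.PJ_tw s.2⟩) fun a b => Subtype.ext (by
    change c.t * (a * b) * c.t = c.t * a * c.t * (c.t * b * c.t)
    calc c.t * (a * b) * c.t = c.t * a * (c.t * c.t) * b * c.t := by rw [c.t2]; group
      _ = _ := by group))

theorem PJβ_apply (s : ↥(y.S ⊓ p.M0)) : y.PJβ s = y.α ⟨c.t * s * c.t, y.PJ_tw s.2⟩ := rfl

theorem PJβ_act (s : ↥(y.S ⊓ p.M0)) : Act p.ψ2 s (y.PJβ s) := by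
  have := p.act_t.2 (y.act ⟨_, y.PJ_tw s.2⟩)
  rwa [show c.t * (c.t * s * c.t) * c.t = s by
    rw [← mul_assoc, ← mul_assoc, c.t2, one_mul, mul_assoc, c.t2, mul_one]] at this

theorem PJ_pow (f : ↥(y.S ⊓ p.M0) →* SG F V) {s : ↥(y.S ⊓ p.M0)} {n : ℕ} (h : (s : G) ^ n = 1) : f s ^ n = 1 := by
  rw [← map_pow, show s ^ n = 1 from Subtype.ext h, map_one]

theorem PJ_two (s : ↥(y.S ⊓ p.M0)) : ∃ n, (s : G) ^ 2 ^ n = 1 := pg_iff.1 y.syl.pg _ s.2.1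

theorem act2 {s : G} (hs : s ∈ y.S ⊓ p.M0) : ∃ γ1 ∈ Gam B ⊓ St y.W, ∃ γ2 ∈ Gam B ⊓ St y.W,
    γ1 • y.e = y.e ∧ γ2 • y.e = y.e ∧ (∀ n, s ^ n = 1 → γ1 ^ n = 1 ∧ γ2 ^ n = 1) ∧ Act p.ψ1 s γ1 ∧ Act p.ψ2 s γ2 :=
  ⟨y.α ⟨s, hs⟩, ⟨y.gam _, y.st _⟩, y.PJβ ⟨s, hs⟩, ⟨y.gam _, y.st _⟩, y.fix _, y.fix _,
    fun _ h => ⟨y.PJ_pow _ h, y.PJ_pow _ h⟩, y.act ⟨s, hs⟩, y.PJβ_act ⟨s, hs⟩⟩

theorem sw {s : G} (hs : s ∈ y.S) : s ∈ y.S ⊓ p.M0 ∨ s * c.t ∈ y.S ⊓ p.M0 :=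
  (p.M_dec (y.le hs)).imp (fun h => ⟨hs, h⟩) fun h => ⟨mul_mem hs y.tS, h⟩

theorem PJ_norm {X : Subgroup G} (h0 : y.S ⊓ p.M0 ≤ 𝐍[X]) (ht : c.t ∈ 𝐍[X]) : y.S ≤ 𝐍[X] := fun s hs =>
  (y.sw hs).elim (fun h => h0 h) fun h => (mul_mem_cancel_right ht).1 (h0 h)

theorem syl0 : Syl 2 (y.S ⊓ p.M0) p.M0 :=
  y.syl.inf le_top (y.PJ_norm (norm_of_le inf_le_right) p.t_norm)

theorem PJ_L1 : p.L1 ≤ p.M0 := le_sup_left.trans p.G0_le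

theorem PJ_L2 : p.L2 ≤ p.M0 := le_sup_right.trans p.G0_le

theorem sylL : Syl 2 (y.S ⊓ p.L1) p.L1 := by
  have := y.syl0.inf PJ_L1 (inf_le_right.trans inf_le_left)
  rwa [inf_assoc, inf_eq_right.2 PJ_L1] at this

theorem cj_U : cj(c.t, y.S ⊓ p.L1) = y.S ⊓ p.L2 := by
  rw [cj_inf, cj_of_mem y.tS, ← p.L2_eq]

theorem PJ_α {x : SG F V} (hx : x ∈ SU B) (h2 : ∃ m, x ^ 2 ^ m = 1) (h : ev p.ψ1 x ∈ y.S ⊓ p.M0) :
    y.α ⟨_, h⟩ = x := by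
  obtain ⟨m, hm⟩ := h2
  obtain ⟨n, hn⟩ := y.PJ_two ⟨_, h⟩
  exact c.sp.act_eq p.ker (y.gam _) (SU_le_Gam hx) (y.act ⟨_, h⟩) (act_ev hx) (fld_SU hx) (y.PJ_pow _ hn) hm

theorem PJ_le {H : Subgroup (SG F V)} (hH : IsPGroup 2 H) (hle : H ≤ SU B) (hn : ∀ s, y.α s ∈ 𝐍[H]) :
    im p.ψ1 H ≤ y.S := by
  obtain ⟨U, hU, e⟩ := syl_of_im y.sylL
  refine (im_mono (hU.le_of_norm hH hle fun x hx => ?_)).trans (e.le.trans inf_le_left)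
  have hx' := e.le (ev_mem_im hx)
  rw [← y.PJ_α (hU.le hx) (pg_iff.1 hU.pg x hx) ⟨hx'.1, PJ_L1 hx'.2⟩]
  exact hn _

theorem RW_le {X : Submodule F V} (hX : TI B X) (hs : ∀ s, y.α s ∈ St X) : im p.ψ1 (RW B X) ≤ y.S :=
  y.PJ_le (c.sp.RW_two hX) (SUm.RW_le X) fun s => c.sp.RW_norm ⟨y.gam s, hs s⟩

theorem Q_le : im p.ψ1 (Qv B y.e) ≤ y.S :=
  y.RW_le (TI_span y.iso.iso) fun s => mapW_eq_iff.1 (by rw [mapW_span, y.fix])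

theorem mem_S {x : SG F V} (hx : x ∈ PW B y.W) {f : V} (hf : ∀ s, y.α s • f - f ∈ uPerp B y.W)
    (hT : x ∈ TH B y.W f) (hff : B f f = 0) : ev p.ψ1 x ∈ y.S := by
  have h := c.sp
  have hW := y.max.ti
  obtain ⟨H, hH, -⟩ := Mu_hyp (B := B) y.W f
  refine y.PJ_le (H := SU B ⊓ Fix F H ⊓ Mv (uPerp B y.W) H) ?_ (inf_le_left.trans inf_le_left) (fun s => ?_)
    (ev_mem_im ?_)
  · refine pg_iff.2 fun g hg => ⟨2, ?_⟩
    have h2 : g * g ∈ AW B y.W := h.mem_AW_of_fix (mul_mem hg.1.1 hg.1.1) fun v hv => by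
      have h3 := hg.1.2 _ (hg.2.2 v hv)
      rw [smul_sub, vsub (F := F), vsub (F := F)] at h3
      rw [mul_smul]
      exact add_right_cancel (h3.trans (add_comm _ _))
    rw [show g ^ 2 ^ 2 = g * g * (g * g) by rw [show 2 ^ 2 = 2 * 2 by rfl, pow_mul, pow_two, pow_two],
      h.AW_sq hW h2]
  · have hS : ∀ s, y.α s ∈ St H := fun s => mem_St_of fun v hv => by
      obtain ⟨h1, h2⟩ := (hH v).1 hv
      have h3 := St.mem (y.st s) h1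
      have h4 := hf s _ h3
      rw [map_sub, y.gam s, h2, map_zero, zero_sub, neg_eq_zero] at h4
      exact (hH _).2 ⟨h3, h4⟩
    have hP := St_perp (y.gam s) (y.st s)
    refine mem_norm_of_cj_le (cj_le_iff.2 fun a ha => ⟨⟨conj_mem_SU (y.gam s) ha.1.1,
      conj_mem_Fix (fun v hv => St.mem (inv_mem (hS s)) hv) ha.1.2⟩,
      mul_mem (mul_mem hP ha.2.1) (inv_mem hP), fun v hv => ?_⟩)
    have := St.mem (hS s) (ha.2.2 _ (St.mem (inv_mem hP) hv))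
    rwa [smul_sub, smul_inv_smul, ← mul_smul, ← mul_smul] at this
  · obtain ⟨e, he, hfe, rfl⟩ := (h.mem_TH hW hff).1 hT
    have ee := hW e he e he
    have eH := (hH e).2 ⟨he, h.zero_symm hfe⟩
    have key : ∀ v ∈ uPerp B y.W, xx B e f • v = v + B v f • e := fun v hv => by
      rw [h.xx_smul ee hfe, h.zero_symm (hv e he), zero_smul, add_zero]
    refine ⟨⟨h.xx_mem ee hfe hff, fun v hv => ?_⟩, St_perp (SU_le_Gam hx.1) hx.2, fun v hv => ?_⟩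
    · obtain ⟨h1, h2⟩ := (hH v).1 hv
      rw [key v (hW.le h1), h2, zero_smul, add_zero]
    · rw [key v hv, add_sub_cancel_left]
      exact H.smul_mem _ eH

theorem PJ_A1 : im p.ψ1 (AW B y.W) ≤ y.S := (im_mono (c.sp.AW_le_RW y.max.ti)).trans (y.RW_le y.max.ti y.st)

theorem J_le : p.J y.W ≤ y.S :=
  sup_le y.PJ_A1 (by rw [← p.cj_im]; exact cj_le_of_mem y.PJ_A1 y.tS)

theorem S_norm : y.S ≤ 𝐍[p.J y.W] := by
  refine y.PJ_norm (fun s hs => ?_) ?_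
  · obtain ⟨γ1, h1, γ2, h2, -, -, -, a1, a2⟩ := y.act2 hs
    rw [← cj_eq_iff, J, cj_sup, c.sp.act_AW p.ker h1.1 a1, c.sp.act_AW p.ker2 h2.1 a2, mapW_eq_iff.2 h1.2,
      mapW_eq_iff.2 h2.2]
  · rw [← cj_eq_iff, J, cj_sup, ← p.cj_im, cj_cj, c.t2, cj_one, sup_comm]

theorem PJ_el : El (p.J y.W) := p.el_sup (c.sp.AW_el y.max.ti) (c.sp.AW_el y.max.ti)

theorem uniq {E : Subgroup G} (hE : El E) (hle : E ≤ y.S)
    (hc : q ^ ((finrank F V / 2) ^ 2) * q ^ ((finrank F V / 2) ^ 2) ≤ Nat.card E) : E = p.J y.W := by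
  have h := c.sp
  obtain ⟨n, -, hq⟩ := h.exists_pow
  have q0 : 0 < q := hq ▸ Nat.two_pow_pos n
  have hQ : 2 < q ^ ((finrank F V / 2) ^ 2) :=
    lt_of_le_of_lt (Nat.le_mul_of_pos_right 2 (pow_pos q0 _)) h.JJ_num
  have h0 : E ≤ p.M0 := by
    by_contra hn
    have := p.el_swap hE (hle.trans y.le) hn
    nlinarith
  have hS : E ≤ y.S ⊓ p.M0 := le_inf hle h0
  have el : ∀ f : ↥(y.S ⊓ p.M0) →* SG F V, El ((E.subgroupOf (y.S ⊓ p.M0)).map f) := by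
    rintro f _ ⟨s, hs, rfl⟩
    rw [← map_mul, show s * s = 1 from Subtype.ext (hE _ hs), map_one]
  have ga : (E.subgroupOf (y.S ⊓ p.M0)).map y.α ≤ Gam B ⊓ St y.W := by
    rintro _ ⟨s, -, rfl⟩; exact ⟨y.gam _, y.st _⟩
  have gb : (E.subgroupOf (y.S ⊓ p.M0)).map y.PJβ ≤ Gam B ⊓ St y.W := by
    rintro _ ⟨s, -, rfl⟩; exact ⟨y.gam _, y.st _⟩
  have ca := h.el_le (el _) (ga.trans inf_le_left)
  have cb := h.el_le (el _) (gb.trans inf_le_left)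
  have hcard : Nat.card E ≤ Nat.card ((E.subgroupOf (y.S ⊓ p.M0)).map y.α) *
      Nat.card ((E.subgroupOf (y.S ⊓ p.M0)).map y.PJβ) := by
    rw [← Nat.card_prod]
    refine Nat.card_le_card_of_injective (fun s : E => (⟨y.α ⟨s, hS s.2⟩, mem_map_of_mem _ s.2⟩,
      ⟨y.PJβ ⟨s, hS s.2⟩, mem_map_of_mem _ s.2⟩)) fun s s' e => ?_
    have e1 : y.α ⟨s, hS s.2⟩ = y.α ⟨s', hS s'.2⟩ := congrArg (fun x => (x.1 : SG F V)) e
    have e2 : y.PJβ ⟨s, hS s.2⟩ = y.PJβ ⟨s', hS s'.2⟩ := congrArg (fun x => (x.2 : SG F V)) e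
    have a1 := y.act (⟨s, hS s.2⟩ * ⟨s', hS s'.2⟩⁻¹)
    have a2 := y.PJβ_act (⟨s, hS s.2⟩ * ⟨s', hS s'.2⟩⁻¹)
    rw [map_mul, map_inv, e1, mul_inv_cancel, act_one_iff] at a1
    rw [map_mul, map_inv, e2, mul_inv_cancel, act_one_iff] at a2
    exact Subtype.ext (mul_inv_eq_one.1
      (p.eq_one_of_cent a1 a2 (PJ_sq (hE _ (mul_mem s.2 (inv_mem s'.2))))))
  have ea := h.el_eq' (el _) (ga.trans inf_le_left) (by nlinarith) y.max (ga.trans inf_le_right)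
  have eb := h.el_eq' (el _) (gb.trans inf_le_left) (by nlinarith) y.max (gb.trans inf_le_right)
  refine eq_of_le_of_card_ge (fun s hs => ?_) (by rwa [p.card_J y.max])
  have h1 : y.α ⟨s, hS hs⟩ ∈ AW B y.W := ea.le (mem_map_of_mem _ hs)
  have h2 : y.PJβ ⟨s, hS hs⟩ ∈ AW B y.W := eb.le (mem_map_of_mem _ hs)
  rw [p.eq_of_act (PJ_sq (hE s hs)) (AW_le _ h1) (AW_le _ h2) (PJ_sq (h.AW_sq y.max.ti h1))
    (PJ_sq (h.AW_sq y.max.ti h2)) (y.act ⟨s, hS hs⟩) (y.PJβ_act ⟨s, hS hs⟩)]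
  exact mul_mem_sup (ev_mem_im h1) (ev_mem_im h2)

theorem ctrl {a g : G} (ha : a ∈ p.J y.W) (hb : g * a * g⁻¹ ∈ p.J y.W) :
    ∃ n ∈ 𝐍[p.J y.W], n * a * n⁻¹ = g * a * g⁻¹ :=
  burnside_J y.syl y.J_le y.PJ_el.le_cent
    (fun g hg => y.uniq (y.PJ_el.cj g) hg (by rw [card_cj, p.card_J y.max])) ha hb

theorem inv_cent {d : G} (hd : d ∈ y.S) (d2 : d * d = 1) (hc : d ∈ 𝐂[p.J y.W]) : d ∈ p.J y.W := by
  have := y.uniq (PJ_el_sup y.PJ_el d2 hc) (sup_le y.J_le (zpowers_le.2 hd))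
    (by rw [← p.card_J y.max]; exact card_le_of_le le_sup_left)
  exact this.le (mem_sup_right (mem_zpowers d))

theorem der {x : G} (hx : x ∈ ⁅y.S ⊓ p.M0, y.S ⊓ p.M0⁆) : x ∈ p.G0 := by
  rw [← map_subtype_commutator] at hx
  obtain ⟨s, hs, rfl⟩ := hx
  have key : ∀ f : ↥(y.S ⊓ p.M0) →* SG F V, fld (f s) = 1 := fun f => c.sp.fld_der (by
    have := mem_map_of_mem f hs
    rw [commutator_def, map_commutator] at this
    exact commutator_mono le_top le_top this)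
  obtain ⟨n, hn⟩ := y.PJ_two s
  have h1 := c.sp.two_mem_SU (y.gam s) (key _) (y.PJ_pow _ hn)
  have h2 : y.PJβ s ∈ SU B := c.sp.two_mem_SU (y.gam _) (key y.PJβ) (y.PJ_pow y.PJβ hn)
  have := p.eq_of_act hn h1 h2 (y.PJ_pow _ hn) (y.PJ_pow _ hn) (y.act s) (y.PJβ_act s)
  exact p.mem_G0.2 ⟨_, ev_mem_range _, _, ev_mem_range _, this⟩

theorem dec {x : G} (hx : x ∈ y.S ⊓ p.G0) : ∃ a ∈ y.S ⊓ p.L1, ∃ b ∈ y.S ⊓ p.L2, x = a * b := by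
  obtain ⟨n, hn⟩ := pg_iff.1 y.syl.pg _ hx.1
  obtain ⟨a, ha, b, hb, a2, -, e⟩ := p.two_dec hx.2 hn
  have h1 : x ∈ 𝐍[y.S ⊓ p.L1] :=
    norm_inf (X := y.S ⊓ p.M0) (norm_of_le inf_le_left) (inf_le_right.trans inf_le_left) ⟨hx.1, p.G0_le hx.2⟩
  have h2 : ev p.ψ2 b ∈ 𝐍[y.S ⊓ p.L1] :=
    cent_le_norm _ (cent_anti inf_le_right (cent_comm p.L1_cent (ev_mem_range b)))
  have h3 : ev p.ψ1 a ∈ y.S ⊓ p.L1 :=
    y.sylL.le_of_norm' (StdB.pg_zpowers_of_pow (k := n) (by rw [← ev_pow ha, a2, ev_one]))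
      (zpowers_le.2 (ev_mem_range a)) (zpowers_le.2 ((mul_mem_cancel_right h2).1 (e ▸ h1))) (mem_zpowers _)
  exact ⟨_, h3, _, ⟨(mul_mem_cancel_left (mem_inf.1 h3).1).1 (e ▸ (mem_inf.1 hx).1), ev_mem_range b⟩, e⟩

theorem PJ_tv : tv B y.e 1 ∈ AW B y.W := c.sp.tv_mem_AW y.eW y.iso.iso (map_one σ)

theorem z1_mem : y.z1 ∈ y.S ⊓ p.L1 := ⟨y.PJ_A1 (ev_mem_im y.PJ_tv), ev_mem_range _⟩

theorem z1_sq : y.z1 * y.z1 = 1 := by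
  rw [z1, ← ev_mul (AW_le _ y.PJ_tv) (AW_le _ y.PJ_tv), c.sp.tv_sq y.iso.iso, ev_one]

theorem z1_ne : y.z1 ≠ 1 := fun e =>
  one_ne_zero ((c.sp.tv_eq_one y.iso).1
    (p.ker.eq_one_of_two (AW_le _ y.PJ_tv) e (PJ_sq (c.sp.tv_sq y.iso.iso 1))))

theorem z1_cent : y.S ⊓ p.M0 ≤ C1 y.z1 := fun s hs =>
  mem_C1.2 ((y.act ⟨s, hs⟩).comm_of (AW_le _ y.PJ_tv) (by
    rw [← mul_inv_eq_iff_eq_mul, tv_conj (y.gam _) y.iso.iso, y.fix, map_one]))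

theorem z_eq : y.z1 * (c.t * y.z1 * c.t) = c.z y.e 1 := (p.diag _).symm

end Cfg.Pd.Sy

end Cfsg.Agent.SUm
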