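import Mathlib
import Cfsg.Agent.SUm.Cfg3
import Cfsg.Agent.SUm.PB

set_option autoImplicit false
set_option linter.unusedSectionVars false

namespace Cfsg.Agent.SUm

open Cfsg Cfsg.Agent.Cl Cfsg.Agent.Loc.Mss Subgroup Module
open Cfsg.Agent.StdB (C1 mem_C1 El)
open scoped commutatorElement

variable {F : Type*} [Field F] [Finite F] [CharP F 2] {σ : F →+* F} {V : Type*} [AddCommGroup V] [Module F V]
  [Finite V] {B : V →ₗ[F] V →ₛₗ[σ] F} {q : ℕ} {G : Type*} [Group G] [Finite G]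

theorem sw_cent {ψ : SU B →* G} {u : G} {γ : SG F V} (h : Act ψ u γ) {E : Subgroup (SG F V)} (hE : E ≤ SU B ⊓ C1 γ) :
    im ψ E ≤ C1 u := fun _ ha => by
  obtain ⟨x, hx, rfl⟩ := (mem_im' (hE.trans inf_le_left)).1 ha
  exact mem_C1.2 (h.comm_of (hE hx).1 (mem_C1.1 (hE hx).2).symm).symm

namespace Cfg.Pd

variable {c : Cfg B q G} (p : c.Pd)

theorem not_M0 (g : G) : g * c.t * g⁻¹ ∉ p.M0 := by
  intro hu
  have u2 : g * c.t * g⁻¹ * (g * c.t * g⁻¹) = 1 := by rw [conj_mul, c.t2, mul_one, mul_inv_cancel]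
  obtain ⟨γ, hγ, γ2, ha⟩ := c.sp.exists_act_inv p.ker hu.1 u2
  obtain ⟨δ, hδ, δ2, hb⟩ := c.sp.exists_act_inv p.ker2 hu.2 u2
  obtain ⟨E, h1, h2, h3⟩ := c.sp.exists_el hγ γ2
  obtain ⟨E', k1, k2, k3⟩ := c.sp.exists_el hδ δ2
  have := c.el_le' (p.el_sup h2 k2) (sup_le (sw_cent ha h1) (sw_cent hb k1))
  rw [p.card_sup (JJ_pg h2) (JJ_pg k2) (h1.trans inf_le_left) (k1.trans inf_le_left)] at this
  exact absurd ((c.sp.num4.ge.trans (Nat.mul_le_mul h3 k3)).trans this) c.sp.num1.not_ge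

theorem uf {g : G} (hg : g * c.t * g⁻¹ ∈ p.M) : g ∈ p.M := by
  have u2 : g * c.t * g⁻¹ * (g * c.t * g⁻¹) = 1 := by rw [conj_mul, c.t2, mul_one, mul_inv_cancel]
  obtain ⟨f, hf, ef, hC⟩ := p.exists_diag hg (p.not_M0 g) u2
  have sw := (p.swap hg (p.not_M0 g)).1
  obtain ⟨γ, hγ, e⟩ := c.sp.aut (c.conj g).ker hf (c.sp.range_eq_of_le (c.conj g).ker hf
    ((c.conj g).perf_le hC c.sp.range_perf))
  replace e : ∀ x ∈ SU B, c.Ψ (γ * x * γ⁻¹) = g⁻¹ * ev f x * g := fun x hx => by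
    rw [e x hx, show ev (c.conj g).ψ _ = _ from c.conj_Ψ g _]; group
  have h1 : p.L1 ≤ cj(g, p.G0) := by
    rw [L1, ← im_self]
    refine (im_mono c.sp.SU_gen.le).trans (im_closure_le ?_ ?_)
    · rintro _ ⟨v, a, hv, ha, rfl⟩; exact c.sp.tv_mem hv ha
    rintro _ ⟨v, a, hv, ha, rfl⟩
    by_cases v0 : v = 0
    · rw [v0, tv_zero_left, ev_one]; exact one_mem _
    by_cases a0 : a = 0
    · rw [a0, tv_zero, ev_one]; exact one_mem _
    have hs := c.sp.tv_mem hv ha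
    have y2 : ev p.ψ1 (tv B v a) * ev p.ψ1 (tv B v a) = 1 := by rw [← ev_mul hs hs, c.sp.tv_sq hv, ev_one]
    rw [mem_cj, G0, p.L2_eq]
    refine p.can (γ • v) (Iso.smul hγ ⟨v0, hv⟩) _ ((mem_cent_im (M1_le _)).2 fun m hm => ?_) ?_ (fld γ a)
      (c.sp.aut_fix _ ha) (by simpa using a0) ?_
    · have hm0 := c.sp.conj_mem_M1 (inv_mem hγ) hm
      rw [inv_smul_smul] at hm0
      have e1 := e _ (M1_le _ hm0)
      rw [show γ * (γ⁻¹ * m * γ⁻¹⁻¹) * γ⁻¹ = m by group, ef] at e1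
      generalize γ⁻¹ * m * γ⁻¹⁻¹ = m0 at hm0 e1
      have c1 : Commute (ev p.ψ1 (tv B v a)) (ev p.ψ1 m0) := ev_comm hs (M1_le _ hm0) (by
        have := tv_conj (SU_le_Gam (M1_le _ hm0)) hv a
        rw [(mem_M1.1 hm0).2, fld_SU (M1_le _ hm0), mul_inv_eq_iff_eq_mul] at this
        exact this.symm)
      have c2 : Commute (ev p.ψ1 (tv B v a)) (g * c.t * g⁻¹ * ev p.ψ1 m0 * (g * c.t * g⁻¹)) := by
        have := conj_mem_cj (g := g * c.t * g⁻¹) (ev_mem_range (f := p.ψ1) m0)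
        rw [sw, inv_eq_of_mul_eq_one_right u2] at this
        exact (mem_cent.1 (p.L1_cent (ev_mem_range _)) _ this).symm
      have c3 := (c1.mul_right c2).conj g⁻¹
      rw [inv_inv] at c3
      rw [show ev c.ψ m = _ from e1]
      exact c3
    · rw [show ∀ y : G, g⁻¹ * y * g * (g⁻¹ * y * g) = g⁻¹ * (y * y) * g from fun y => by group, y2]; group
    · have e1 := e _ hs
      have e2 := mem_C1.1 (hC (ev_mem_range (f := f) (tv B v a)))
      rw [tv_conj hγ hv] at e1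
      rw [z, show ev c.ψ _ = _ from e1]
      calc _ = g⁻¹ * (ev p.ψ1 (tv B v a) * (g * c.t * g⁻¹) * (ev p.ψ1 (tv B v a))⁻¹) * g := by group
        _ = g⁻¹ * (ev f (tv B v a) * (g * c.t * g⁻¹)) * g := by
          rw [inv_eq_of_mul_eq_one_right y2, ef, mul_assoc _ _ (g * c.t * g⁻¹), mul_assoc _ _ (g * c.t * g⁻¹), u2]
          group
        _ = _ := by rw [e2]; group
  refine cj_eq_iff.1 (cj_eq_of_ge (sup_le h1 ?_))
  rw [← sw]
  refine (cj_mono _ h1).trans ?_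
  rw [cj_cj, inv_mul_cancel_right, ← cj_cj, cj_of_norm p.t_mem]

theorem exists_Sy : Nonempty p.Sy := by
  obtain ⟨S, h0, hS⟩ := Syl.exists_ge (StdB.pg_zpowers_of_pow (k := 1) (by rw [pow_one, pow_two, c.t2]))
    (zpowers_le.2 p.t_mem)
  have ht := h0 (mem_zpowers _)
  have hP : IsPGroup 2 (S ⊓ p.M0 : Subgroup G) := hS.pg.to_inf_left
  obtain ⟨α, hα⟩ := c.sp.lift2 p.ker hP (inf_le_right.trans inf_le_left)
  obtain ⟨e, W, h1, h2, h3, h4, h5⟩ := c.sp.exists_flag (P := α.range)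
    (hP.of_surjective α.rangeRestrict α.rangeRestrict_surjective) (by rintro _ ⟨s, rfl⟩; exact (hα s).1)
  exact ⟨⟨S, α, e, W, syl_of_uf (fun _ => p.uf) hS ht, hS.le, ht, fun s => (hα s).1, fun s => (hα s).2, h1, h2, h3,
    fun s => h4 _ ⟨s, rfl⟩, fun s => h5 ⟨s, rfl⟩⟩⟩

end Cfg.Pd

end Cfsg.Agent.SUm
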