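import Mathlib
import Cfsg.Agent.SUm.Cfg3
import Cfsg.Agent.SUm.DSa
import Cfsg.Agent.SUm.RS

/-! The conjugates of `z₁` inside `S` lie in one of the two factors. -/

set_option autoImplicit false
set_option linter.unusedSectionVars false

namespace Cfsg.Agent.SUm

open Cfsg Cfsg.Agent.Cl Cfsg.Agent.Loc.Mss Subgroup Module
open Cfsg.Agent.StdB (C1 mem_C1 El)
open scoped commutatorElement

variable {F : Type*} [Field F] [Finite F] [CharP F 2] {σ : F →+* F} {V : Type*} [AddCommGroup V] [Module F V]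
  [Finite V] {B : V →ₗ[F] V →ₛₗ[σ] F} {q : ℕ} {G : Type*} [Group G] [Finite G]

theorem ds_sq {A : Type*} [Group A] {a b : A} (h : IsConj a b) (a2 : a * a = 1) : b * b = 1 := by
  obtain ⟨g, rfl⟩ := isConj_iff.1 h
  rw [conj_mul, a2]; simp

theorem ds_cj {A : Type*} [Group A] (g a : A) : IsConj a (g * a * g⁻¹) := isConj_iff.2 ⟨g, rfl⟩

theorem ds_rs {D : Subgroup (SG F V)} {ψ : D →* G} {d : G} {γ x v : SG F V} (ha : Act ψ d γ) (hv : v ∈ D)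
    (hγ : γ ∈ 𝐍[D]) (hx : x * γ = γ * x) (e : v * γ * v⁻¹ = γ * x) :
    ev ψ v * d * (ev ψ v)⁻¹ = ev ψ x * d := by
  have h1 := ha _ (inv_mem hv)
  have h2 : v * (γ * v⁻¹ * γ⁻¹) = x := by
    rw [show v * (γ * v⁻¹ * γ⁻¹) = v * γ * v⁻¹ * γ⁻¹ by group, e, ← hx]; group
  rw [← h2, ev_mul hv ((mem_normalizer_iff.1 hγ _).1 (inv_mem hv)), ← h1, ev_inv hv]
  group

namespace Cfg.Pd

variable {c : Cfg B q G} (p : c.Pd)

/-- Mixed involutions. -/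
def dsMix (w : G) : Prop := ∃ a ∈ p.L1, ∃ b ∈ p.L2, a * a = 1 ∧ b * b = 1 ∧ a ≠ 1 ∧ b ≠ 1 ∧ w = a * b

theorem ds_tri {x : G} (hx : x ∈ p.G0) (x2 : x * x = 1) : (x ∈ p.L1 ∨ x ∈ p.L2) ∨ p.dsMix x := by
  obtain ⟨a, ha, b, hb, a2, b2, rfl⟩ := p.inv_dec hx x2
  by_cases a1 : a = 1
  · exact .inl (.inr (by rw [a1, one_mul]; exact hb))
  by_cases b1 : b = 1
  · exact .inl (.inl (by rw [b1, mul_one]; exact ha))
  exact .inr ⟨a, ha, b, hb, a2, b2, a1, b1, rfl⟩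

variable {p} in
theorem ds_nc (hp : p.Pur) {x w : G} (hx : x ∈ p.L1 ∨ x ∈ p.L2) (hw : p.dsMix w) : ¬ IsConj x w := by
  obtain ⟨a, ha, b, hb, a2, b2, a1, b1, rfl⟩ := hw
  rcases hx with hx | hx
  · exact hp x hx a ha b hb a2 b2 a1 b1
  · intro h
    have h1 : c.t * x * c.t⁻¹ ∈ p.L1 := by rw [← p.cj_L2]; exact conj_mem_cj hx
    exact hp _ h1 a ha b hb a2 b2 a1 b1 ((ds_cj c.t x).symm.trans h)

theorem ds_t {s : G} (hs : s ∈ p.M0) : c.t * s * c.t ∈ p.M0 := by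
  have := (mem_normalizer_iff.1 p.t_norm s).1 hs
  rwa [c.t_inv] at this

theorem ds_tt (s : G) : c.t * (c.t * s * c.t) * c.t = s := by
  rw [show c.t * (c.t * s * c.t) * c.t = c.t * c.t * s * (c.t * c.t) by group, c.t2, one_mul, mul_one]

theorem ds_act_t {g : G} {γ : SG F V} (h : Act p.ψ2 g γ) : Act p.ψ1 (c.t * g * c.t) γ :=
  p.act_t.1 (by rwa [ds_tt])

namespace Sy

variable {p} (y : p.Sy)

theorem ds_tv : tv B y.e 1 ∈ SU B := c.sp.tv_mem y.iso.2 (map_one σ)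

theorem ds_move (hp : p.Pur) {d : G} (hd : IsConj y.z1 d) {A : Subgroup G} (hA : IsPGroup 2 A) (hle : A ≤ C1 d) :
    ∃ h : G, h * d * h⁻¹ = y.z1 ∧ cj(h, A) ≤ y.S ⊓ p.M0 ∧ ∀ x ∈ ⁅A, A⁆, h * x * h⁻¹ ∈ p.G0 := by
  obtain ⟨g, hg⟩ := isConj_iff.1 hd.symm
  obtain ⟨h, -, e, h2⟩ := StdB.extremal (M := ⊤) (T := y.S ⊓ p.M0) (z := y.z1)
    (by rw [top_inf_eq]; exact y.syl1 hp) (mem_top g) hg hA (by rw [top_inf_eq]; exact hle)
  refine ⟨h, e, h2, fun x hx => y.der (commutator_mono h2 h2 ?_)⟩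
  rw [← cj_comm]; exact conj_mem_cj hx

theorem ds_L1 (hp : p.Pur) {d h X : G} (hd : h * d * h⁻¹ = y.z1) (hG : h * X * h⁻¹ ∈ p.G0) (X2 : X * X = 1)
    (X1 : X ≠ 1) (hX : X ∈ p.L1 ∨ X ∈ p.L2) (hc : IsConj d (X * d)) : h * X * h⁻¹ ∈ p.L1 := by
  have x2 := ds_sq (ds_cj h X) X2
  rcases p.ds_tri hG x2 with (h1 | h1) | h1
  · exact h1
  · exfalso
    refine ds_nc hp (.inl y.z1_mem.2) ⟨_, y.z1_mem.2, _, h1, y.z1_sq, x2, y.z1_ne,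
      fun e => X1 (conj_eq_one_iff.1 e), rfl⟩ ?_
    rw [← mem_cent.1 (p.L1_cent y.z1_mem.2) _ h1, ← hd, conj_mul]
    exact ((ds_cj h d).symm.trans hc).trans (ds_cj h _)
  · exact (ds_nc hp hX h1 (ds_cj h X)).elim

theorem ds_L2 (hp : p.Pur) {d h X : G} (hd : h * d * h⁻¹ = y.z1) (hG : h * X * h⁻¹ ∈ p.G0) (X2 : X * X = 1)
    (hX : p.dsMix X) (hc : IsConj d (X * d)) : h * X * h⁻¹ * y.z1 ∈ p.L2 := by
  have x2 := ds_sq (ds_cj h X) X2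
  rcases p.ds_tri hG x2 with h1 | ⟨a, ha, b, hb, a2, b2, a1, b1, e⟩
  · exact (ds_nc hp h1 hX (ds_cj h X).symm).elim
  have hz : IsConj y.z1 (h * X * h⁻¹ * y.z1) := by
    rw [← hd, conj_mul]
    exact ((ds_cj h d).symm.trans hc).trans (ds_cj h _)
  have hm : a * y.z1 ∈ p.L1 := mul_mem ha y.z1_mem.2
  have e1 : h * X * h⁻¹ * y.z1 = a * y.z1 * b := by
    rw [e, mul_assoc, mem_cent.1 (p.L1_cent y.z1_mem.2) _ hb, mul_assoc]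
  rw [e1] at hz ⊢
  by_cases h1 : a * y.z1 = 1
  · rw [h1, one_mul]; exact hb
  exfalso
  refine ds_nc hp (.inl y.z1_mem.2) ⟨_, hm, _, hb, ?_, b2, h1, b1, rfl⟩ hz
  have h2 := ds_sq hz y.z1_sq
  have h3 := mem_cent.1 (p.L1_cent hm) _ hb
  calc a * y.z1 * (a * y.z1) = a * y.z1 * (a * y.z1) * (b * b) := by rw [b2, mul_one]
    _ = a * y.z1 * (a * y.z1 * b) * b := by group
    _ = 1 := by rw [← h3, ← h2]; group

theorem ds_both (hp : p.Pur) {d : G} (hd : IsConj y.z1 d) {γ1 γ2 : SG F V} (g1 : γ1 ∈ Gam B) (g2 : γ2 ∈ Gam B)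
    (s1 : γ1 * γ1 = 1) (s2 : γ2 * γ2 = 1) (a1 : Act p.ψ1 d γ1) (a2 : Act p.ψ2 d γ2) : γ1 = 1 ∨ γ2 = 1 := by
  by_contra hn
  rw [not_or] at hn
  obtain ⟨P1, l1, t1, x1, m1, q1, n1, v1, u1, e1⟩ := c.sp.RS g1 s1 hn.1
  obtain ⟨P2, l2, t2, x2, m2, q2, n2, v2, u2, e2⟩ := c.sp.RS g2 s2 hn.2
  have k1 : P1 ≤ SU B := l1.trans inf_le_left
  have k2 : P2 ≤ SU B := l2.trans inf_le_left
  have i1 : x1 ∈ P1 := comm_le_left le_normalizer m1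
  have i2 : x2 ∈ P2 := comm_le_left le_normalizer m2
  obtain ⟨h, hh, -, hG⟩ := y.ds_move hp hd (p.two_sup t1 t2) (sup_le
    (fun x hx => by
      obtain ⟨w, hw, rfl⟩ := (mem_im' k1).1 hx
      exact mem_C1.2 (a1.comm_of (k1 hw) (mem_C1.1 (l1 hw).2).symm).symm)
    (fun x hx => by
      obtain ⟨w, hw, rfl⟩ := (mem_im' k2).1 hx
      exact mem_C1.2 (a2.comm_of (k2 hw) (mem_C1.1 (l2 hw).2).symm).symm))
  have r1 : ev p.ψ1 x1 * ev p.ψ1 x1 = 1 := by rw [← ev_mul (k1 i1) (k1 i1), q1, ev_one]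
  have r2 : ev p.ψ2 x2 * ev p.ψ2 x2 = 1 := by rw [← ev_mul (k2 i2) (k2 i2), q2, ev_one]
  have o1 : ev p.ψ1 x1 ≠ 1 := fun e => n1 (p.ker.eq_one_of_two (k1 i1) e (n := 1) (by rw [pow_one, pow_two, q1]))
  have o2 : ev p.ψ2 x2 ≠ 1 := fun e => n2 (p.ker2.eq_one_of_two (k2 i2) e (n := 1) (by rw [pow_one, pow_two, q2]))
  have w1 : ev p.ψ1 x1 ∈ ⁅im p.ψ1 P1, im p.ψ1 P1⁆ := by rw [← im_comm k1 k1]; exact ev_mem_im m1
  have w2 : ev p.ψ2 x2 ∈ ⁅im p.ψ2 P2, im p.ψ2 P2⁆ := by rw [← im_comm k2 k2]; exact ev_mem_im m2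
  have j1 := y.ds_L1 hp hh (hG _ (commutator_mono le_sup_left le_sup_left w1)) r1 o1
    (.inl (ev_mem_range _)) (isConj_iff.2 ⟨_, ds_rs a1 u1 (c.sp.Gam_norm g1) (mem_C1.1 (l1 i1).2) e1⟩)
  have j2 := y.ds_L1 hp hh (hG _ (commutator_mono le_sup_right le_sup_right w2)) r2 o2
    (.inr (ev_mem_range _)) (isConj_iff.2 ⟨_, ds_rs a2 u2 (c.sp.Gam_norm g2) (mem_C1.1 (l2 i2).2) e2⟩)
  refine ds_nc hp (.inl (mul_mem j1 j2)) ⟨_, ev_mem_range x1, _, ev_mem_range x2, r1, r2, o1, o2, rfl⟩ ?_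
  rw [conj_mul]
  exact (ds_cj h _).symm

theorem ds_one (hp : p.Pur) {d : G} (hd : IsConj y.z1 d) (hS : d ∈ y.S ⊓ p.M0) : ∃ γ1 ∈ Gam B, ∃ γ2 ∈ Gam B,
    γ1 * γ1 = 1 ∧ γ2 * γ2 = 1 ∧ Act p.ψ1 d γ1 ∧ Act p.ψ2 d γ2 ∧ (γ1 = 1 ∨ γ2 = 1) := by
  obtain ⟨γ1, g1, γ2, g2, -, -, hn, a1, a2⟩ := y.act2 hS
  obtain ⟨s1, s2⟩ := hn 2 (by rw [pow_two]; exact ds_sq hd y.z1_sq)
  rw [pow_two] at s1 s2
  exact ⟨γ1, g1.1, γ2, g2.1, s1, s2, a1, a2, y.ds_both hp hd g1.1 g2.1 s1 s2 a1 a2⟩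

theorem ds_semi (hp : p.Pur) {d : G} (hd : IsConj y.z1 d) (hS : d ∈ y.S ⊓ p.M0) {β : SG F V} (hβ : β ∈ Gam B)
    (a1 : Act p.ψ1 d β) (a2 : Act p.ψ2 d 1) : fld β = 1 := by
  by_contra hs
  have d2 := ds_sq hd y.z1_sq
  set u := c.t * d * c.t with hu
  have ud : IsConj d u := isConj_iff.2 ⟨c.t, by rw [c.t_inv]⟩
  have u2 := ds_sq ud d2
  have uS : u ∈ y.S ⊓ p.M0 := ⟨mul_mem (mul_mem y.tS hS.1) y.tS, p.ds_t hS.2⟩
  have b1 : Act p.ψ1 u 1 := p.ds_act_t a2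
  have c1 : u ∈ 𝐂[p.L1] := act_one_iff.1 b1
  have c2 : d ∈ 𝐂[p.L2] := act_one_iff.1 a2
  have du : d * u = u * d := by
    obtain ⟨n, hn⟩ := pg_iff.1 y.syl.pg (d * u * d⁻¹ * u⁻¹)
      (mul_mem (mul_mem (mul_mem hS.1 uS.1) (inv_mem hS.1)) (inv_mem uS.1))
    have := p.eq_one_of_cent (g := d * u * d⁻¹ * u⁻¹)
      (mul_mem ((mem_normalizer_iff.1 (norm_cent le_rfl hS.2.1) u).1 c1) (inv_mem c1))
      (by
        rw [show d * u * d⁻¹ * u⁻¹ = d * (u * d⁻¹ * u⁻¹) by group]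
        exact mul_mem c2 ((mem_normalizer_iff.1 (norm_cent le_rfl uS.2.2) _).1 (inv_mem c2))) hn
    rw [← mul_inv_eq_one, ← this]; group
  have f2 : d * u * (d * u) = 1 := by
    rw [show d * u * (d * u) = d * (u * d) * u by group, ← du, show d * (d * u) * u = d * d * (u * u) by group,
      d2, u2, mul_one]
  have fC : d * u ∈ c.C := mem_C1.2 (by
    rw [show c.t * (d * u) = c.t * d * u by group]
    nth_rewrite 1 [du]
    rw [hu, show c.t * d * c.t * d * c.t = c.t * d * (c.t * d * c.t) by group])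
  have fa : Act p.ψ1 (d * u) β := by simpa using a1.mul b1 (fun x hx => by simpa using hx)
  obtain ⟨h, hh, hA, -⟩ := y.ds_move hp hd (StdB.pg_zpowers u2) (zpowers_le.2 (mem_C1.2 du.symm))
  obtain ⟨δ1, g1, δ2, g2, -, -, e1, e2, ho⟩ := y.ds_one hp ((hd.trans ud).trans (ds_cj h u))
    (hA (conj_mem_cj (mem_zpowers u)))
  have z1 : Act p.ψ1 y.z1 (tv B y.e 1) := act_ev y.ds_tv
  have z2 : Act p.ψ2 y.z1 1 := act_one_iff.2 (p.L1_cent y.z1_mem.2)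
  have e3 : y.z1 * (h * u * h⁻¹) = h * (d * u) * h⁻¹ := by rw [← hh, conj_mul]
  obtain ⟨E, hE, el, big⟩ := p.big (f := y.z1 * (h * u * h⁻¹)) (by rw [e3]; exact ds_sq (ds_cj h _) f2)
    (mul_mem (SU_le_Gam y.ds_tv) g1) (mul_mem (one_mem _) g2)
    (z1.mul e1 fun x hx => (mem_normalizer_iff.1 (c.sp.Gam_norm g1) x).1 hx)
    (z2.mul e2 fun x hx => (mem_normalizer_iff.1 (c.sp.Gam_norm g2) x).1 hx)
    (ho.imp (fun e => by rw [e, mul_one, fld_tv]) (fun e => by rw [e, mul_one, map_one]))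
  have := p.dsa fC f2 hβ hs fa (E := cj(h⁻¹, E))
    (fun x hx => by
      have := el _ (mem_cj.1 hx)
      exact ds_sq (isConj_iff.2 ⟨h⁻¹, by group⟩) this)
    (fun x hx => by
      have h1 := mem_C1.1 (hE (mem_cj.1 hx))
      rw [e3, inv_inv, conj_mul, conj_mul] at h1
      exact mem_C1.2 (by simpa using h1))
  rw [card_cj] at this
  omega

theorem ds_swap (hp : p.Pur) {d : G} (hd : IsConj y.z1 d) (hS : d ∈ y.S) : d ∈ p.M0 := by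
  by_contra h0
  have d2 := ds_sq hd y.z1_sq
  have di : d⁻¹ = d := inv_eq_of_mul_eq_one_right d2
  obtain ⟨f, hf, fe, fC⟩ := p.exists_diag (y.le hS) h0 d2
  obtain ⟨P, k, t, x1, m1, x2, m2, q1, q2, e12, n1, n2, n12⟩ := c.sp.four
  have i1 : x1 ∈ P := comm_le_left le_normalizer m1
  have i2 : x2 ∈ P := comm_le_left le_normalizer m2
  obtain ⟨h, hh, hA, hG⟩ := y.ds_move hp hd (im_two (ψ := f) t) ((im_le_range P).trans fC)
  have key : ∀ x ∈ P, x * x = 1 → x ≠ 1 → ev f x * ev f x = 1 ∧ p.dsMix (ev f x) ∧ IsConj d (ev f x * d) := by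
    intro x hx x2 x1
    have r : ev p.ψ1 x * ev p.ψ1 x = 1 := by rw [← ev_mul (k hx) (k hx), x2, ev_one]
    have o : ev p.ψ1 x ≠ 1 := fun e => x1 (p.ker.eq_one_of_two (k hx) e (n := 1) (by rw [pow_one, pow_two, x2]))
    have cc : IsConj (ev p.ψ1 x) (d * ev p.ψ1 x * d) := isConj_iff.2 ⟨d, by rw [di]⟩
    refine ⟨by rw [← ev_mul (k hx) (k hx), x2, ev_one], ⟨_, ev_mem_range x, d * ev p.ψ1 x * d, ?_, r, ds_sq cc r, o,
      fun e => o (isConj_one_right.1 (e ▸ cc.symm)), fe x⟩, isConj_iff.2 ⟨ev p.ψ1 x, ?_⟩⟩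
    · rw [← (p.swap (y.le hS) h0).1]
      have := conj_mem_cj (g := d) (ev_mem_range (f := p.ψ1) x)
      rwa [di] at this
    · rw [fe, inv_eq_of_mul_eq_one_right r, show ev p.ψ1 x * (d * ev p.ψ1 x * d) * d =
        ev p.ψ1 x * d * ev p.ψ1 x * (d * d) by group, d2, mul_one]
  obtain ⟨a1, b1, c1⟩ := key x1 i1 q1 n1
  obtain ⟨a2, b2, c2⟩ := key x2 i2 q2 n2
  obtain ⟨-, b3, -⟩ := key (x1 * x2) (mul_mem i1 i2)
    (by rw [show x1 * x2 * (x1 * x2) = x1 * (x2 * x1) * x2 by group, ← e12,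
      show x1 * (x1 * x2) * x2 = x1 * x1 * (x2 * x2) by group, q1, q2, mul_one])
    (fun e => n12 (by rw [← inv_eq_of_mul_eq_one_right q1]; exact inv_eq_of_mul_eq_one_right e))
  have j1 := y.ds_L2 hp hh (hG _ (by rw [← im_comm k k]; exact ev_mem_im m1)) a1 b1 c1
  have j2 := y.ds_L2 hp hh (hG _ (by rw [← im_comm k k]; exact ev_mem_im m2)) a2 b2 c2
  have j3 := mul_mem j1 j2
  have cz := mem_C1.1 (y.z1_cent (hA (conj_mem_cj (ev_mem_im i2))))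
  rw [show h * ev f x1 * h⁻¹ * y.z1 * (h * ev f x2 * h⁻¹ * y.z1) =
    h * ev f x1 * h⁻¹ * (y.z1 * (h * ev f x2 * h⁻¹)) * y.z1 by group, ← cz,
    show h * ev f x1 * h⁻¹ * (h * ev f x2 * h⁻¹ * y.z1) * y.z1 =
    h * (ev f x1 * ev f x2) * h⁻¹ * (y.z1 * y.z1) by group, y.z1_sq, mul_one, ← ev_mul (k i1) (k i2)] at j3
  exact ds_nc hp (.inr j3) b3 (ds_cj h _).symm

end Sy

end Cfg.Pd

theorem Cfg.Pd.Sy.ds {c : Cfg B q G} {p : c.Pd} (y : p.Sy) (hp : p.Pur) {g : G} (hg : g * y.z1 * g⁻¹ ∈ y.S) :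
    g * y.z1 * g⁻¹ ∈ y.S ⊓ p.L1 ∨ g * y.z1 * g⁻¹ ∈ y.S ⊓ p.L2 := by
  have hd := ds_cj g y.z1
  generalize g * y.z1 * g⁻¹ = d at hg hd
  have hS : d ∈ y.S ⊓ p.M0 := ⟨hg, y.ds_swap hp hd hg⟩
  have d2 : d ^ 2 ^ 1 = 1 := by rw [pow_one, pow_two]; exact ds_sq hd y.z1_sq
  obtain ⟨γ1, g1, γ2, g2, s1, s2, a1, a2, rfl | rfl⟩ := y.ds_one hp hd hS
  · have hf := y.ds_semi hp (d := c.t * d * c.t) (hd.trans (isConj_iff.2 ⟨c.t, by rw [c.t_inv]⟩))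
      ⟨mul_mem (mul_mem y.tS hg) y.tS, p.ds_t hS.2⟩ g2 (p.ds_act_t a2) (p.act_t.2 a1)
    have s : γ2 ^ 2 ^ 1 = 1 := by rw [pow_one, pow_two, s2]
    refine .inr ⟨hg, ?_⟩
    rw [p.eq_of_act d2 (one_mem _) (c.sp.two_mem_SU g2 hf s) (one_pow _) s a1 a2, ev_one, one_mul]
    exact ev_mem_range _
  · have hf := y.ds_semi hp hd hS g1 a1 a2
    have s : γ1 ^ 2 ^ 1 = 1 := by rw [pow_one, pow_two, s1]
    refine .inl ⟨hg, ?_⟩
    rw [p.eq_of_act d2 (c.sp.two_mem_SU g1 hf s) (one_mem _) s (one_pow _) a1 a2, ev_one, mul_one]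
    exact ev_mem_range _

end Cfsg.Agent.SUm
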