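import Mathlib
import Cfsg.Agent.SUm.Cfg3
import Cfsg.Agent.SUm.W1b
import Cfsg.Agent.SUm.W1a
import Cfsg.Agent.SUm.Sw

/-! Pure involutions are not conjugate to mixed ones. -/

set_option autoImplicit false
set_option linter.unusedSectionVars false

namespace Cfsg.Agent.SUm

open Cfsg Cfsg.Agent.Cl Cfsg.Agent.Loc.Mss Subgroup Module
open Cfsg.Agent.StdB (C1 mem_C1 El)
open scoped commutatorElement

variable {F : Type*} [Field F] [Finite F] [CharP F 2] {σ : F →+* F} {V : Type*} [AddCommGroup V] [Module F V]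
  [Finite V] {B : V →ₗ[F] V →ₛₗ[σ] F} {q : ℕ} {G : Type*} [Group G] [Finite G]

namespace W1c

theorem move (h : Sp B q) {ψ : SU B →* G} (hψ : IsE ψ) {W : Submodule F V} (hW : MaxTI B W) {x : G}
    (hx : x ∈ ψ.range) (x2 : x * x = 1) : ∃ l ∈ ψ.range, ∃ a ∈ AW B W, l * x * l⁻¹ = ev ψ a := by
  obtain ⟨a, ha, a2, rfl⟩ := hψ.exists_inv hx x2
  obtain ⟨W', hW', m⟩ := h.exists_AW ha a2
  obtain ⟨g, hg, e⟩ := h.max_conj hW' hW
  exact ⟨_, ev_mem_range g, _, e ▸ h.conj_mem_AW (SU_le_Gam hg) m, (ev_conj hg ha).symm⟩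

variable {c : Cfg B q G} {p : c.Pd}

theorem left {l a b : G} (hl : l ∈ p.L1) (hb : b ∈ p.L2) : IsConj (a * b) (l * a * l⁻¹ * b) :=
  isConj_iff.2 ⟨l, by rw [mul_assoc _ l⁻¹, ← mem_cent.1 (inv_mem (p.L1_cent hl)) b hb]; group⟩

theorem right {l a b : G} (hl : l ∈ p.L2) (ha : a ∈ p.L1) : IsConj (a * b) (a * (l * b * l⁻¹)) :=
  isConj_iff.2 ⟨l, by rw [← mul_assoc l, mem_cent.1 (p.L1_cent ha) l hl]; group⟩

theorem swap (a b : SG F V) : IsConj (ev p.ψ1 a * ev p.ψ2 b) (ev p.ψ1 b * ev p.ψ2 a) :=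
  isConj_iff.2 ⟨c.t, by rw [← conj_mul, c.t_inv, ← p.ev2, p.ev1, p.comm12]⟩

theorem core (y : p.Sy) {x a b : SG F V} (hx : x ∈ AW B y.W) (ha : a ∈ AW B y.W) (hb : b ∈ AW B y.W)
    (a1 : a ≠ 1) (b1 : b ≠ 1) (h : IsConj (ev p.ψ1 x) (ev p.ψ1 a * ev p.ψ2 b)) : False := by
  have hW := y.max.ti
  obtain ⟨j, f, e1, e2, e3, e4, hff, hn, e5⟩ := y.exists_jn
  have ne : ∀ {ψ : SU B →* G}, IsE ψ → ∀ a ∈ AW B y.W, a ≠ 1 → ev ψ a ≠ 1 := fun hψ a ha a1 e =>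
    a1 (hψ.eq_one_of_two (AW_le _ ha) e (n := 1) (by rw [pow_one, pow_two, c.sp.AW_sq hW ha]))
  have ct : ∀ a ∈ AW B y.W, ∀ b ∈ AW B y.W, IsConj (ev p.ψ1 x) (ev p.ψ1 a * ev p.ψ2 b) →
      ∃ n ∈ 𝐍[j.A1 ⊔ j.A2], n * ev p.ψ1 x * n⁻¹ = ev p.ψ1 a * ev p.ψ2 b := fun a ha b hb h => by
    obtain ⟨g, hg⟩ := isConj_iff.1 h
    rw [e1, e2, ← hg]
    exact y.ctrl (mem_sup_left (ev_mem_im hx))
      (hg ▸ mul_mem (mem_sup_left (ev_mem_im ha)) (mem_sup_right (ev_mem_im hb)))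
  have mx : ev p.ψ1 x ∈ j.A1 ∨ ev p.ψ1 x ∈ j.A2 := Or.inl (e1 ▸ ev_mem_im hx)
  have sg : ∀ a ∈ AW B y.W, ∀ b ∈ AW B y.W, a ≠ 1 → b ≠ 1 →
      IsConj (ev p.ψ1 x) (ev p.ψ1 a * ev p.ψ2 b) → Full B y.W a := fun a ha b hb a1 b1 h => by
    by_contra fa
    obtain ⟨g, hg, e⟩ := c.sp.sing_conj hW ha fa hn
    have m := c.sp.conj_mem_AW' (SU_le_Gam hg.1) hg.2 ha
    have h' := h.trans (left (ev_mem_range g) (ev_mem_range b))
    rw [← ev_conj hg.1 (AW_le _ ha)] at h'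
    obtain ⟨n, hn', e'⟩ := ct _ m b hb h'
    refine j.sing mx hn' ⟨e1 ▸ ev_mem_im m, ?_⟩ (e2 ▸ ev_mem_im hb) (ne p.ker _ m (mt conj_eq_one_iff.1 a1))
      (ne p.ker2 b hb b1) e'
    rw [e5]
    exact im_cent le_rfl (ev_mem_im (c.sp.TH_cen hW hff m e))
  obtain ⟨g, hg, e⟩ := c.sp.full_conj hW ha hb (sg a ha b hb a1 b1 h) (sg b hb a ha b1 a1 (h.trans (swap a b)))
  have h' := h.trans (left (ev_mem_range g) (ev_mem_range b))
  rw [← ev_conj hg.1 (AW_le _ ha), e] at h'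
  obtain ⟨n, hn', e'⟩ := ct b hb b hb h'
  have x1 := j.full (fun g hg m => p.not_M0 g (e4 ▸ W1b.mem_M0 y (e3 ▸ hg) (e1 ▸ m.1))) mx hn'
    (by rw [e', e4, ← p.diag12]; exact c.L_le_C (c.Ψ_mem b))
  rw [x1, mul_one, mul_inv_cancel, ← p.diag12] at e'
  exact ne c.ker b hb b1 e'.symm

end W1c

open W1c in
theorem Cfg.Pd.pur {c : Cfg B q G} (p : c.Pd) : p.Pur := by
  intro x hx a ha b hb a2 b2 a1 b1 h
  obtain ⟨y⟩ := p.exists_Sy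
  have x2 : x * x = 1 := by
    obtain ⟨g, hg⟩ := isConj_iff.1 h
    rw [← conj_eq_one_iff (a := g), ← conj_mul, hg,
      (show Commute b a from mem_cent.1 (p.L1_cent ha) b hb).mul_mul_mul_comm, a2, b2, mul_one]
  obtain ⟨l, -, x', hx', e1⟩ := move c.sp p.ker y.max hx x2
  obtain ⟨m, hm, a', ha', e2⟩ := move c.sp p.ker y.max ha a2
  obtain ⟨n, hn, b', hb', e3⟩ := move c.sp p.ker2 y.max hb b2
  refine core y hx' ha' hb' (fun e => a1 ?_) (fun e => b1 ?_) ?_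
  · rwa [e, ev_one, conj_eq_one_iff] at e2
  · rwa [e, ev_one, conj_eq_one_iff] at e3
  · have := ((isConj_iff.2 ⟨l, e1⟩).symm.trans h).trans (left hm hb)
    rw [e2] at this
    exact e3 ▸ this.trans (right hn (ev_mem_range a'))

end Cfsg.Agent.SUm
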