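import Mathlib
import Cfsg.Agent.SUm.Cfg3
import Cfsg.Agent.SUm.DS
import Cfsg.Agent.SUm.W1c
import Cfsg.Agent.SUm.BlkC

/-! The end of the product case. -/

set_option autoImplicit false
set_option linter.unusedSectionVars false

namespace Cfsg.Agent.SUm

open Cfsg Cfsg.Agent.Cl Cfsg.Agent.Loc.Mss Subgroup Module
open Cfsg.Agent.StdB (C1 mem_C1 El)
open scoped commutatorElement

variable {F : Type*} [Field F] [Finite F] [CharP F 2] {σ : F →+* F} {V : Type*} [AddCommGroup V] [Module F V]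
  [Finite V] {B : V →ₗ[F] V →ₛₗ[σ] F} {q : ℕ} {G : Type*} [Group G] [Finite G]

namespace PEnd

variable {c : Cfg B q G} (p : c.Pd) {e : V} {X : Subgroup G}

theorem one_of {g : G} {n : ℕ} (h : g ^ 2 ^ n = 1) (ho : Odd (orderOf g)) : g = 1 :=
  orderOf_eq_one_iff.1
    (Nat.Coprime.eq_one_of_dvd ((Nat.coprime_two_right.2 ho).pow_right n) (orderOf_dvd_of_pow_eq_one h))

theorem cz (he : Iso B e) {x : SG F V} (hx : x ∈ M1 B e) : ev p.ψ1 x ∈ C1 (c.z e 1) := mem_C1.2 (by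
  have h1 : Commute (ev p.ψ1 x) (ev p.ψ1 (tv B e 1)) :=
    ev_comm (M1_le e hx) (c.sp.tv_mem he.iso (map_one σ)) (mem_C1.1 (c.sp.rs_M1 he hx).2)
  rw [show c.z e 1 = _ from p.diag12 _]
  exact (h1.mul_right (p.comm12 _ _)).eq)

theorem cen (he : Iso B e) (ho : Odd (Nat.card X)) (hle : X ≤ C1 (c.z e 1)) (hn : C1 (c.z e 1) ≤ 𝐍[X]) {o : G}
    (h1 : o ∈ X) (h2 : o ∈ c.C) : o ∈ 𝐂[p.L1] ∧ o ∈ 𝐂[p.L2] := by
  have hz := c.sp.tv_mem he.iso (map_one σ)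
  have oo := ho.of_dvd_nat (X.orderOf_dvd_natCard h1)
  obtain ⟨γ, h3, h4⟩ := c.act h2
  have h5 : γ ∈ 𝐍[Qv B e] := c.sp.RW_norm ⟨h3, c.sp.norm_Q_of_cen he h3 one_ne_zero
    (h4.comm_two c.ker hz (conj_mem_SU h3 hz) (fld_SU hz) (n := 1)
      (by rw [pow_one, pow_two, c.sp.tv_sq he.iso]) (mem_C1.1 (hle h1)))⟩
  have h6 : o ∈ 𝐍[c.I (Qv B e)] := cj_eq_iff.1 (by rw [Emb.cj_im h4 (Qv_le e), cj_of_norm h5])
  have h7 : c.I (Qv B e) ≤ 𝐍[X] := fun g hg => hn (by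
    obtain ⟨x, hx, rfl⟩ := (mem_im' (Qv_le e)).1 hg
    exact mem_C1.2 (ev_comm (Qv_le e hx) hz (mem_C1.1 (c.sp.rs_M1 he (Qv_le_M1 e hx)).2)))
  have h8 : o ∈ c.K0 := c.odd_cenQ he h2 oo (mem_cent.2 fun w hw => by
    obtain ⟨n, h9⟩ := pg_iff.1 (im_two (c.sp.Qv_two he.iso)) _ (mul_mem hw (conj_mem_of_norm h6 (inv_mem hw)))
    have := one_of h9 (ho.of_dvd_nat (X.orderOf_dvd_natCard (by
      have := mul_mem (conj_mem_of_norm (h7 hw) h1) (inv_mem h1)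
      rwa [mul_assoc, mul_assoc, ← mul_assoc o] at this)))
    calc w * o = w * (o * w⁻¹ * o⁻¹) * (o * w) := by group
      _ = o * w := by rw [this, one_mul])
  exact ⟨p.odd o h8 oo, p.sym.odd o h8 oo⟩

include p in
theorem cen_u (he : Iso B e) (ho : Odd (Nat.card X)) (hle : X ≤ C1 (c.z e 1)) (hn : C1 (c.z e 1) ≤ 𝐍[X])
    {a : SG F V} (ha : a ∈ M1 B e) (a2 : a * a = 1) : c.Ψ a ∈ 𝐂[X] := by
  by_cases a1 : c.Ψ a = 1
  · rw [a1]
    exact one_mem _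
  have k : ∀ o ∈ X, o ∈ c.C → o ∈ C1 (c.Ψ a) := fun o h1 h2 => mem_C1.2 (by
    obtain ⟨h3, h4⟩ := cen p he ho hle hn h1 h2
    have h5 : Commute (ev p.ψ1 a) o := mem_cent.1 h3 _ (ev_mem_range a)
    have h6 : Commute (ev p.ψ2 a) o := mem_cent.1 h4 _ (ev_mem_range a)
    rw [p.diag12]
    exact (h5.mul_left h6).eq.symm)
  have n1 := hn (cz p he ha)
  have hu : X ≤ C1 (c.Ψ a) := by
    refine GT.le_of_four_group (s := c.t) (t := c.Ψ a) (StdB.orderOf_eq_two c.t2 c.t1)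
      (StdB.orderOf_eq_two (c.CB_two a2) a1) (fun e => c.t_notMem (e ▸ c.Ψ_mem a)) (c.t_Ψ a)
      (hn (mem_C1.2 (c.t_z e 1))) (hn ?_) (fun e => Nat.not_even_iff_odd.2 ho (even_iff_two_dvd.2 e))
      (fun o h => k o h.1 h.2) inf_le_right fun o h => ?_
    · rw [p.diag12]
      exact mul_mem (cz p he ha) (cz p.sym he ha)
    have i1 : (ev p.ψ1 a)⁻¹ = ev p.ψ1 a :=
      inv_eq_of_mul_eq_one_right (by rw [← ev_mul (M1_le e ha) (M1_le e ha), a2, ev_one])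
    have e1 : c.t * c.Ψ a = ev p.ψ1 a * c.t * (ev p.ψ1 a)⁻¹ := by
      rw [i1, c.t_Ψ, p.diag]
      simp only [mul_assoc, c.t2, mul_one]
    have h1 := conj_mem_of_norm' n1 h.1
    have h3 : (ev p.ψ1 a)⁻¹ * o * ev p.ψ1 a ∈ c.C := mem_C1.2 (by
      have := mem_C1.1 h.2
      rw [e1] at this
      calc _ = (ev p.ψ1 a)⁻¹ * (o * (ev p.ψ1 a * c.t * (ev p.ψ1 a)⁻¹)) * ev p.ψ1 a := by group
        _ = _ := by rw [this]; group)
    have h4 : (ev p.ψ1 a)⁻¹ * o * ev p.ψ1 a = o := by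
      have := mem_cent.1 (cen p he ho hle hn h1 h3).1 _ (ev_mem_range a)
      calc _ = ev p.ψ1 a * ((ev p.ψ1 a)⁻¹ * o * ev p.ψ1 a) * (ev p.ψ1 a)⁻¹ := by rw [this, mul_inv_cancel_right]
        _ = _ := by group
    exact k o h.1 (h4 ▸ h3)
  exact mem_cent.2 fun o h => mem_C1.1 (hu h)

end PEnd

open PEnd

theorem Cfg.Pd.Sy.h4 {c : Cfg B q G} {p : c.Pd} (y : p.Sy) {X : Subgroup G} (ho : Odd (Nat.card X))
    (hle : X ≤ C1 (c.z y.e 1)) (hn : C1 (c.z y.e 1) ≤ 𝐍[X]) : y.z1 ∈ 𝐂[X] := by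
  have he := y.iso
  obtain ⟨w, w', h1, h2, hp⟩ := c.sp.M1_pair he
  obtain ⟨ω, hω⟩ := c.sp.exists_omega
  have h3 : B (ω • w') y.e = 0 := by rw [map_smul, LinearMap.smul_apply, h2, smul_zero]
  have h4 : B (ω • w') (ω • w') = 0 := by simp [hp.right]
  have ha := Qv_le_M1 _ (c.sp.rs_xx he h1 hp.left)
  have hb := Qv_le_M1 _ (c.sp.rs_xx he h3 h4)
  have e := c.sp.xx_comm he.iso h1 h3
  rw [show B w (ω • w') + B (ω • w') w = 1 by simpa [hp.pair, hp.pair', add_comm] using hω] at e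
  have hu := cen_u p he ho hle hn ha (c.sp.xx_sq he.iso h1 hp.left)
  have h5 := mul_mem (inv_mem hu) (conj_mem_of_norm' (norm_cent hn (cz p he hb)) hu)
  have e' := congrArg (ev p.ψ1) e
  have a1 := M1_le _ ha
  have b1 := M1_le _ hb
  rw [ev_mul a1 b1, ev_mul (mul_mem b1 a1) (c.sp.tv_mem he.iso (map_one σ)), ev_mul b1 a1] at e'
  rw [p.diag12, p.comm12, ← mul_assoc _ (ev p.ψ2 _),
    (show Commute (ev p.ψ1 (xx B y.e (ω • w'))) (ev p.ψ2 (xx B y.e w)) from p.comm12 _ _).inv_left.eq,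
    mul_assoc _ (ev p.ψ1 (xx B y.e w)), e'] at h5
  convert h5 using 1
  rw [Cfg.Pd.Sy.z1]
  group

theorem Cfg.Pd.false {c : Cfg B q G} (p : c.Pd) {X : Subgroup G} [X.Normal] [IsSimpleGroup X]
    (hX : ∀ g, g ∈ X ∨ g * c.t ∈ X) : False := by
  obtain ⟨y⟩ := p.exists_Sy
  have he := y.iso
  have hz := c.sp.tv_mem he.iso (map_one σ)
  have n0 : y.S ⊓ p.M0 ≤ 𝐍[y.S ⊓ p.L1] :=
    norm_inf (norm_of_le inf_le_left) (inf_le_right.trans inf_le_left)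
  have dj : ∀ g ∈ y.S ⊓ p.L1, g ∈ y.S ⊓ p.L2 → g = 1 := fun g h1 h2 =>
    let ⟨_, hk⟩ := pg_iff.1 y.syl.pg g h1.1
    p.eq_one_of_mem h1.2 h2.2 hk
  have hQ : im p.ψ1 (Qv B y.e) ≤ y.S ⊓ p.L1 := le_inf y.Q_le (im_le_range _)
  refine Blk.false
    { S := y.S, U1 := y.S ⊓ p.L1, L1 := p.L1, t := c.t, z1 := y.z1, syl := y.syl, tS := y.tS, t2 := c.t2
      U1S := inf_le_left
      sw := fun s hs => (y.sw hs).imp (fun h => n0 h) fun h => n0 h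
      cm := y.cj_U ▸ p.L1_cent.trans (cent_anti inf_le_right)
      dj := y.cj_U ▸ eq_bot_iff.2 fun g hg => mem_bot.2 (dj g hg.1 hg.2)
      z2 := y.z1_sq
      zne := y.z1_ne
      zd := commutator_mono hQ hQ ((im_comm (Qv_le _) (Qv_le _)).le
        (ev_mem_im (c.sp.Zv_le_comm he (c.sp.rs_tv he (map_one σ)))))
      zc := fun s hs => (y.sw hs.1).elim (fun h => y.z1_cent h) fun h => by
        have := (mul_mem_cancel_left (mem_inf.1 hs).2).1 (n0 h)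
        exact absurd (dj _ y.z1_mem (by rw [← y.cj_U, cj_of_norm this]; exact y.z1_mem)) y.z1_ne
      sylL := y.sylL
      perf := c.sp.range_perf
      nc := fun h => y.z1_ne (one_of (n := 1) (by rw [pow_one, pow_two, y.z1_sq])
        (c.sp.cen_odd p.ker le_rfl y.z1_mem.2 (mem_cent.2 fun a ha => mem_C1.1 (h ha))))
      gen := im_self.ge.trans ((im_mono (c.sp.gen7 he)).trans (im_closure_le (fun _ h => h.1) fun g hg =>
        subset_closure ⟨ev_mem_range g, ?_⟩))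
      ds := fun g hg => y.cj_U ▸ y.ds p.pur hg
      pur := fun x hx a ha b hb => p.pur x hx.2 a ha.2 b (y.cj_U.le hb).2
      cz := fun v hv hc hle => ?_
      odd := fun X ho => y.z_eq ▸ y.h4 ho } hX
  · have h1 := (he.smul (SU_le_Gam hg.1)).iso
    have h2 := c.sp.rs_M1 he (c.sp.M1_tv h1 hg.2 (map_one σ))
    rw [Cfg.Pd.Sy.z1, ← ev_conj hg.1 hz, tv_conj (SU_le_Gam hg.1) he.iso, map_one]
    exact ev_comm hz h2.1 (mem_C1.1 h2.2).symm
  · obtain ⟨g, rfl⟩ := isConj_iff.1 hc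
    obtain ⟨x, hx, x2, e⟩ := p.ker.exists_inv hv.2 (by rw [conj_mul, y.z1_sq, mul_one, mul_inv_cancel])
    rw [← e] at hle ⊢
    obtain ⟨s, hs, w, hw, rfl⟩ := c.sp.cen_Q he (SU_le_Gam hx)
      ((c.sp.cent_act p.ker (SU_le_Gam hx) (act_ev hx) (c.sp.Qv_two he.iso) (Qv_le _)).1
        (mem_cent.2 fun a ha => mem_C1.1 (hle (hQ ha))))
    obtain ⟨a, ha, rfl⟩ := (c.sp.mem_Zv he).1 hw
    obtain rfl := c.sp.eq_of_two hs (fld_SU (Zv_le _ hw)) (n := 1) (m := 1)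
      (by rw [pow_one, pow_two, c.sp.tv_sq he.iso]) (by rw [pow_one, pow_two, x2])
    rw [one_mul] at e hx ⊢
    obtain ⟨l, rfl⟩ := c.sp.uf.exists_norm_eq ha
    have l0 : l ≠ 0 := by
      rintro rfl
      rw [zero_mul, tv_zero, ev_one, eq_comm, conj_eq_one_iff] at e
      exact y.z1_ne e
    obtain ⟨k, hk, e'⟩ := c.sp.exists_SU_iso (he.sm l0) he
    refine ⟨_, ev_mem_range k, ?_⟩
    rw [← ev_conj hk hx, ← one_mul (l * σ l), ← tv_sm, tv_conj (SU_le_Gam hk) (he.sm l0).iso, e', map_one]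
    rfl

end Cfsg.Agent.SUm
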