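import Mathlib
import Cfsg.Agent.SUm.Cfg3
import Cfsg.Agent.SUm.Can
import Cfsg.Agent.SUm.Lift

/-! The data of the product case. -/

set_option autoImplicit false
set_option linter.unusedSectionVars false

namespace Cfsg.Agent.SUm

open Cfsg Cfsg.Agent.Cl Cfsg.Agent.Loc.Mss Subgroup Module
open Cfsg.Agent.StdB (C1 mem_C1 El)
open scoped commutatorElement

variable {F : Type*} [Field F] [Finite F] [CharP F 2] {σ : F →+* F} {V : Type*} [AddCommGroup V] [Module F V]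
  [Finite V] {B : V →ₗ[F] V →ₛₗ[σ] F} {q : ℕ} {G : Type*} [Group G] [Finite G]

namespace PdMk

theorem exists_uu (h : Sp B q) {v w : V} (hv : B v v = 0) (hw : B w w = 0) (n : B v w ≠ 0) {b : F} (hb : σ b = b) :
    ∃ u u', B u u = 0 ∧ B u' u' = 0 ∧ B u w = 0 ∧ B u' w = 0 ∧ B v u = 0 ∧ B v u' = 0 ∧ B u u' + B u' u = b := by
  have n' : B w v ≠ 0 := fun e => n (h.zero_symm e)
  obtain ⟨e, f, p⟩ := h.exists_frame'' (h.herm.uHypPair (e := v) (f := (B w v)⁻¹ • w) hv (by simp [hw])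
    (by simp [h.symm, n]))
  obtain ⟨ω, hω⟩ := h.exists_omega
  refine ⟨e, (b * ω) • f, p.p2.left, by simp [p.p2.right], h.zero_symm (by simpa [n'] using p.fe), ?_, p.ee,
    by simp [p.ef], ?_⟩
  · have : B f w = 0 := h.zero_symm (by simpa [n'] using p.ff)
    simp [this]
  · simp only [map_smulₛₗ, LinearMap.smul_apply, smul_eq_mul, p.p2.pair, p.p2.pair', RingHom.id_apply, map_mul, hb]
    linear_combination b * hω

theorem range_le (h : Sp B q) {ψ : SU B →* G} {X : Subgroup G}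
    (H : ∀ v, B v v = 0 → ∀ a, σ a = a → ev ψ (tv B v a) ∈ X) : ψ.range ≤ X := by
  rw [← im_self]
  nth_rewrite 2 [h.SU_gen]
  refine im_closure_le ?_ ?_ <;> rintro _ ⟨v, a, hv, ha, rfl⟩
  exacts [h.tv_mem hv ha, H v hv a ha]

theorem act_of (h : Sp B q) {ψ : SU B →* G} {g : G} {γ : SG F V} (hγ : γ ∈ Gam B)
    (H : ∀ v, B v v = 0 → ∀ a, σ a = a → g * ev ψ (tv B v a) * g⁻¹ = ev ψ (tv B (γ • v) (fld γ a))) :
    Act ψ g γ := fun x hx => by
  rw [h.SU_gen] at hx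
  induction hx using closure_induction with
  | mem x hx =>
    obtain ⟨v, a, hv, ha, rfl⟩ := hx
    rw [tv_conj hγ hv, H v hv a ha]
  | one => simp [ev_one]
  | mul x y hx hy a b =>
    rw [← h.SU_gen] at hx hy
    rw [ev_mul hx hy, ← conj_mul, a, b, ← conj_mul, ev_mul (conj_mem_SU hγ hx) (conj_mem_SU hγ hy)]
  | inv x hx a =>
    rw [← h.SU_gen] at hx
    rw [ev_inv hx, ← conj_inv, a, ← conj_inv, ev_inv (conj_mem_SU hγ hx)]

theorem tt {t : G} (t2 : t * t = 1) {a b : G} (h : Commute a (t * b * t)) : Commute (t * a * t) b := by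
  have := congrArg (fun x => t * x * t) h.eq
  simp only [mul_assoc, t2, mul_one] at this
  simp only [← mul_assoc, t2, one_mul] at this
  exact this.trans (by group)

end PdMk

open PdMk Can

namespace Cfg.Pt

variable {c : Cfg B q G} {s : c.Pt}

theorem Rel.pd_xs (h : s.Rel 0) {e w v : V} (he : B e e = 0) (hw : B w e = 0) (hww : B w w = 0) (hv : B v e = 0)
    (hvv : B v v = 0) {a : F} (ha : σ a = a) : Commute (s.xs e w) (c.t * s.zs v a * c.t) := by
  have hX := ti2 c.sp he hv hvv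
  have kn : σ (a * (B w v * B v w)) = a * (B w v * B v w) := by simp [ha, c.sp.symm, mul_comm]
  have P2 := s.xs_sq he hw hww
  have : s.xs e w * (s.zs v a * c.z v a) * s.xs e w = s.zs v a * c.z v a := by
    rw [cjm P2, h.r3s e w v he hw hww hv hvv a ha, h.r3z e w v he hw hww hv hvv a ha, zero_mul, zero_mul, zero_smul,
      c.x_zero he, c.z_zero, add_zero, one_mul, mul_one, mul_one, mul_one,
      ac2 (Ab_comm hX) (mZ (m2 e v) ha) (mX (m1 e v) (m3 e v _)) (mZ (m1 e v) kn) (mz (m2 e v) ha)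
        (mX (m1 e v) (m3 e v _)) (mZ (m1 e v) kn), s.xs_sq he (by simp [hv]) (by simp [hvv]), s.zs_sq he kn,
      mul_one, mul_one]
  rw [s.tz v hvv a ha, Commute, SemiconjBy]
  nth_rewrite 2 [← this]
  rw [mul_assoc _ (s.xs e w), P2, mul_one]

theorem Rel.pd_eq (h : s.Rel 0) {w u u' : V} (hw : B w w = 0) (hu : B u u = 0) (hu' : B u' u' = 0) (a1 : B u w = 0)
    (a2 : B u' w = 0) : s.zs w (B u u' + B u' u) = ⁅(s.xs w u)⁻¹, (s.xs w u')⁻¹⁆ := by
  have := h.r2 w u u' hw a1 hu a2 hu'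
  rw [zero_mul, c.z_zero, mul_one] at this
  rw [commutatorElement_def, inv_inv, inv_inv, mul_assoc, this]
  group

theorem Rel.comm12 (h : s.Rel 0) {v w : V} (hv : B v v = 0) (hw : B w w = 0) {a b : F} (ha : σ a = a) (hb : σ b = b) :
    Commute (s.zs v a) (s.zs w b * c.z w b) := by
  by_cases n : B v w = 0
  · exact Commute.mul_right (s.perp v w hv (c.sp.zero_symm n) hw a b ha hb) (s.zs_z hv n hw ha hb)
  obtain ⟨u, u', h1, h2, h3, h4, h5, h6, e⟩ := exists_uu c.sp hv hw n hb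
  have k : ∀ {u}, B u u = 0 → B u w = 0 → B v u = 0 → Commute (c.t * s.zs v a * c.t) (s.xs w u)⁻¹ :=
    fun h1 h3 h5 => by
      rw [s.xs_symm hw h3 h1]
      exact (h.pd_xs h1 (c.sp.zero_symm h3) hw h5 hv ha).symm.inv_right
  rw [← s.tz w hw b hb]
  refine (tt c.t2 (Commute.symm ?_)).symm
  rw [← e, h.pd_eq hw h1 h2 h3 h4, commutatorElement_def]
  exact (((k h1 h3 h5).mul_right (k h2 h4 h6)).mul_right (k h1 h3 h5).inv_right).mul_right (k h2 h4 h6).inv_right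

theorem Rel.exists_psi (h : s.Rel 0) :
    ∃ ψ1 : SU B →* G, IsE ψ1 ∧ ∀ v, B v v = 0 → ∀ a, σ a = a → ev ψ1 (tv B v a) = s.zs v a := by
  have hs := c.sp
  have o := map_one σ
  let L1 : Subgroup G := closure {g | ∃ v a, B v v = 0 ∧ σ a = a ∧ g = s.zs v a}
  let L2 : Subgroup G := closure {g | ∃ v a, B v v = 0 ∧ σ a = a ∧ g = s.zs v a * c.z v a}
  have m1 : ∀ {v a}, B v v = 0 → σ a = a → s.zs v a ∈ L1 := fun hv ha => subset_closure ⟨_, _, hv, ha, rfl⟩
  have m2 : ∀ {v a}, B v v = 0 → σ a = a → s.zs v a * c.z v a ∈ L2 := fun hv ha => subset_closure ⟨_, _, hv, ha, rfl⟩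
  have c12 : L1 ≤ 𝐂[L2] := by
    rw [centralizer_closure]
    refine (closure_le _).2 ?_
    rintro _ ⟨v, a, hv, ha, rfl⟩ _ ⟨w, b, hw, hb, rfl⟩
    exact (h.comm12 hv hw ha hb).symm.eq
  have pf : ⁅L1, L1⁆ = L1 := by
    refine le_antisymm (comm_le_left le_normalizer) ((closure_le _).2 ?_)
    rintro _ ⟨v, a, hv, ha, rfl⟩
    by_cases v0 : v = 0
    · rw [v0, s.zs_zero_left ha]; exact one_mem _
    obtain ⟨f, p⟩ := hs.exists_pair ⟨v0, hv⟩
    obtain ⟨u, u', h1, h2, h3, h4, -, -, e⟩ := exists_uu hs p.right hv (by simp [p.pair']) ha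
    have k : ∀ {u}, B u u = 0 → B u v = 0 → (s.xs v u)⁻¹ ∈ L1 := fun h1 h3 =>
      inv_mem (mul_mem (mul_mem (m1 (PtB_iso hs hv h3 h1) o) (m1 hv o)) (m1 h1 o))
    rw [← e, h.pd_eq hv h1 h2 h3 h4]
    exact commutator_mem_commutator (k h1 h3) (k h2 h4)
  have n1 : L1 ≤ 𝐍[L2] := c12.trans (cent_le_norm _)
  have ez : ∀ {v a}, B v v = 0 → σ a = a → c.z v a = s.zs v a * (s.zs v a * c.z v a) := fun hv ha => by
    rw [← mul_assoc, s.zs_sq hv ha, one_mul]
  have nL : c.L ≤ 𝐍[L2] := range_le hs fun v hv a ha => by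
    change c.z v a ∈ _
    rw [ez hv ha]
    exact mul_mem (n1 (m1 hv ha)) (le_normalizer (m2 hv ha))
  let μ := QuotientGroup.mk' (L2.subgroupOf 𝐍[L2])
  let π0 := μ.comp (inclusion n1)
  let f0 := μ.comp (c.ψ.codRestrict _ fun x => nL ⟨x, rfl⟩)
  have e0 : ∀ {v a} (hv : B v v = 0) (ha : σ a = a), ev f0 (tv B v a) = π0 ⟨_, m1 hv ha⟩ := fun {v a} hv ha => by
    rw [ev_comp]
    refine (QuotientGroup.eq.2 (mem_subgroupOf.2 ?_)).symm
    rw [coe_mul, ev_cod]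
    change (s.zs v a)⁻¹ * c.z v a ∈ L2
    rw [inv_eq_of_mul_eq_one_right (s.zs_sq hv ha)]
    exact m2 hv ha
  have r1 : f0.range ≤ π0.range := range_le hs fun v hv a ha => ⟨_, (e0 hv ha).symm⟩
  have r2 : π0.range ≤ f0.range := by
    rintro _ ⟨⟨x, hx⟩, rfl⟩
    induction hx using closure_induction with
    | mem x hx =>
      obtain ⟨v, a, hv, ha, rfl⟩ := hx
      exact e0 hv ha ▸ ev_mem_range _
    | one => exact (map_one π0).symm ▸ one_mem _
    | mul x y hx hy a b => exact (map_mul π0 ⟨x, hx⟩ ⟨y, hy⟩).symm ▸ mul_mem a b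
    | inv x hx a => exact (map_inv π0 ⟨x, hx⟩).symm ▸ inv_mem a
  have k0 : ∀ x : L1, π0 x = 1 → x.1 ∈ L2 := fun x hx =>
    mem_subgroupOf.1 ((QuotientGroup.eq_one_iff (inclusion n1 x)).1 hx)
  have kc : ∀ x : L1, π0 x = 1 → x.1 ∈ 𝐂[L1] := fun x hx => cent_comm c12 (k0 x hx)
  let f := f0.codRestrict _ fun x => r1 ⟨x, rfl⟩
  have fs : Function.Surjective f := fun ⟨y, hy⟩ => by
    obtain ⟨x, rfl⟩ := r2 hy
    exact ⟨x, rfl⟩
  have fE : IsE f := hs.isE_of_ne fun e => by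
    have : L1 ≤ 𝐂[L1] := fun x hx => kc ⟨x, hx⟩ (by
      obtain ⟨y, hy⟩ := fs (π0.rangeRestrict ⟨x, hx⟩)
      have : f y = 1 := mem_bot.1 (e ▸ ⟨y, rfl⟩)
      exact congrArg Subtype.val (hy.symm.trans this))
    rw [← commutator_eq_bot_iff_le_centralizer, pf] at this
    obtain ⟨e, he⟩ := hs.exists_iso
    have e1 := s.tz e he.iso 1 o
    rw [show s.zs e 1 = 1 from mem_bot.1 (this ▸ m1 he.iso o), mul_one, c.t2, one_mul, eq_comm, c.z_eq_one he o] at e1
    exact one_ne_zero e1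
  obtain ⟨f', s', e'⟩ := hs.lift π0.rangeRestrict π0.rangeRestrict_surjective
    (fun x hx => mem_center_iff.2 fun y => Subtype.ext (mem_cent.1 (kc x (congrArg Subtype.val hx)) y y.2))
    (by
      rw [← map_subtype_inj, map_subtype_commutator, pf, ← MonoidHom.range_eq_map, range_subtype]) f fs fE
  have e'' : ∀ x, π0 (ev f' x) = ev f0 x := fun x => by
    rw [← ev_cod f0 _ (fun x => r1 ⟨x, rfl⟩), show f0.codRestrict _ _ = f from rfl, ← e', ev_comp]
    rfl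
  have hE : IsE (L1.subtype.comp f') := fun x hx e => fE x hx (by
    rw [ev_comp] at e
    rw [← e', ev_comp, show ev f' x = 1 from Subtype.ext e, map_one])
  have hr : (L1.subtype.comp f').range = L1 := by
    rw [MonoidHom.range_comp, MonoidHom.range_eq_top.2 s', ← MonoidHom.range_eq_map, range_subtype]
  refine ⟨_, hE, fun v hv a ha => ?_⟩
  have y2 : ev (L1.subtype.comp f') (tv B v a) * ev (L1.subtype.comp f') (tv B v a) = 1 := by
    rw [← ev_mul (hs.tv_mem hv ha) (hs.tv_mem hv ha), hs.tv_sq hv, ev_one]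
  have kk := kc ((ev f' (tv B v a))⁻¹ * ⟨_, m1 hv ha⟩) (by rw [map_mul, map_inv, e'', e0 hv ha, inv_mul_cancel])
  have od := hs.cen_odd hE le_rfl (hr.ge ((ev f' (tv B v a))⁻¹ * ⟨_, m1 hv ha⟩).2) (hr.symm ▸ kk)
  rw [ev_comp] at y2 ⊢
  have ym := (ev f' (tv B v a)).2
  change (ev f' (tv B v a)).1⁻¹ * s.zs v a ∈ _ at kk
  change Odd (orderOf ((ev f' (tv B v a)).1⁻¹ * s.zs v a)) at od
  change (ev f' (tv B v a)).1 * (ev f' (tv B v a)).1 = 1 at y2
  change (ev f' (tv B v a)).1 = _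
  generalize (ev f' (tv B v a)).1 = y at *
  refine inv_mul_eq_one.1 (odd_one od ?_)
  have : y⁻¹ * s.zs v a * (y⁻¹ * s.zs v a) = 1 := by
    rw [← mul_assoc, ← mem_cent.1 kk _ (inv_mem ym), mul_assoc, mul_assoc, s.zs_sq hv ha, mul_one, ← mul_inv_rev, y2,
      inv_one]
  rw [this, mul_one]

theorem Rel.pd (h : s.Rel 0) (h2 : c.Two) : Nonempty c.Pd := by
  have hs := c.sp
  obtain ⟨ψ1, hE, e⟩ := h.exists_psi
  have cm : ∀ x y : SG F V, Commute (ev ψ1 x) (c.t * ev ψ1 y * c.t) := fun x y =>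
    mem_C1.1 (range_le hs (X := C1 (c.t * ev ψ1 y * c.t)) (fun v hv a ha => mem_C1.2 (by
      rw [e v hv a ha]
      refine (tt c.t2 (mem_C1.1 (range_le hs (X := C1 (c.t * s.zs v a * c.t)) (fun w hw b hb => mem_C1.2 ?_)
        (ev_mem_range y)))).symm.eq
      rw [e w hw b hb, s.tz v hv a ha]
      exact (h.comm12 hw hv hb ha).eq)) (ev_mem_range x))
  have ez : ∀ {v a}, B v v = 0 → σ a = a → c.z v a = s.zs v a * (c.t * s.zs v a * c.t) := fun hv ha => by
    rw [s.tz _ hv _ ha, ← mul_assoc, s.zs_sq hv ha, one_mul]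
  refine ⟨⟨ψ1, hE, fun x y => (cm x y).eq, fun x => ?_, fun o ho od => ?_, fun g hg γ hγ ha => ?_,
    fun v hv y hy y2 a ha a0 e1 => ?_⟩⟩
  · by_cases hx : x ∈ SU B
    swap
    · simp only [Cfg.Ψ, ev, dif_neg hx, mul_one, c.t2]
    rw [hs.SU_gen] at hx
    induction hx using closure_induction with
    | mem x hx =>
      obtain ⟨v, a, hv, ha, rfl⟩ := hx
      rw [e v hv a ha]
      exact ez hv ha
    | one => simp only [Cfg.Ψ, ev_one, mul_one, c.t2]
    | mul x y hx hy a b =>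
      rw [← hs.SU_gen] at hx hy
      rw [Cfg.Ψ] at a b
      rw [Cfg.Ψ, ev_mul hx hy, ev_mul hx hy, a, b, cjm c.t2, (cm y x).symm.mul_mul_mul_comm]
    | inv x hx a =>
      rw [← hs.SU_gen] at hx
      rw [Cfg.Ψ] at a
      rw [Cfg.Ψ, ev_inv hx, ev_inv hx, a, (cm x x).eq]
      simp only [mul_inv_rev, c.t_inv, mul_assoc]
  · exact mem_cent.2 fun g hg => mem_C1.1 (range_le hs (X := C1 o) (fun v hv a ha => mem_C1.2 (by
      rw [e v hv a ha, s.odd o ho od v hv a ha])) hg)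
  · obtain ⟨ξ, -, e1, e2⟩ := h.can2 h2 hg hγ ha
    rw [map_zero, zero_add, eq_comm, CharTwo.add_eq_zero, eq_comm] at e1
    refine (eq_zero_or_one_of_sq_eq_self ((sq ξ).trans e1)).imp (fun e1 => act_of hs hγ fun v hv a ka => ?_) fun e1 => act_of hs hγ fun v hv a ka => ?_
    all_goals
      have hv' := (Gam_zero hγ).2 hv
      have ka' := hs.aut_fix (fld γ) ka
      have e3 := e2 v hv a ka
      rw [e v hv a ka, e _ hv' _ ka']
    · rw [e3, e1, zero_mul, c.z_zero, mul_one]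
    · rw [e1, one_mul, ← s.tz _ hv' _ ka'] at e3
      rw [mem_C1.1 hg, mul_inv_rev, c.t_inv, mul_assoc c.t g, mul_assoc c.t, ← mul_assoc _ g⁻¹, e3]
      simp only [← mul_assoc, c.t2, one_mul]
      rw [mul_assoc, c.t2, mul_one]
  · obtain ⟨b, hb, rfl⟩ := can1 (s := s) h2 hv hy y2 ha a0 e1
    have m : ∀ {a}, σ a = a → s.zs v a ∈ ψ1.range := fun ha => e v hv.iso _ ha ▸ ev_mem_range _
    rw [ez hv.iso hb]
    refine mul_mem (mem_sup_left (m ha)) (mul_mem_sup (m hb) ?_)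
    nth_rewrite 3 [← c.t_inv]
    exact conj_mem_cj (m hb)

end Cfg.Pt

end Cfsg.Agent.SUm
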