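import Mathlib
import Cfsg.Agent.SUm.Fus2
import Cfsg.Agent.SUm.TLift
import Cfsg.Agent.SUm.FdMk
import Cfsg.Agent.SUm.FE2
import Cfsg.Agent.SUm.PdMk
import Cfsg.Agent.SUm.PEnd

set_option autoImplicit false
set_option linter.unusedSectionVars false

namespace Cfsg.Agent.SUm

open Cfsg Cfsg.Agent.Cl Cfsg.Agent.Loc.Mss Subgroup Module
open Cfsg.Agent.StdB (C1 mem_C1 El)

variable {F : Type*} [Field F] [Finite F] [CharP F 2] {σ : F →+* F} {V : Type*} [AddCommGroup V] [Module F V]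
  [Finite V] {B : V →ₗ[F] V →ₛₗ[σ] F} {q : ℕ} {G : Type*} [Group G] [Finite G]

theorem Cfg.core0 (c : Cfg B q G) {X : Subgroup G} [X.Normal] [IsSimpleGroup X] (hX : ∀ g, g ∈ X ∨ g * c.t ∈ X)
    (hL : c.L ≤ X) (hn : ¬ X ≤ c.C) :
    Nonempty (X ≃* Matrix.ProjectiveSpecialLinearGroup (Fin (finrank F V)) F) ∧
      ∃ y ∈ X, y * y = 1 ∧ Commute y (c.t * y * c.t) ∧ y * (c.t * y * c.t) ∈ c.L ∧ y * (c.t * y * c.t) ≠ 1 := by
  obtain ⟨e, hf⟩ := Cfg.exists_fus hL hn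
  obtain ⟨s, δ, h⟩ := Cfg.exists_rel hf
  rcases c.sp.exists_theta h.hδ with ⟨ξ, hξ, rfl⟩ | ⟨θ, hθ, rfl⟩
  · obtain ⟨s', h'⟩ := h.shift hξ
    obtain ⟨p⟩ := h'.pd hf.two
    exact (p.false hX).elim
  · obtain ⟨f⟩ := Cfg.Pt.RF.fd ⟨h, hθ⟩ hf.two
    exact f.fin hX hL

theorem Cfg.core (c : Cfg B q G) {X : Subgroup G} [X.Normal] [IsSimpleGroup X] (hL : c.L ≤ X) (hn : ¬ X ≤ c.C) :
    Nonempty (X ≃* Matrix.ProjectiveSpecialLinearGroup (Fin (finrank F V)) F) ∧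
      ∃ y ∈ X, y * y = 1 ∧ Commute y (c.t * y * c.t) ∧ y * (c.t * y * c.t) ∈ c.L ∧ y * (c.t * y * c.t) ≠ 1 := by
  let H : Subgroup G := X ⊔ zpowers c.t
  have hLH : c.L ≤ H := hL.trans le_sup_left
  have htH : c.t ∈ H := mem_sup_right (mem_zpowers c.t)
  have e1 := subgroupOfEquivOfLe (le_sup_left : X ≤ H)
  have : IsSimpleGroup (X.subgroupOf H) := e1.isSimpleGroup
  obtain ⟨⟨f⟩, y, hy, y2, h2, h3, h4⟩ := (c.sub H hLH htH).core0 (X := X.subgroupOf H) (fun g => by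
    obtain ⟨x, hx, a, ha, e⟩ := (mem_sup_norm (norm_normal (zpowers c.t) X)).1 g.2
    rcases (StdB.mem_zpowers_two c.t2).1 ha with rfl | rfl
    · left; rw [mem_subgroupOf, ← e, mul_one]; exact hx
    · right; rw [mem_subgroupOf]; show (g : G) * c.t ∈ X; rw [← e, mul_assoc, c.t2, mul_one]; exact hx)
    (by rw [Cfg.sub_L]; exact fun g hg => hL hg)
    fun h => hn fun x hx => mem_C1.2 (congrArg Subtype.val (mem_C1.1 (h (show (⟨x, mem_sup_left hx⟩ : H) ∈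
      X.subgroupOf H from hx))))
  rw [Cfg.sub_L] at h3
  exact ⟨⟨e1.symm.trans f⟩, y, hy, congrArg Subtype.val y2, congrArg Subtype.val h2.eq, h3,
    fun e => h4 (Subtype.ext e)⟩

end Cfsg.Agent.SUm
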